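import Mathlib

/-!
# Transvections in a group of automorphisms whose Sylow 2-subgroups have order two

Three of them at most, so all their axes meet in a subgroup of index at most four.
-/

set_option autoImplicit false
set_option linter.unusedSectionVars false

namespace Cfsg.Agent.Fus.TwoModFour

open Subgroup

universe u

variable {V : Type u} [CommGroup V]

/-- `σ` fixes the index-two subgroup `P` and moves every other element by the involution `z ∈ P`. -/
structure Tv (σ : MulAut V) (P : Subgroup V) (z : V) : Prop where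
  index : P.index = 2
  mem : z ∈ P
  ne : z ≠ 1
  sq : z * z = 1
  fix : ∀ v ∈ P, σ v = v
  move : ∀ v, v ∉ P → σ v = v * z

theorem Tv.fix_iff {σ : MulAut V} {P : Subgroup V} {z : V} (h : Tv σ P z) {v : V} : σ v = v ↔ v ∈ P := by
  refine ⟨fun e => ?_, h.fix v⟩
  by_contra hv
  rw [h.move v hv, mul_eq_left] at e
  exact h.ne e

theorem Tv.conj {σ : MulAut V} {P : Subgroup V} {z : V} (h : Tv σ P z) (r : MulAut V) :
    Tv (r * σ * r⁻¹) (P.map r.toMonoidHom) (r z) where
  index := by rw [Subgroup.index_map_of_bijective r.bijective, h.index]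
  mem := ⟨z, h.mem, rfl⟩
  ne := fun e => h.ne (r.injective (e.trans (map_one r).symm))
  sq := by rw [← map_mul, h.sq, map_one]
  fix := by
    rintro _ ⟨p, hp, rfl⟩
    show r (σ (r.symm (r p))) = r p
    rw [MulEquiv.symm_apply_apply, h.fix p hp]
  move := fun v hv => by
    have hp : r.symm v ∉ P := fun hp => hv ⟨r.symm v, hp, MulEquiv.apply_symm_apply r v⟩
    show r (σ (r.symm v)) = v * r z
    rw [h.move _ hp, map_mul, MulEquiv.apply_symm_apply]

theorem Tv.mul_self {σ : MulAut V} {P : Subgroup V} {z : V} (h : Tv σ P z) : σ * σ = 1 := by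
  refine MulEquiv.ext fun v => ?_
  show σ (σ v) = v
  by_cases hv : v ∈ P
  · rw [h.fix v hv, h.fix v hv]
  · rw [h.move v hv, map_mul, h.move v hv, h.fix z h.mem, mul_assoc, h.sq, mul_one]

theorem Tv.ne_one {σ : MulAut V} {P : Subgroup V} {z : V} (h : Tv σ P z) : σ ≠ 1 := fun e => by
  have htop : P = ⊤ := eq_top_iff.2 fun v _ => h.fix_iff.1 (by rw [e]; rfl)
  have := h.index
  rw [htop, index_top] at this
  omega

/-- Mutually fixed centres give commuting transvections. -/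
theorem Tv.commute {σ τ : MulAut V} {P Q : Subgroup V} {y z : V} (h : Tv σ P y) (k : Tv τ Q z)
    (hy : y ∈ Q) (hz : z ∈ P) : σ * τ = τ * σ := by
  refine MulEquiv.ext fun v => ?_
  show σ (τ v) = τ (σ v)
  by_cases hP : v ∈ P <;> by_cases hQ : v ∈ Q
  · rw [k.fix v hQ, h.fix v hP, k.fix v hQ]
  · rw [k.move v hQ, map_mul, h.fix v hP, h.fix z hz, k.move v hQ]
  · rw [k.fix v hQ, h.move v hP, map_mul, k.fix v hQ, k.fix y hy]
  · rw [k.move v hQ, map_mul, h.move v hP, h.fix z hz, map_mul, k.move v hQ, k.fix y hy, mul_right_comm]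

variable {R : Subgroup (MulAut V)}

/-- Two commuting involutions of the group are equal. -/
theorem eq_of_commute [Finite R] (hR : ¬ 4 ∣ Nat.card R) {σ τ : MulAut V} (hσR : σ ∈ R) (hτR : τ ∈ R)
    (hσ : σ * σ = 1) (hτ : τ * τ = 1) (hσ1 : σ ≠ 1) (hτ1 : τ ≠ 1) (hc : σ * τ = τ * σ) : σ = τ := by
  by_contra hne
  let W : Subgroup R :=
    { carrier := {1, ⟨σ, hσR⟩, ⟨τ, hτR⟩, ⟨σ * τ, mul_mem hσR hτR⟩}
      one_mem' := Or.inl rfl
      mul_mem' := by
        have e1 : ∀ a, σ * (σ * a) = a := fun a => by rw [← mul_assoc, hσ, one_mul]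
        have e2 : τ * (σ * τ) = σ := by rw [hc, ← mul_assoc, hτ, one_mul]
        have e3 : σ * τ * σ = τ := by rw [hc, mul_assoc, hσ, mul_one]
        have e4 : σ * τ * τ = σ := by rw [mul_assoc, hτ, mul_one]
        have e5 : σ * τ * (σ * τ) = 1 := by rw [← mul_assoc, e3, hτ]
        rintro a b (rfl | rfl | rfl | rfl) (rfl | rfl | rfl | rfl) <;>
          simp [Subtype.ext_iff, hσ, hτ, ← hc, e1, e2, e3, e4, e5]
      inv_mem' := by
        have hσi : σ⁻¹ = σ := inv_eq_of_mul_eq_one_right hσ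
        have hτi : τ⁻¹ = τ := inv_eq_of_mul_eq_one_right hτ
        rintro a (rfl | rfl | rfl | rfl) <;> simp [Subtype.ext_iff, hσi, hτi, ← hc] }
  refine hR ?_
  have h4 : Nat.card W = 4 := by
    have hst : σ * τ ≠ 1 := fun e => hne (mul_left_cancel (hσ.trans e.symm))
    show Nat.card ↥({1, ⟨σ, hσR⟩, ⟨τ, hτR⟩, ⟨σ * τ, mul_mem hσR hτR⟩} : Set R) = 4
    rw [Nat.card_coe_set_eq]
    have d1 : (1 : R) ∉ ({⟨σ, hσR⟩, ⟨τ, hτR⟩, ⟨σ * τ, mul_mem hσR hτR⟩} : Set R) := by
      simp [Subtype.ext_iff, Ne.symm hσ1, Ne.symm hτ1, Ne.symm hst]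
    have d2 : (⟨σ, hσR⟩ : R) ∉ ({⟨τ, hτR⟩, ⟨σ * τ, mul_mem hσR hτR⟩} : Set R) := by
      simp [Subtype.ext_iff, hne, hτ1]
    have d3 : (⟨τ, hτR⟩ : R) ∉ ({⟨σ * τ, mul_mem hσR hτR⟩} : Set R) := by
      simp [Subtype.ext_iff, hσ1]
    rw [Set.ncard_insert_of_notMem d1 (Set.toFinite _), Set.ncard_insert_of_notMem d2 (Set.toFinite _),
      Set.ncard_insert_of_notMem d3 (Set.toFinite _), Set.ncard_singleton]
  exact h4 ▸ W.card_subgroup_dvd_card

/-- A centre of one is off the axis of the other. -/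
theorem Tv.not_mem [Finite R] (hR : ¬ 4 ∣ Nat.card R) {σ τ : MulAut V} {P Q : Subgroup V} {y z : V}
    (h : Tv σ P y) (k : Tv τ Q z) (hσ : σ ∈ R) (hτ : τ ∈ R) (hne : P ≠ Q) : y ∉ Q := by
  have key : ∀ {α β : MulAut V} {A B : Subgroup V} {a b : V}, Tv α A a → Tv β B b → α ∈ R → β ∈ R → A ≠ B →
      a ∈ B → b ∈ A → False := by
    intro α β A B a b hA hB hα hβ hAB ha hb
    have e := eq_of_commute hR hα hβ hA.mul_self hB.mul_self hA.ne_one hB.ne_one (hA.commute hB ha hb)
    exact hAB (ext fun v => by rw [← hA.fix_iff, ← hB.fix_iff, e])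
  intro hy
  by_cases hz : z ∈ P
  · exact key h k hσ hτ hne hy hz
  -- the conjugate of `σ` by `τ` has the same centre and another axis
  have h' := h.conj τ
  obtain ⟨p, hpP, hpQ⟩ : ∃ p ∈ P, p ∉ Q := by
    by_contra hno
    push Not at hno
    refine hne (le_antisymm hno fun q hq => ?_)
    by_contra hqP
    have h1 := relIndex_mul_index (show P ≤ Q from hno)
    rw [h.index, k.index] at h1
    exact hqP (relIndex_eq_one.1 (by omega) hq)
  refine key h h' hσ (mul_mem (mul_mem hτ hσ) (inv_mem hτ)) (fun e => ?_) ?_ ?_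
  · have : τ p ∈ P := e.symm ▸ ⟨p, hpP, rfl⟩
    rw [k.move p hpQ, mul_mem_cancel_left hpP] at this
    exact hz this
  · exact ⟨y, h.mem, k.fix y hy⟩
  · rw [k.fix y hy]; exact h.mem

/-- The elements whose orbit stays in the axis. -/
def orbitCore (R : Subgroup (MulAut V)) (P : Subgroup V) : Subgroup V where
  carrier := {v | ∀ r ∈ R, r v ∈ P}
  one_mem' := fun r _ => by rw [map_one]; exact one_mem _
  mul_mem' := fun {v w} hv hw r hr => by rw [map_mul]; exact mul_mem (hv r hr) (hw r hr)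
  inv_mem' := fun {v} hv r hr => by rw [map_inv]; exact inv_mem (hv r hr)

/-- The axes meet in a subgroup of index at most four. -/
theorem index_orbitCore_le [Finite R] (hR : ¬ 4 ∣ Nat.card R) {τ : MulAut V} {P : Subgroup V} {z : V}
    (h : Tv τ P z) (hτ : τ ∈ R) : (orbitCore R P).index ≤ 4 ∧ (orbitCore R P).index ≠ 0 := by
  by_cases hinv : ∀ r ∈ R, ∀ v ∈ P, r v ∈ P
  · have e : orbitCore R P = P := ext fun v => ⟨fun hv => hv 1 (one_mem _), fun hv r hr => hinv r hr v hv⟩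
    rw [e, h.index]
    omega
  push Not at hinv
  obtain ⟨r₀, hr₀, v₀, hv₀, hv₀'⟩ := hinv
  set Q := P.map r₀.toMonoidHom with hQ
  have hPQ : P ≠ Q := fun e => hv₀' (e.symm ▸ ⟨v₀, hv₀, rfl⟩)
  have hσ := h.conj r₀
  have hσR : r₀ * τ * r₀⁻¹ ∈ R := mul_mem (mul_mem hr₀ hτ) (inv_mem hr₀)
  have hzQ := h.not_mem hR hσ hτ hσR hPQ
  have hyP := hσ.not_mem hR h hσR hτ hPQ.symm
  -- every axis contains the intersection of these two
  have hall : ∀ r ∈ R, P ⊓ Q ≤ P.map r.toMonoidHom := by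
    intro r hr
    have hρ := h.conj r
    have hρR : r * τ * r⁻¹ ∈ R := mul_mem (mul_mem hr hτ) (inv_mem hr)
    set X := P.map r.toMonoidHom
    rcases eq_or_ne X P with e | hXP
    · rw [e]; exact inf_le_left
    rcases eq_or_ne X Q with e | hXQ
    · rw [e]; exact inf_le_right
    have hσ' := hσ.conj τ
    have e : X = Q.map τ.toMonoidHom := by
      by_contra hne
      refine hρ.not_mem hR hσ' hρR (mul_mem (mul_mem hτ hσR) (inv_mem hτ)) hne ⟨r z * z, ?_, ?_⟩
      · exact (Subgroup.mul_mem_iff_of_index_two hσ.index).2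
          (iff_of_false (hρ.not_mem hR hσ hρR hσR hXQ) hzQ)
      · show τ (r z * z) = r z
        rw [map_mul, h.move _ (hρ.not_mem hR h hρR hτ hXP), h.fix z h.mem, mul_assoc, h.sq, mul_one]
    rw [e]
    exact fun v hv => ⟨v, hv.2, h.fix v hv.1⟩
  have hle : P ⊓ Q ≤ orbitCore R P := fun v hv r hr => by
    obtain ⟨p, hp, e⟩ := hall r⁻¹ (inv_mem hr) hv
    have e' : r⁻¹ p = v := e
    rw [← e', MulAut.apply_inv_self]
    exact hp
  have h1 := index_inf_le (H := P) (K := Q)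
  rw [h.index, hσ.index] at h1
  have h2 : (P ⊓ Q).index ≠ 0 := index_inf_ne_zero (by rw [h.index]; norm_num) (by rw [hσ.index]; norm_num)
  have h3 := index_dvd_of_le hle
  exact ⟨(Nat.le_of_dvd (Nat.pos_of_ne_zero h2) h3).trans (h1.trans (by norm_num)),
    fun e => h2 (Nat.eq_zero_of_zero_dvd (e ▸ h3))⟩

end Cfsg.Agent.Fus.TwoModFour
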