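import Cfsg.Agent.Lib.Fus.TwoModFour.AbRankBase
import Cfsg.Agent.Lib.Fus.TwoModFour.Transvection

/-!
# Flat subgroups when the centre is elementary abelian

An elementary flat subgroup `H` meets all the conjugates of the centre under its normaliser in a subgroup
of index at most four.
-/

set_option autoImplicit false
set_option linter.unusedSectionVars false
set_option linter.style.haveILetI false

namespace Cfsg.Agent.Fus.TwoModFour

open Subgroup
open Cfsg.Agent.Invol.StrongAlperin (Good)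

universe u

variable {G : Type u} [Group G] [Finite G] {S : Sylow 2 G} {A : Subgroup G} {w : G}

/-- The elements of the centre that stay central under the normaliser of `H`. -/
def core (A : Subgroup G) (w : G) (H : Subgroup G) : Subgroup G where
  carrier := {v | v ∈ cen A w ∧ ∀ x ∈ normalizer (H : Set G), x * v * x⁻¹ ∈ cen A w}
  one_mem' := ⟨one_mem _, fun x _ => by simp⟩
  mul_mem' := fun {p q} hp hq => ⟨mul_mem hp.1 hq.1, fun x hx => by
    rw [show x * (p * q) * x⁻¹ = (x * p * x⁻¹) * (x * q * x⁻¹) by group]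
    exact mul_mem (hp.2 x hx) (hq.2 x hx)⟩
  inv_mem' := fun {p} hp => ⟨inv_mem hp.1, fun x hx => by
    rw [show x * p⁻¹ * x⁻¹ = (x * p * x⁻¹)⁻¹ by group]
    exact inv_mem (hp.2 x hx)⟩

theorem core_le : ∀ H : Subgroup G, core A w H ≤ cen A w := fun _ _ hv => hv.1

/-- The centre of an elementary abelian flat subgroup has twice the size of its core at most. -/
theorem card_cen_le_core (D : AB S A w) {H : Subgroup G} (hf : Flat S A w H) {a₀ z : G} (ha₀ : a₀ ∈ A)
    (hz : dl w a₀ = z) (hz1 : z ≠ 1) (honly : ∀ a ∈ A, dl w a ∈ cen A w → dl w a = 1 ∨ dl w a = z)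
    (hC : ∀ c ∈ cen A w, c * c = 1) (hzC : z ∈ cen A w) {e : G} (he : e ∈ H) (heA : e ∉ A) (he2 : e * e = 1) :
    Nat.card ↥(cen A w) ≤ 2 * Nat.card ↥(core A w H) := by
  classical
  haveI : Fact (Nat.Prime 2) := ⟨Nat.prime_two⟩
  have hg := hf.1
  have hCH : cen A w ≤ H := D.cen_le_good hg
  have heC : e ∉ cen A w := fun h => heA (mem_cen.1 h).1
  have hHe : ∀ p ∈ H, p ∉ cen A w → p * e⁻¹ ∈ cen A w := fun p hp hpC =>
    ((D.flat_mem_iff hf he heA p).1 hp).resolve_left hpC
  letI : CommGroup ↥H :=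
    { (inferInstance : Group ↥H) with mul_comm := fun p q => Subtype.ext (D.flat_comm hf p.2 q.2) }
  let P : Subgroup ↥H := (cen A w).subgroupOf H
  have hP : P.index = 2 := index_eq_two_iff.2 ⟨⟨e, he⟩, fun p => by
    by_cases hp : p ∈ P
    · exact Or.inr ⟨hp, fun h => heC ((mul_mem_cancel_left (show (p : G) ∈ cen A w from hp)).1 h)⟩
    · refine Or.inl ⟨?_, hp⟩
      show (p : G) * e ∈ cen A w
      have h1 := hHe p p.2 hp
      rwa [show e⁻¹ = e from inv_eq_of_mul_eq_one_right he2] at h1⟩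
  -- the Sylow subgroup of the normaliser
  let N := normalizer (H : Set G)
  have hQ : ∀ p ∈ (S : Subgroup G) ⊓ N, p ∉ H → ∀ q ∈ (S : Subgroup G) ⊓ N, q ∉ H → p * q ∈ H := by
    -- up to `H`, such an element lies in `A` with commutator `z`
    have key : ∀ p ∈ (S : Subgroup G) ⊓ N, p ∉ H → ∃ a ∈ A, dl w a = z ∧ ∃ h ∈ H, p = a * h := by
      intro p hp hpH
      have aux : ∀ a ∈ A, a ∈ N → a ∉ H → dl w a = z := by
        intro a ha haN haH
        have h1 : dl w a * e ∈ H := D.conj_by (hg.le he) heA ha ▸ (mem_normalizer_iff.1 haN e).1 he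
        have h2 : dl w a ∈ H := by
          have := mul_mem h1 (inv_mem he)
          rwa [mul_inv_cancel_right] at this
        exact (honly a ha (hf.2.2 _ h2 (D.dl_mem ha))).resolve_left
          fun h3 => haH (hCH ((D.dl_eq_one_iff ha).1 h3))
      by_cases hpA : p ∈ A
      · exact ⟨p, hpA, aux p hpA hp.2 hpH, 1, one_mem _, (mul_one p).symm⟩
      · have h1 : p * e ∈ A := (D.mul_mem_iff hp.1 (hg.le he)).2 (iff_of_false hpA heA)
        refine ⟨p * e, h1, aux _ h1 (mul_mem hp.2 (le_normalizer he)) (fun h => hpH ?_), e, he, by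
          rw [mul_assoc, he2, mul_one]⟩
        have := mul_mem h (inv_mem he)
        rwa [mul_inv_cancel_right] at this
    intro p hp hpH q hq hqH
    obtain ⟨a, ha, hda, h, hh, rfl⟩ := key p hp hpH
    obtain ⟨b, hb, hdb, k, hk, rfl⟩ := key q hq hqH
    have hab : a * b ∈ cen A w := by
      refine (D.dl_eq_one_iff (mul_mem ha hb)).1 ?_
      rw [D.dl_mul ha hb, hda, hdb, hC z hzC]
    have hbN : b ∈ N := by
      have := mul_mem hq.2 (N.inv_mem (le_normalizer hk))
      rwa [mul_inv_cancel_right] at this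
    have hh' : b⁻¹ * h * b ∈ H := by
      have := (mem_normalizer_iff.1 (inv_mem hbN) h).1 hh
      rwa [inv_inv] at this
    rw [show a * h * (b * k) = (a * b) * (b⁻¹ * h * b * k) by group]
    exact mul_mem (hCH hab) (mul_mem hh' hk)
  have hidx : H.relIndex ((S : Subgroup G) ⊓ N) ≤ 2 := by
    by_cases hex : ∃ p ∈ (S : Subgroup G) ⊓ N, p ∉ H
    · obtain ⟨p, hp, hpH⟩ := hex
      refine le_of_eq (relIndex_eq_two_iff.2 ⟨p, hp, fun q hq => ?_⟩)
      by_cases hqH : q ∈ H
      · exact Or.inr ⟨hqH, fun h => hpH ((mul_mem_cancel_left hqH).1 h)⟩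
      · exact Or.inl ⟨hQ q hq hqH p hp hpH, hqH⟩
    · push Not at hex
      rw [relIndex_eq_one.2 hex]
      norm_num
  have hfour : ¬ 4 ∣ H.relIndex N := by
    intro h
    rw [← relIndex_mul_relIndex H ((S : Subgroup G) ⊓ N) N (le_inf hg.le le_normalizer) inf_le_right] at h
    have hodd : ¬ 2 ∣ ((S : Subgroup G) ⊓ N).relIndex N := hg.full
    have h0 : H.relIndex ((S : Subgroup G) ⊓ N) ≠ 0 := index_ne_zero_of_finite
    rcases (show H.relIndex ((S : Subgroup G) ⊓ N) = 1 ∨ H.relIndex ((S : Subgroup G) ⊓ N) = 2 by omega)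
      with e1 | e1 <;> rw [e1] at h <;> omega
  let f : ↥N →* MulAut ↥H := normalizerMonoidHom H
  have hf' : ∀ (k : ↥N) (p : ↥H), ((f k p : ↥H) : G) = (k : G) * p * (k : G)⁻¹ := fun k p => rfl
  have hR : ¬ 4 ∣ Nat.card ↥f.range := not_four_dvd_image f (le_normalizer (H := H)) (fun a ha => by
      refine MonoidHom.mem_ker.2 (MulEquiv.ext fun p => Subtype.ext ?_)
      rw [hf']
      show (a : G) * p * (a : G)⁻¹ = p
      have h9 : (a : G) * (p : G) = (p : G) * (a : G) := D.flat_comm hf ha p.2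
      rw [h9, mul_inv_cancel_right]) hfour
  have hzH : z ∈ H := hCH hzC
  -- conjugation by `a₀`
  have hpe : ∀ p ∈ H, p ∉ cen A w → a₀ * p * a₀⁻¹ = p * z := by
    intro p hp hpC
    have h1 : p ∉ A := fun h => hpC (hf.2.2 p hp h)
    rw [D.conj_by (hg.le hp) h1 ha₀, hz, D.flat_comm hf hzH hp]
  have hfix : ∀ p ∈ cen A w, a₀ * p * a₀⁻¹ = p := fun p hp => D.comm_mem ha₀ (mem_cen.1 hp).1
  have ha₀N : a₀ ∈ N := by
    refine mem_normalizer_iff.2 fun p => ?_
    constructor
    · intro hp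
      by_cases hpC : p ∈ cen A w
      · rw [hfix p hpC]; exact hp
      · rw [hpe p hp hpC]; exact mul_mem hp hzH
    · intro hp
      by_cases hpC : a₀ * p * a₀⁻¹ ∈ cen A w
      · have := hfix _ hpC
        rw [show p = a₀ * p * a₀⁻¹ from MulAut.conj a₀ |>.injective (show a₀ * p * a₀⁻¹ = a₀ * (a₀ * p * a₀⁻¹) * a₀⁻¹ from this.symm)]
        exact hp
      · have h1 : a₀ * (a₀ * p * a₀⁻¹ * z) * a₀⁻¹ = a₀ * p * a₀⁻¹ := by
          rw [show a₀ * (a₀ * p * a₀⁻¹ * z) * a₀⁻¹ = (a₀ * (a₀ * p * a₀⁻¹) * a₀⁻¹) * (a₀ * z * a₀⁻¹) by group,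
            hfix z hzC, hpe _ hp hpC, mul_assoc, hC z hzC, mul_one]
        rw [← (MulAut.conj a₀).injective (show a₀ * (a₀ * p * a₀⁻¹ * z) * a₀⁻¹ = a₀ * p * a₀⁻¹ from h1)]
        exact mul_mem hp hzH
  have hτ : Tv (f ⟨a₀, ha₀N⟩) P ⟨z, hzH⟩ :=
    { index := hP
      mem := hzC
      ne := fun h => hz1 (congrArg Subtype.val h)
      sq := Subtype.ext (hC z hzC)
      fix := fun p hp => Subtype.ext (by rw [hf']; exact hfix p hp)
      move := fun p hp => Subtype.ext (by rw [hf', Subgroup.coe_mul]; exact hpe p p.2 hp) }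
  haveI : Finite ↥f.range := Finite.of_surjective f.rangeRestrict f.rangeRestrict_surjective
  obtain ⟨h4, -⟩ := index_orbitCore_le hR hτ ⟨⟨a₀, ha₀N⟩, rfl⟩
  have hcard : Nat.card ↥(orbitCore f.range P) ≤ Nat.card ↥(core A w H) := by
    refine Nat.card_le_card_of_injective (fun p => ⟨((p : ↥H) : G), ?_, ?_⟩) fun p q h => ?_
    · exact p.2 1 (one_mem _)
    · exact fun x hx => p.2 (f ⟨x, hx⟩) ⟨⟨x, hx⟩, rfl⟩
    · exact Subtype.ext (Subtype.ext (congrArg (fun r : ↥(core A w H) => (r : G)) h))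
  have h1 := P.card_mul_index
  rw [hP] at h1
  have h2 := (orbitCore f.range P).card_mul_index
  have h3 : Nat.card ↥P = Nat.card ↥(cen A w) := Nat.card_congr (subgroupOfEquivOfLe hCH).toEquiv
  have h5 : Nat.card ↥H ≤ Nat.card ↥(orbitCore f.range P) * 4 := h2 ▸ Nat.mul_le_mul_left _ h4
  omega

end Cfsg.Agent.Fus.TwoModFour
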