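import Cfsg.Agent.Lib.Invol.StrongAlperin

/-!
# A Sylow 2-subgroup with an abelian subgroup of index two

The commutator map `a ↦ a (w a w⁻¹)⁻¹` on the abelian subgroup `A`, and the invariance of a property
under all conjugations inside the Sylow subgroup from its invariance under the steps of Alperin's theorem.
-/

set_option autoImplicit false
set_option linter.unusedSectionVars false
set_option linter.style.haveILetI false

namespace Cfsg.Agent.Fus.TwoModFour

open Subgroup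
open Cfsg.Agent.Invol.StrongAlperin (Good Chain rc dec exists_steps)

universe u

variable {G : Type u} [Group G] [Finite G]

/-- A property preserved by all steps is preserved by every conjugation inside the Sylow subgroup. -/
theorem stable_conj (S : Sylow 2 G) (W : G → Prop)
    (hstep : ∀ H : Subgroup G, Good S H → ∀ x ∈ normalizer (H : Set G), ∀ v ∈ H, W v → W (x⁻¹ * v * x))
    {v g : G} (hv : v ∈ (S : Subgroup G)) (hW : W v) (hg : g * v * g⁻¹ ∈ (S : Subgroup G)) :
    W (g * v * g⁻¹) := by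
  haveI : Fact (Nat.Prime 2) := ⟨Nat.prime_two⟩
  obtain ⟨c, x, y, hc, hx, hy, he⟩ := dec S (A := {v}) (Set.singleton_subset_iff.2 hv) (g := g⁻¹)
    (by simpa [rc] using (show g * v * g⁻¹ ∈ S from hg))
  have hca : c⁻¹ * v * c = v := by
    rw [mul_assoc, mem_centralizer_iff.1 hc v rfl, inv_mul_cancel_left]
  have hgv : g * v * g⁻¹ = (x * y)⁻¹ * v * (x * y) := by
    rw [show g = (c * x * y)⁻¹ by rw [← he, inv_inv]]
    calc (c * x * y)⁻¹ * v * (c * x * y)⁻¹⁻¹ = (x * y)⁻¹ * (c⁻¹ * v * c) * (x * y) := by group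
      _ = _ := by rw [hca]
  have hxA : rc x {v} ⊆ (S : Subgroup G) := by
    rintro _ ⟨b, hb, rfl⟩
    rw [Set.mem_singleton_iff] at hb
    subst hb
    have h3 := (mem_normalizer_iff.1 hy _).1 (hgv ▸ hg)
    rw [show y * ((x * y)⁻¹ * b * (x * y)) * y⁻¹ = x⁻¹ * b * x by group] at h3
    exact h3
  obtain ⟨n, D, z, -, hprod, hall⟩ := exists_steps hx hy hxA
  have key : ∀ i, i ≤ n → W (((List.ofFn z).take i).prod⁻¹ * v * ((List.ofFn z).take i).prod) := by
    intro i
    induction i with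
    | zero => intro _; simpa using hW
    | succ i ih =>
      intro hi
      have hlt : i < (List.ofFn z).length := by rw [List.length_ofFn]; omega
      obtain ⟨hgood, hzn, hsub⟩ := hall ⟨i, by omega⟩
      have hm : ((List.ofFn z).take i).prod⁻¹ * v * ((List.ofFn z).take i).prod ∈ D ⟨i, by omega⟩ :=
        hsub ⟨v, rfl, rfl⟩
      have := hstep _ hgood _ hzn _ hm (ih (by omega))
      rw [List.take_succ_eq_append_getElem hlt, List.prod_append, List.prod_singleton, List.getElem_ofFn]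
      simpa [mul_assoc] using this
  have h1 := key n le_rfl
  rw [List.take_of_length_le (by rw [List.length_ofFn]), hprod] at h1
  rwa [hgv]

/-- An abelian subgroup of index two of a Sylow 2-subgroup, an involution outside it, and at least four
commutators. -/
structure AB (S : Sylow 2 G) (A : Subgroup G) (w : G) : Prop where
  le : A ≤ (S : Subgroup G)
  comm : ∀ a ∈ A, ∀ b ∈ A, a * b = b * a
  idx : A.relIndex (S : Subgroup G) = 2
  wS : w ∈ (S : Subgroup G)
  wA : w ∉ A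
  w2 : w * w = 1
  big : ∃ a ∈ A, ∃ b ∈ A, a * (w * a * w⁻¹)⁻¹ ≠ 1 ∧ b * (w * b * w⁻¹)⁻¹ ≠ 1 ∧
    a * (w * a * w⁻¹)⁻¹ ≠ b * (w * b * w⁻¹)⁻¹

/-- The commutator with `w`. -/
def dl (w a : G) : G := a * (w * a * w⁻¹)⁻¹

/-- The centre of the Sylow subgroup. -/
def cen (A : Subgroup G) (w : G) : Subgroup G := A ⊓ centralizer ({w} : Set G)

theorem mem_cen {A : Subgroup G} {w c : G} : c ∈ cen A w ↔ c ∈ A ∧ c * w = w * c :=
  and_congr Iff.rfl mem_centralizer_singleton_iff

theorem dl_def (w a : G) : dl w a = a * (w * a * w⁻¹)⁻¹ := rfl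

namespace AB

variable {S : Sylow 2 G} {A : Subgroup G} {w : G} (D : AB S A w)

include D

theorem mul_mem_iff {s t : G} (hs : s ∈ (S : Subgroup G)) (ht : t ∈ (S : Subgroup G)) :
    s * t ∈ A ↔ (s ∈ A ↔ t ∈ A) := by
  simpa [mem_subgroupOf] using
    Subgroup.mul_mem_iff_of_index_two (H := A.subgroupOf (S : Subgroup G)) D.idx (a := ⟨s, hs⟩) (b := ⟨t, ht⟩)

theorem conj_mem {s a : G} (hs : s ∈ (S : Subgroup G)) (ha : a ∈ A) : s * a * s⁻¹ ∈ A := by
  haveI : (A.subgroupOf (S : Subgroup G)).Normal := Subgroup.normal_of_index_eq_two D.idx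
  exact this.conj_mem ⟨a, D.le ha⟩ ha ⟨s, hs⟩

theorem comm_mem {a b : G} (ha : a ∈ A) (hb : b ∈ A) : a * b * a⁻¹ = b := by
  rw [D.comm a ha b hb, mul_inv_cancel_right]

/-- All elements outside `A` induce the same automorphism of `A`. -/
theorem conj_outside {e a : G} (he : e ∈ (S : Subgroup G)) (heA : e ∉ A) (ha : a ∈ A) :
    e * a * e⁻¹ = w * a * w⁻¹ := by
  have hwi : w⁻¹ = w := inv_eq_of_mul_eq_one_right D.w2
  have h1 : e * w ∈ A := (D.mul_mem_iff he D.wS).2 (iff_of_false heA D.wA)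
  have h2 := D.comm_mem h1 (D.conj_mem D.wS ha)
  rw [show e * w * (w * a * w⁻¹) * (e * w)⁻¹ = e * (w * w) * a * (w⁻¹ * w⁻¹) * e⁻¹ by group] at h2
  rw [hwi, D.w2, mul_one, mul_one] at h2
  rwa [hwi]

theorem conj_conj (a : G) : w * (w * a * w⁻¹) * w⁻¹ = a := by
  have hwi : w⁻¹ = w := inv_eq_of_mul_eq_one_right D.w2
  rw [show w * (w * a * w⁻¹) * w⁻¹ = (w * w) * a * (w⁻¹ * w⁻¹) by group, hwi, D.w2, one_mul, mul_one]

theorem dl_mem {a : G} (ha : a ∈ A) : dl w a ∈ A := mul_mem ha (inv_mem (D.conj_mem D.wS ha))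

theorem dl_mul {a b : G} (ha : a ∈ A) (hb : b ∈ A) : dl w (a * b) = dl w a * dl w b := by
  have h1 := inv_mem (D.conj_mem D.wS ha)
  have h2 := inv_mem (D.conj_mem D.wS hb)
  rw [dl_def, dl_def, dl_def, show w * (a * b) * w⁻¹ = (w * a * w⁻¹) * (w * b * w⁻¹) by group, mul_inv_rev,
    D.comm _ h2 _ h1, mul_assoc a b, mul_assoc a, ← mul_assoc b, D.comm b hb _ h1, mul_assoc]

theorem dl_one : dl w 1 = 1 := by simp [dl_def]

theorem dl_inv {a : G} (ha : a ∈ A) : dl w a⁻¹ = (dl w a)⁻¹ := by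
  refine eq_inv_of_mul_eq_one_left ?_
  rw [← D.dl_mul (inv_mem ha) ha, inv_mul_cancel, D.dl_one]

theorem dl_pow {a : G} (ha : a ∈ A) (k : ℕ) : dl w (a ^ k) = dl w a ^ k := by
  induction k with
  | zero => simpa using D.dl_one
  | succ k ih => rw [pow_succ, pow_succ, D.dl_mul (pow_mem ha k) ha, ih]

theorem dl_eq_one_iff {a : G} (ha : a ∈ A) : dl w a = 1 ↔ a ∈ cen A w := by
  rw [dl_def, mul_inv_eq_one, mem_cen, eq_mul_inv_iff_mul_eq, and_iff_right ha]

/-- `w` inverts the commutators. -/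
theorem conj_dl {a : G} (ha : a ∈ A) : w * dl w a * w⁻¹ = (dl w a)⁻¹ := by
  calc w * dl w a * w⁻¹ = (w * a * w⁻¹) * (w * (w * a * w⁻¹) * w⁻¹)⁻¹ := by rw [dl_def]; group
    _ = (w * a * w⁻¹) * a⁻¹ := by rw [D.conj_conj]
    _ = (dl w a)⁻¹ := by rw [dl_def, mul_inv_rev, inv_inv]

theorem dl_mem_cen_iff {a : G} (ha : a ∈ A) : dl w a ∈ cen A w ↔ dl w a * dl w a = 1 := by
  rw [mem_cen, and_iff_right (D.dl_mem ha), mul_eq_one_iff_eq_inv, ← D.conj_dl ha, eq_mul_inv_iff_mul_eq]

theorem cen_central {c s : G} (hc : c ∈ cen A w) (hs : s ∈ (S : Subgroup G)) : s * c = c * s := by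
  by_cases hsA : s ∈ A
  · exact D.comm s hsA c (mem_cen.1 hc).1
  · rw [← mul_inv_eq_iff_eq_mul, D.conj_outside hs hsA (mem_cen.1 hc).1, mul_inv_eq_iff_eq_mul]
    exact (mem_cen.1 hc).2.symm

theorem mem_cen_of_comm {a e : G} (ha : a ∈ A) (he : e ∈ (S : Subgroup G)) (heA : e ∉ A)
    (h : a * e = e * a) : a ∈ cen A w := by
  refine mem_cen.2 ⟨ha, ?_⟩
  have h1 := D.conj_outside he heA ha
  rw [← h, mul_inv_cancel_right] at h1
  rw [eq_mul_inv_iff_mul_eq] at h1
  exact h1

/-- Conjugating an element outside `A` by an element of `A`. -/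
theorem conj_by {e a : G} (he : e ∈ (S : Subgroup G)) (heA : e ∉ A) (ha : a ∈ A) :
    a * e * a⁻¹ = dl w a * e := by
  rw [dl_def, ← D.conj_outside he heA ha]
  group

/-- An element of `S` centralising `A` lies in `A`. -/
theorem mem_of_cent {s : G} (hs : s ∈ (S : Subgroup G)) (h : ∀ a ∈ A, s * a = a * s) : s ∈ A := by
  by_contra hsA
  obtain ⟨a, ha, b, hb, ha1, -, -⟩ := D.big
  refine ha1 ((D.dl_eq_one_iff ha).2 (D.mem_cen_of_comm ha hs hsA (h a ha).symm))

/-- `A` is the only abelian subgroup of index two. -/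
theorem eq_of_abelian {B : Subgroup G} (hBS : B ≤ (S : Subgroup G))
    (hB : ∀ a ∈ B, ∀ b ∈ B, a * b = b * a) (hBi : B.relIndex (S : Subgroup G) = 2) : B = A := by
  by_contra hne
  obtain ⟨e, heB, heA⟩ : ∃ e ∈ B, e ∉ A := by
    by_contra hno
    push Not at hno
    refine hne (le_antisymm hno fun a ha => ?_)
    have h1 := relIndex_mul_relIndex B A (S : Subgroup G) hno D.le
    rw [hBi, D.idx] at h1
    exact relIndex_eq_one.1 (by omega) ha
  have hdl : ∀ a ∈ A, a ∈ B → dl w a = 1 := fun a ha haB =>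
    (D.dl_eq_one_iff ha).2 (D.mem_cen_of_comm ha (hBS heB) heA (hB a haB e heB))
  obtain ⟨a, ha, b, hb, ha1, hb1, hab⟩ := D.big
  have hmul : a * b⁻¹ ∈ B := by
    have := Subgroup.mul_mem_iff_of_index_two (H := B.subgroupOf (S : Subgroup G)) hBi
      (a := ⟨a, D.le ha⟩) (b := ⟨b⁻¹, inv_mem (D.le hb)⟩)
    simp only [mem_subgroupOf, Subgroup.coe_mul, inv_mem_iff] at this
    exact this.2 (iff_of_false (fun h => ha1 (hdl a ha h)) (fun h => hb1 (hdl b hb h)))
  have h1 := hdl _ (mul_mem ha (inv_mem hb)) hmul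
  rw [D.dl_mul ha (inv_mem hb), D.dl_inv hb, mul_inv_eq_one] at h1
  exact hab h1

/-- The normaliser of the Sylow subgroup normalises `A`. -/
theorem normalizer_le : normalizer ((S : Subgroup G) : Set G) ≤ normalizer (A : Set G) := by
  intro n hn
  have e : A.map (MulAut.conj n).toMonoidHom = A := by
    refine D.eq_of_abelian ?_ ?_ ?_
    · rintro _ ⟨a, ha, rfl⟩
      exact (mem_normalizer_iff.1 hn a).1 (D.le ha)
    · rintro _ ⟨a, ha, rfl⟩ _ ⟨b, hb, rfl⟩
      rw [← map_mul, D.comm a ha b hb, map_mul]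
    · have h1 : (S : Subgroup G).map (MulAut.conj n).toMonoidHom = S := by
        ext x
        refine ⟨?_, fun hx => ⟨n⁻¹ * x * n, ?_, by simp [mul_assoc]⟩⟩
        · rintro ⟨s, hs, rfl⟩
          exact (mem_normalizer_iff.1 hn s).1 hs
        · have := (mem_normalizer_iff.1 (inv_mem hn) x).1 hx
          rwa [inv_inv] at this
      conv_lhs => rw [← h1]
      rw [relIndex_map_map_of_injective _ _ (MulAut.conj n).injective, D.idx]
  refine mem_normalizer_iff.2 fun a => ⟨fun ha => e.le ⟨a, ha, rfl⟩, fun ha => ?_⟩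
  obtain ⟨b, hb, hba⟩ := e.ge ha
  rwa [show b = a from (MulAut.conj n).injective hba] at hb

/-- Central elements conjugate in the group are conjugate in the normaliser of the Sylow subgroup. -/
theorem burnside {X : Subgroup G} (hX : X ≤ cen A w) {g : G} (hg : ∀ x ∈ X, g * x * g⁻¹ ∈ cen A w) :
    ∃ n ∈ normalizer ((S : Subgroup G) : Set G), ∀ x ∈ X, n * x * n⁻¹ = g * x * g⁻¹ := by
  haveI : Fact (Nat.Prime 2) := ⟨Nat.prime_two⟩
  have hS1 : (S : Subgroup G) ≤ centralizer ((X.map (MulAut.conj g).toMonoidHom : Subgroup G) : Set G) :=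
    fun s hs => mem_centralizer_iff.2 fun y hy => by
      obtain ⟨x, hx, rfl⟩ := hy
      exact (D.cen_central (hg x hx) hs).symm
  have hS2 : ((g • S : Sylow 2 G) : Subgroup G) ≤
      centralizer ((X.map (MulAut.conj g).toMonoidHom : Subgroup G) : Set G) := fun s hs => by
    rw [Sylow.coe_subgroup_smul] at hs
    obtain ⟨t, ht, rfl⟩ := (Subgroup.mem_smul_pointwise_iff_exists _ _ _).1 hs
    refine mem_centralizer_iff.2 fun y hy => ?_
    obtain ⟨x, hx, rfl⟩ := hy
    show (MulAut.conj g) x * (MulAut.conj g) t = (MulAut.conj g) t * (MulAut.conj g) x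
    rw [← map_mul, ← D.cen_central (hX hx) ht, map_mul]
  obtain ⟨k, hk⟩ := MulAction.exists_smul_eq
    ↥(centralizer ((X.map (MulAut.conj g).toMonoidHom : Subgroup G) : Set G))
    ((g • S : Sylow 2 G).subtype hS2) (S.subtype hS1)
  have hk' : (k : G) • (g • S : Sylow 2 G) = S := by
    refine Sylow.ext (le_antisymm ?_ ?_) <;> intro s hs
    · rw [Sylow.coe_subgroup_smul] at hs
      obtain ⟨t, ht, rfl⟩ := (Subgroup.mem_smul_pointwise_iff_exists _ _ _).1 hs
      have h1 := Subgroup.smul_mem_pointwise_smul (⟨t, hS2 ht⟩ : ↥(centralizer _)) (MulAut.conj k)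
        (((g • S : Sylow 2 G).subtype hS2 : Sylow 2 _) : Subgroup _) ht
      rw [← Sylow.coe_subgroup_smul] at h1
      erw [hk] at h1
      exact h1
    · have h1 : (⟨s, hS1 hs⟩ : ↥(centralizer _)) ∈
          ((k • (g • S : Sylow 2 G).subtype hS2 : Sylow 2 _) : Subgroup _) := by
        rw [hk]; exact hs
      rw [Sylow.coe_subgroup_smul] at h1 ⊢
      obtain ⟨t, ht, e⟩ := (Subgroup.mem_smul_pointwise_iff_exists _ _ _).1 h1
      rw [show s = MulAut.conj (k : G) • (t : G) from (congrArg Subtype.val e).symm]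
      exact Subgroup.smul_mem_pointwise_smul _ _ _ ht
  refine ⟨(k : G) * g, ?_, fun x hx => ?_⟩
  · exact Sylow.smul_eq_iff_mem_normalizer.1 (by rw [mul_smul, hk'])
  · have h1 := mem_centralizer_iff.1 k.2 _ ⟨x, hx, rfl⟩
    calc (k : G) * g * x * ((k : G) * g)⁻¹ = (k : G) * (g * x * g⁻¹) * (k : G)⁻¹ := by group
      _ = g * x * g⁻¹ := by rw [← show g * x * g⁻¹ * (k : G) = (k : G) * (g * x * g⁻¹) from h1, mul_inv_cancel_right]

end AB

end Cfsg.Agent.Fus.TwoModFour
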