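import Cfsg.Agent.Lib.Fus.TwoModFour.AbFrame
import Cfsg.Agent.Lib.Grp.FixBFC.Index
import Cfsg.Agent.Lib.Grp.CyclicTwo

/-!
# The moving steps: at most one central commutator

A step of Alperin's theorem that moves an element of `A` out of `A` forces the commutator subgroup
`[A, w]` to be cyclic.
-/

set_option autoImplicit false
set_option linter.unusedSectionVars false
set_option linter.style.haveILetI false

namespace Cfsg.Agent.Fus.TwoModFour

open Subgroup
open Cfsg.Agent.Invol.StrongAlperin (Good)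
open scoped commutatorElement

universe u

variable {G : Type u} [Group G] [Finite G] {S : Sylow 2 G} {A : Subgroup G} {w : G}

/-- `x` normalises the good subgroup `H` and moves an element of `H ∩ A` out of `A`. -/
def Moves (S : Sylow 2 G) (A H : Subgroup G) (x : G) : Prop :=
  Good S H ∧ x ∈ normalizer (H : Set G) ∧ ∃ b ∈ H, b ∈ A ∧ x * b * x⁻¹ ∉ A

namespace AB

variable (D : AB S A w)

include D

theorem cen_le_good {H : Subgroup G} (hg : Good S H) : cen A w ≤ H := fun c hc =>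
  hg.centric ⟨D.le (mem_cen.1 hc).1, mem_centralizer_iff.2 fun h hh => D.cen_central hc (hg.le hh)⟩

theorem good_eq_of_le {H : Subgroup G} (hg : Good S H) (hHA : H ≤ A) : H = A :=
  le_antisymm hHA fun a ha =>
    hg.centric ⟨D.le ha, mem_centralizer_iff.2 fun h hh => D.comm h (hHA hh) a ha⟩

/-- With a non-central element in `H ∩ A`, the normaliser of `H` preserves the centre. -/
theorem conj_cen {H : Subgroup G} (hg : Good S H) {e b : G} (he : e ∈ H) (heA : e ∉ A) (hb : b ∈ H)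
    (hbA : b ∈ A) (hbC : b ∉ cen A w) {x c : G} (hx : x ∈ normalizer (H : Set G)) (hc : c ∈ cen A w) :
    x * c * x⁻¹ ∈ cen A w := by
  have hu : x * c * x⁻¹ ∈ H := (mem_normalizer_iff.1 hx c).1 (D.cen_le_good hg hc)
  have hcomm : ∀ h ∈ H, x * c * x⁻¹ * h = h * (x * c * x⁻¹) := by
    intro h hh
    have h1 := D.cen_central hc (hg.le ((mem_normalizer_iff.1 (inv_mem hx) h).1 hh))
    rw [inv_inv] at h1
    calc x * c * x⁻¹ * h = x * (c * (x⁻¹ * h * x)) * x⁻¹ := by group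
      _ = x * ((x⁻¹ * h * x) * c) * x⁻¹ := by rw [h1]
      _ = h * (x * c * x⁻¹) := by group
  have huA : x * c * x⁻¹ ∈ A := by
    by_contra hnA
    exact hbC (D.mem_cen_of_comm hbA (hg.le hu) hnA (hcomm b hb).symm)
  exact D.mem_cen_of_comm huA (hg.le he) heA (hcomm e he)

theorem moves_outside {H : Subgroup G} {x : G} (h : Moves S A H x) :
    ∃ e ∈ H, e ∉ A ∧ x⁻¹ * e * x ∈ A := by
  obtain ⟨-, hx, b, hb, hbA, hbx⟩ := h
  refine ⟨_, (mem_normalizer_iff.1 hx b).1 hb, hbx, ?_⟩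
  simpa [mul_assoc] using hbA

/-- Two non-central elements of `H ∩ A` have central product. -/
theorem moves_mul_mem {H : Subgroup G} {x : G} (h : Moves S A H x) {a b : G} (ha : a ∈ H) (haA : a ∈ A)
    (haC : a ∉ cen A w) (hb : b ∈ H) (hbA : b ∈ A) (hbC : b ∉ cen A w) : a * b ∈ cen A w := by
  obtain ⟨e, he, heA, hex⟩ := D.moves_outside h
  obtain ⟨hg, hx, -⟩ := h
  have key : ∀ p ∈ H, p ∈ A → x⁻¹ * p * x ∈ A → p ∈ cen A w := by
    intro p hp hpA hpx
    refine D.mem_cen_of_comm hpA (hg.le he) heA ?_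
    have h1 := D.comm _ hpx _ hex
    calc p * e = x * ((x⁻¹ * p * x) * (x⁻¹ * e * x)) * x⁻¹ := by group
      _ = x * ((x⁻¹ * e * x) * (x⁻¹ * p * x)) * x⁻¹ := by rw [h1]
      _ = e * p := by group
  refine key _ (mul_mem ha hb) (mul_mem haA hbA) ?_
  have hmem : ∀ p ∈ H, x⁻¹ * p * x ∈ (S : Subgroup G) := fun p hp => hg.le (by
    have := (mem_normalizer_iff.1 (inv_mem hx) p).1 hp
    rwa [inv_inv] at this)
  rw [show x⁻¹ * (a * b) * x = (x⁻¹ * a * x) * (x⁻¹ * b * x) by group]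
  exact (D.mul_mem_iff (hmem a ha) (hmem b hb)).2
    (iff_of_false (fun h1 => haC (key a ha haA h1)) (fun h1 => hbC (key b hb hbA h1)))

/-- All non-central elements of `H ∩ A` have the same commutator. -/
theorem moves_dl_eq {H : Subgroup G} {x : G} (h : Moves S A H x) {a b : G} (ha : a ∈ H) (haA : a ∈ A)
    (haC : a ∉ cen A w) (hb : b ∈ H) (hbA : b ∈ A) (hbC : b ∉ cen A w) : dl w a = dl w b := by
  have h1 := (D.dl_eq_one_iff (mul_mem haA hbA)).2 (D.moves_mul_mem h ha haA haC hb hbA hbC)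
  have h2 := (D.dl_eq_one_iff (mul_mem hbA hbA)).2 (D.moves_mul_mem h hb hbA hbC hb hbA hbC)
  rw [D.dl_mul haA hbA] at h1
  rw [D.dl_mul hbA hbA] at h2
  exact mul_right_cancel (h1.trans h2.symm)

theorem cen_pow_eq_one {k : ℕ} (hk : Nat.card ↥(cen A w) = 2 ^ k) {c : G} (hc : c ∈ cen A w) :
    c ^ 2 ^ k = 1 := by
  have := pow_card_eq_one' (x := (⟨c, hc⟩ : ↥(cen A w)))
  rw [hk] at this
  exact congrArg Subtype.val this

/-- Elements acting trivially on `Z` and on `H / Z`. -/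
def stab (H Z : Subgroup G) (hZ : ∀ g ∈ normalizer (H : Set G), (∀ z ∈ Z, g * z = z * g) → ∀ z ∈ Z, g⁻¹ * z * g = z) :
    Subgroup G where
  carrier := {g | g ∈ normalizer (H : Set G) ∧ (∀ z ∈ Z, g * z = z * g) ∧ ∀ h ∈ H, g * h * g⁻¹ * h⁻¹ ∈ Z}
  one_mem' := ⟨one_mem _, fun z _ => by simp, fun h _ => by simp⟩
  mul_mem' := by
    rintro p q ⟨hp, hpz, hph⟩ ⟨hq, hqz, hqh⟩
    refine ⟨mul_mem hp hq, fun z hz => ?_, fun h hh => ?_⟩
    · rw [mul_assoc, hqz z hz, ← mul_assoc, hpz z hz, mul_assoc]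
    · have h1 := hqh h hh
      have h2 : p * (q * h * q⁻¹ * h⁻¹) * p⁻¹ = q * h * q⁻¹ * h⁻¹ := by
        rw [hpz _ h1, mul_inv_cancel_right]
      rw [show p * q * h * (p * q)⁻¹ * h⁻¹ = (p * (q * h * q⁻¹ * h⁻¹) * p⁻¹) * (p * h * p⁻¹ * h⁻¹) by group, h2]
      exact mul_mem h1 (hph h hh)
  inv_mem' := by
    rintro p ⟨hp, hpz, hph⟩
    refine ⟨inv_mem hp, fun z hz => ?_, fun h hh => ?_⟩
    · rw [← mul_inv_eq_iff_eq_mul, inv_inv]
      exact hZ p hp hpz z hz
    · have h1 := hph h hh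
      have h2 := hZ p hp hpz _ (inv_mem h1)
      rw [show p⁻¹ * (p * h * p⁻¹ * h⁻¹)⁻¹ * p = p⁻¹ * h * p⁻¹⁻¹ * h⁻¹ by group] at h2
      rw [h2]
      exact inv_mem h1

/-- An element of such a stabiliser has a 2-power centralising `H`. -/
theorem pow_mem_centralizer {H Z : Subgroup G} {g : G} (hZc : Z ≤ cen A w) (hgz : ∀ z ∈ Z, g * z = z * g)
    (hgh : ∀ h ∈ H, g * h * g⁻¹ * h⁻¹ ∈ Z) : ∃ k, g ^ 2 ^ k ∈ centralizer (H : Set G) := by
  haveI : Fact (Nat.Prime 2) := ⟨Nat.prime_two⟩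
  obtain ⟨k, hk⟩ := IsPGroup.iff_card.1 (S.isPGroup'.to_le
    ((inf_le_left : cen A w ≤ A).trans D.le))
  refine ⟨k, mem_centralizer_iff.2 fun h hh => ?_⟩
  have key : ∀ m : ℕ, g ^ m * h * (g ^ m)⁻¹ = (g * h * g⁻¹ * h⁻¹) ^ m * h := by
    intro m
    induction m with
    | zero => simp
    | succ m ih =>
      calc g ^ (m + 1) * h * (g ^ (m + 1))⁻¹ = g * (g ^ m * h * (g ^ m)⁻¹) * g⁻¹ := by rw [pow_succ']; group
        _ = (g * (g * h * g⁻¹ * h⁻¹) ^ m * g⁻¹) * (g * h * g⁻¹) := by rw [ih]; group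
        _ = (g * h * g⁻¹ * h⁻¹) ^ m * (g * h * g⁻¹) := by
          rw [hgz _ (pow_mem (hgh h hh) m), mul_inv_cancel_right]
        _ = (g * h * g⁻¹ * h⁻¹) ^ (m + 1) * h := by rw [pow_succ]; group
  have h1 := key (2 ^ k)
  rw [D.cen_pow_eq_one hk (hZc (hgh h hh)), one_mul, mul_inv_eq_iff_eq_mul] at h1
  exact h1.symm

/-- The non-abelian case: a central commutator is that of an element of `H ∩ A`. -/
theorem moves_mem_of_dl {H : Subgroup G} {x : G} (h : Moves S A H x) {b : G} (hb : b ∈ H) (hbA : b ∈ A)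
    (hbC : b ∉ cen A w) {a : G} (ha : a ∈ A) (hy : dl w a ∈ cen A w) : a ∈ H := by
  obtain ⟨e, he, heA, -⟩ := D.moves_outside h
  have hg := h.1
  haveI : Fact (Nat.Prime 2) := ⟨Nat.prime_two⟩
  let V := stab H (cen A w) (fun g hgn hgz z hz => by rw [mul_assoc, ← hgz z hz, inv_mul_cancel_left])
  have hnorm : ∀ g ∈ normalizer (H : Set G), ∀ c ∈ cen A w, g * c * g⁻¹ ∈ cen A w :=
    fun g hgn c hc => D.conj_cen hg he heA hb hbA hbC hgn hc
  have hgen : ∀ n ∈ normalizer (H : Set G), ∀ g ∈ V, n * g * n⁻¹ ∈ V := by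
    rintro n hn g ⟨hgN, hgz, hgh⟩
    refine ⟨mul_mem (mul_mem hn hgN) (inv_mem hn), fun z hz => ?_, fun h' hh' => ?_⟩
    · have h1 : n⁻¹ * z * n ∈ cen A w := by simpa using hnorm n⁻¹ (inv_mem hn) z hz
      calc n * g * n⁻¹ * z = n * (g * (n⁻¹ * z * n)) * n⁻¹ := by group
        _ = n * ((n⁻¹ * z * n) * g) * n⁻¹ := by rw [hgz _ h1]
        _ = z * (n * g * n⁻¹) := by group
    · have h1 : n⁻¹ * h' * n ∈ H := by
        have := (mem_normalizer_iff.1 (inv_mem hn) h').1 hh'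
        rwa [inv_inv] at this
      have h2 := hnorm n hn _ (hgh _ h1)
      rwa [show n * (g * (n⁻¹ * h' * n) * g⁻¹ * (n⁻¹ * h' * n)⁻¹) * n⁻¹ =
        n * g * n⁻¹ * h' * (n * g * n⁻¹)⁻¹ * h'⁻¹ by group] at h2
  have haV : a ∈ V := by
    have hact : ∀ p ∈ H, a * p * a⁻¹ * p⁻¹ ∈ cen A w := by
      intro p hp
      by_cases hpA : p ∈ A
      · rw [D.comm_mem ha hpA, mul_inv_cancel]; exact one_mem _
      · rw [D.conj_by (hg.le hp) hpA ha, mul_inv_cancel_right]; exact hy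
    refine ⟨mem_normalizer_iff.2 fun p => ?_, fun z hz => D.comm a ha z (mem_cen.1 hz).1, hact⟩
    constructor
    · intro hp
      have h1 := mul_mem (D.cen_le_good hg (hact p hp)) hp
      rwa [inv_mul_cancel_right] at h1
    · intro hp
      -- the inverse automorphism
      have h1 : a⁻¹ * (a * p * a⁻¹) * a * (a * p * a⁻¹)⁻¹ ∈ cen A w := by
        by_cases hpA : a * p * a⁻¹ ∈ A
        · rw [show a⁻¹ * (a * p * a⁻¹) * a = a⁻¹ * (a * p * a⁻¹) * a⁻¹⁻¹ by group,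
            D.comm_mem (inv_mem ha) hpA, mul_inv_cancel]
          exact one_mem _
        · have h2 := D.conj_by (hg.le hp) hpA (inv_mem ha)
          rw [inv_inv] at h2
          rw [h2, mul_inv_cancel_right, D.dl_inv ha]
          exact inv_mem hy
      have h3 := mul_mem (D.cen_le_good hg h1) hp
      rwa [inv_mul_cancel_right, show a⁻¹ * (a * p * a⁻¹) * a = p by group] at h3
  have hVle := hg.radical V (fun g hgV => hgV.1) (fun n hn => mem_normalizer_iff.2 fun g =>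
      ⟨fun hgV => hgen n hn g hgV, fun hgV => by
        have := hgen n⁻¹ (inv_mem hn) _ hgV
        simpa [mul_assoc] using this⟩)
    fun g hgV => D.pow_mem_centralizer le_rfl hgV.2.1 hgV.2.2
  obtain ⟨p, hp, q, hq, hpq⟩ := Set.mem_mul.1
    ((coe_mul_of_right_le_normalizer_left H (centralizer (H : Set G)) (centralizer_le_normalizer _)).subset (hVle haV))
  have hqS : q ∈ (S : Subgroup G) := by
    rw [← inv_mul_cancel_left p q, hpq]
    exact mul_mem (inv_mem (hg.le hp)) (D.le ha)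
  rw [← hpq]
  exact mul_mem hp (hg.centric ⟨hqS, hq⟩)

/-- The abelian case: a central commutator moved to the centre of the next axis is trivial. -/
theorem moves_inter_eq_one {H : Subgroup G} {x : G} (h : Moves S A H x)
    (hB : ∀ p ∈ H, p ∈ A → p ∈ cen A w) {a : G} (ha : a ∈ A) (hy : dl w a ∈ cen A w)
    (hy' : x⁻¹ * dl w a * x ∈ cen A w) : dl w a = 1 := by
  obtain ⟨e, he, heA, hex⟩ := D.moves_outside h
  obtain ⟨hg, hx, -⟩ := h
  haveI : Fact (Nat.Prime 2) := ⟨Nat.prime_two⟩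
  have hexC : x⁻¹ * e * x ∈ cen A w := hB _ (by
    have := (mem_normalizer_iff.1 (inv_mem hx) e).1 he
    rwa [inv_inv] at this) hex
  -- the common centre
  let I : Subgroup G := cen A w ⊓ (cen A w).map (MulAut.conj x).toMonoidHom
  have hconjI : ∀ c, c ∈ (cen A w).map (MulAut.conj x).toMonoidHom ↔ x⁻¹ * c * x ∈ cen A w := fun c =>
    ⟨fun ⟨d, hd, e'⟩ => by
      have e'' : x * d * x⁻¹ = c := e'
      rwa [show x⁻¹ * c * x = d by rw [← e'']; group], fun hc => ⟨_, hc, by simp [mul_assoc]⟩⟩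
  let V := stab H I (fun g hgn hgz z hz => by rw [mul_assoc, ← hgz z hz, inv_mul_cancel_left])
  have haI : dl w a ∈ I := ⟨hy, (hconjI _).2 hy'⟩
  have hact : ∀ p ∈ H, a * p * a⁻¹ * p⁻¹ ∈ I := by
    intro p hp
    by_cases hpA : p ∈ A
    · rw [D.comm_mem ha hpA, mul_inv_cancel]; exact one_mem _
    · rw [D.conj_by (hg.le hp) hpA ha, mul_inv_cancel_right]; exact haI
  have hIH : I ≤ H := fun c hc => D.cen_le_good hg hc.1
  have haN : a ∈ normalizer (H : Set G) := by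
    refine mem_normalizer_iff.2 fun p => ⟨fun hp => ?_, fun hp => ?_⟩
    · have h1 := mul_mem (hIH (hact p hp)) hp
      rwa [inv_mul_cancel_right] at h1
    · by_cases hpA : a * p * a⁻¹ ∈ A
      · have h2 := D.comm_mem (inv_mem ha) hpA
        rw [show a⁻¹ * (a * p * a⁻¹) * a⁻¹⁻¹ = p by group] at h2
        rw [h2]; exact hp
      · have h2 := D.conj_by (hg.le hp) hpA (inv_mem ha)
        rw [show a⁻¹ * (a * p * a⁻¹) * a⁻¹⁻¹ = p by group, D.dl_inv ha] at h2
        rw [h2]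
        exact mul_mem (inv_mem (hIH haI)) hp
  have haV : a ∈ V := ⟨haN, fun z hz => D.comm a ha z (mem_cen.1 hz.1).1, hact⟩
  -- the conjugate Sylow subgroup of the normaliser
  let N := normalizer (H : Set G)
  let Q : Subgroup G := ((S : Subgroup G) ⊓ N).map (MulAut.conj x).toMonoidHom
  have hNmap : N.map (MulAut.conj x).toMonoidHom = N := by
    refine le_antisymm ?_ fun g hgN => ⟨x⁻¹ * g * x, mul_mem (mul_mem (inv_mem hx) hgN) hx, by simp [mul_assoc]⟩
    rintro _ ⟨g, hgN, rfl⟩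
    exact mul_mem (mul_mem hx hgN) (inv_mem hx)
  have hQN : Q ≤ N := fun g hgQ => hNmap.le (Subgroup.map_mono inf_le_right hgQ)
  have hQfull : ¬ 2 ∣ Q.relIndex N := by
    rw [← hNmap, relIndex_map_map_of_injective _ _ (MulAut.conj x).injective]
    exact hg.full
  have hQI : ∀ q ∈ Q, ∀ c, x⁻¹ * c * x ∈ cen A w → q * c = c * q := by
    rintro _ ⟨s, hs, rfl⟩ c hc
    show x * s * x⁻¹ * c = c * (x * s * x⁻¹)
    calc x * s * x⁻¹ * c = x * (s * (x⁻¹ * c * x)) * x⁻¹ := by group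
      _ = x * ((x⁻¹ * c * x) * s) * x⁻¹ := by rw [D.cen_central hc hs.1]
      _ = c * (x * s * x⁻¹) := by group
  let X : Subgroup G := Q ⊔ centralizer (H : Set G)
  have hXN : X ≤ N := sup_le hQN (centralizer_le_normalizer _)
  have hXI : ∀ c, x⁻¹ * c * x ∈ cen A w → c ∈ H → ∀ q ∈ X, q * c = c * q := by
    intro c hc hcH q hq
    have : X ≤ centralizer ({c} : Set G) := sup_le
      (fun q hq => mem_centralizer_singleton_iff.2 (hQI q hq c hc))
      (fun q hq => mem_centralizer_singleton_iff.2 (mem_centralizer_iff.1 hq c hcH).symm)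
    exact mem_centralizer_singleton_iff.1 (this hq)
  have hXV : X ≤ normalizer (V : Set G) := by
    have key : ∀ n ∈ X, ∀ g ∈ V, n * g * n⁻¹ ∈ V := by
      rintro n hn g ⟨hgN, hgz, hgh⟩
      have hnI : ∀ z ∈ I, n * z * n⁻¹ = z := fun z hz => by
        rw [hXI z ((hconjI z).1 hz.2) (hIH hz) n hn, mul_inv_cancel_right]
      refine ⟨mul_mem (mul_mem (hXN hn) hgN) (inv_mem (hXN hn)), fun z hz => ?_, fun h' hh' => ?_⟩
      · calc n * g * n⁻¹ * z = n * g * n⁻¹ * (n * z * n⁻¹) := by rw [hnI z hz]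
          _ = n * (g * z) * n⁻¹ := by group
          _ = n * (z * g) * n⁻¹ := by rw [hgz z hz]
          _ = (n * z * n⁻¹) * (n * g * n⁻¹) := by group
          _ = _ := by rw [hnI z hz]
      · have h1 : n⁻¹ * h' * n ∈ H := by
          have := (mem_normalizer_iff.1 (inv_mem (hXN hn)) h').1 hh'
          rwa [inv_inv] at this
        have h2 := hgh _ h1
        have h3 := hnI _ h2
        rw [show n * (g * (n⁻¹ * h' * n) * g⁻¹ * (n⁻¹ * h' * n)⁻¹) * n⁻¹ =
          n * g * n⁻¹ * h' * (n * g * n⁻¹)⁻¹ * h'⁻¹ by group] at h3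
        rw [h3]; exact h2
    exact fun n hn => mem_normalizer_iff.2 fun g => ⟨fun hgV => key n hn g hgV, fun hgV => by
      have := key n⁻¹ (inv_mem hn) _ hgV
      simpa [mul_assoc] using this⟩
  -- `V ≤ X` by comparing indices
  have haX : a ∈ X := by
    have hodd : ¬ 2 ∣ X.relIndex V := by
      intro hd
      refine hQfull ((hd.trans ?_).trans (relIndex_dvd_of_le_left N (le_sup_left : Q ≤ X)))
      rw [show X.relIndex V = X.relIndex (V ⊔ X) from ?_]
      · exact ⟨_, (relIndex_mul_relIndex X (V ⊔ X) N le_sup_right (sup_le (fun g hgV => hgV.1) hXN)).symm⟩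
      · have e1 := Grp.card_sup_mul_card_inf (H := X) (N := V) hXV
        have e2 := Grp.card_mul_relIndex (le_sup_right : X ≤ V ⊔ X)
        have e3 := Grp.relIndex_mul_card_inf V X
        rw [sup_comm] at e1
        rw [inf_comm] at e3
        have hpos : 0 < Nat.card X * Nat.card ↥(X ⊓ V) := Nat.mul_pos Nat.card_pos Nat.card_pos
        refine Nat.eq_of_mul_eq_mul_left hpos ?_
        linear_combination (Nat.card X : ℕ) * e3 - (Nat.card ↥(X ⊓ V) : ℕ) * e2 - e1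
    -- a 2-power of every element of `V` lies in `X`
    haveI hn : ((X ⊓ V).subgroupOf V).Normal := ⟨fun p hp g => by
      obtain ⟨hgN, hgz, hgh⟩ := g.2
      obtain ⟨hpN, hpz, hph⟩ := p.2
      refine ⟨?_, (g * p * g⁻¹).2⟩
      have hc : ⁅(g : G), (p : G)⁆ ∈ centralizer (H : Set G) := by
        refine mem_centralizer_iff.2 fun h' hh' => ?_
        -- both act by translation into `I`, which they fix
        have key : ∀ u v : G, (∀ z ∈ I, u * z = z * u) → (∀ h ∈ H, v * h * v⁻¹ * h⁻¹ ∈ I) → ∀ h ∈ H,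
            u * (v * h * v⁻¹) * u⁻¹ = (v * h * v⁻¹ * h⁻¹) * (u * h * u⁻¹) := fun u v hu hv h hh => by
          rw [show u * (v * h * v⁻¹) * u⁻¹ = (u * (v * h * v⁻¹ * h⁻¹)) * h * u⁻¹ by group, hu _ (hv h hh)]
          group
        have hcI : ∀ i ∈ I, ∀ j ∈ I, i * j = j * i := fun i hi j hj =>
          D.comm i (mem_cen.1 hi.1).1 j (mem_cen.1 hj.1).1
        have hgp : (g : G) * ((p : G) * h' * (p : G)⁻¹) * (g : G)⁻¹ =
            (p : G) * ((g : G) * h' * (g : G)⁻¹) * (p : G)⁻¹ := by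
          rw [key g p hgz hph h' hh', key p g hpz hgh h' hh']
          have := hcI _ (hph h' hh') _ (hgh h' hh')
          calc (p : G) * h' * (p : G)⁻¹ * h'⁻¹ * ((g : G) * h' * (g : G)⁻¹)
              = ((p : G) * h' * (p : G)⁻¹ * h'⁻¹) * ((g : G) * h' * (g : G)⁻¹ * h'⁻¹) * h' := by group
            _ = ((g : G) * h' * (g : G)⁻¹ * h'⁻¹) * ((p : G) * h' * (p : G)⁻¹ * h'⁻¹) * h' := by rw [this]
            _ = _ := by group
        rw [commutatorElement_def]
        have h5 : (p : G)⁻¹ * h' * (p : G) ∈ H := by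
          have := (mem_normalizer_iff.1 (inv_mem hpN) h').1 hh'
          rwa [inv_inv] at this
        have h6 : (g : G)⁻¹ * ((p : G)⁻¹ * h' * (p : G)) * (g : G) ∈ H := by
          have := (mem_normalizer_iff.1 (inv_mem hgN) _).1 h5
          rwa [inv_inv] at this
        have h7 : (g : G) * (p : G) * ((g : G)⁻¹ * ((p : G)⁻¹ * h' * (p : G)) * (g : G)) *
            ((g : G) * (p : G))⁻¹ = h' := by
          have := key g p hgz hph _ h6
          have h8 := key p g hpz hgh _ h6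
          have hsame : (g : G) * ((p : G) * ((g : G)⁻¹ * ((p : G)⁻¹ * h' * (p : G)) * (g : G)) * (p : G)⁻¹) * (g : G)⁻¹ =
              (p : G) * ((g : G) * ((g : G)⁻¹ * ((p : G)⁻¹ * h' * (p : G)) * (g : G)) * (g : G)⁻¹) * (p : G)⁻¹ := by
            rw [this, h8]
            have hcm := hcI _ (hph _ h6) _ (hgh _ h6)
            calc _ = ((p : G) * ((g : G)⁻¹ * ((p : G)⁻¹ * h' * (p : G)) * (g : G)) * (p : G)⁻¹ * ((g : G)⁻¹ * ((p : G)⁻¹ * h' * (p : G)) * (g : G))⁻¹) * ((g : G) * ((g : G)⁻¹ * ((p : G)⁻¹ * h' * (p : G)) * (g : G)) * (g : G)⁻¹ * ((g : G)⁻¹ * ((p : G)⁻¹ * h' * (p : G)) * (g : G))⁻¹) * ((g : G)⁻¹ * ((p : G)⁻¹ * h' * (p : G)) * (g : G)) := by group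
              _ = _ := by rw [hcm]; group
          calc _ = (g : G) * ((p : G) * ((g : G)⁻¹ * ((p : G)⁻¹ * h' * (p : G)) * (g : G)) * (p : G)⁻¹) * (g : G)⁻¹ := by group
            _ = _ := hsame
            _ = h' := by group
        calc h' * ((g : G) * (p : G) * (g : G)⁻¹ * (p : G)⁻¹)
            = ((g : G) * (p : G) * ((g : G)⁻¹ * ((p : G)⁻¹ * h' * (p : G)) * (g : G)) *
                ((g : G) * (p : G))⁻¹) * ((g : G) * (p : G) * (g : G)⁻¹ * (p : G)⁻¹) := by rw [h7]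
          _ = (g : G) * (p : G) * (g : G)⁻¹ * (p : G)⁻¹ * h' := by group
      show (g : G) * (p : G) * (g : G)⁻¹ ∈ X
      rw [show (g : G) * (p : G) * (g : G)⁻¹ = ⁅(g : G), (p : G)⁆ * (p : G) by rw [commutatorElement_def]; group]
      exact mul_mem (mem_sup_right hc) hp.1⟩
    have hpq : IsPGroup 2 (↥V ⧸ (X ⊓ V).subgroupOf V) := by
      intro q
      obtain ⟨g, rfl⟩ := QuotientGroup.mk_surjective q
      obtain ⟨-, hgz, hgh⟩ := g.2
      obtain ⟨k, hk⟩ := D.pow_mem_centralizer (Z := I) inf_le_left hgz hgh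
      refine ⟨k, ?_⟩
      rw [← QuotientGroup.mk_pow, QuotientGroup.eq_one_iff]
      exact ⟨mem_sup_right (by simpa using hk), pow_mem g.2 _⟩
    obtain ⟨n, hn'⟩ := IsPGroup.iff_card.1 hpq
    rw [← index_eq_card, show ((X ⊓ V).subgroupOf V).index = X.relIndex V from inf_relIndex_right X V] at hn'
    rcases n with _ | n
    · exact relIndex_eq_one.1 (by simpa using hn') haV
    · exact absurd (by rw [hn']; exact dvd_pow_self 2 n.succ_ne_zero) hodd
  -- `a` fixes `e`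
  have := hXI e hexC he a haX
  have h2 := D.conj_by (hg.le he) heA ha
  rw [this, mul_inv_cancel_right] at h2
  exact (right_eq_mul.1 h2)

/-- At most one non-trivial central commutator. -/
theorem dl_cen_unique (hmv : ∃ H x, Moves S A H x) {a b : G} (ha : a ∈ A) (hb : b ∈ A)
    (hac : dl w a ∈ cen A w) (hbc : dl w b ∈ cen A w) (ha1 : dl w a ≠ 1) (hb1 : dl w b ≠ 1) :
    dl w a = dl w b := by
  obtain ⟨H, x, h⟩ := hmv
  by_cases hB : ∀ p ∈ H, p ∈ A → p ∈ cen A w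
  · obtain ⟨e, he, heA, hex⟩ := D.moves_outside h
    have hmem : ∀ p ∈ H, x⁻¹ * p * x ∈ H := fun p hp => by
      have := (mem_normalizer_iff.1 (inv_mem h.2.1) p).1 hp
      rwa [inv_inv] at this
    have h1 : ∀ {c : G}, c ∈ A → dl w c ∈ cen A w → dl w c ≠ 1 → x⁻¹ * dl w c * x ∉ A := fun {c} hc hcc hc1 hA =>
      hc1 (D.moves_inter_eq_one h hB hc hcc (hB _ (hmem _ (D.cen_le_good h.1 hcc)) hA))
    have h2 : x⁻¹ * (dl w a * dl w b) * x ∈ A := by
      rw [show x⁻¹ * (dl w a * dl w b) * x = (x⁻¹ * dl w a * x) * (x⁻¹ * dl w b * x) by group]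
      exact (D.mul_mem_iff (h.1.le (hmem _ (D.cen_le_good h.1 hac))) (h.1.le (hmem _ (D.cen_le_good h.1 hbc)))).2
        (iff_of_false (h1 ha hac ha1) (h1 hb hbc hb1))
    have hab : dl w (a * b) = 1 := by
      refine D.moves_inter_eq_one h hB (mul_mem ha hb) ?_ ?_
      · rw [D.dl_mul ha hb]; exact mul_mem hac hbc
      · rw [D.dl_mul ha hb]; exact hB _ (hmem _ (D.cen_le_good h.1 (mul_mem hac hbc))) h2
    rw [D.dl_mul ha hb, mul_eq_one_iff_eq_inv] at hab
    rw [hab]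
    exact inv_eq_of_mul_eq_one_right ((D.dl_mem_cen_iff hb).1 hbc)
  · push Not at hB
    obtain ⟨p, hp, hpA, hpC⟩ := hB
    exact D.moves_dl_eq h (D.moves_mem_of_dl h hp hpA hpC ha hac) ha
      (fun hc => ha1 ((D.dl_eq_one_iff ha).2 hc)) (D.moves_mem_of_dl h hp hpA hpC hb hbc) hb
      (fun hc => hb1 ((D.dl_eq_one_iff hb).2 hc))

/-- The commutators form a cyclic group, with a unique involution `z`; it is central. -/
theorem exists_z (hmv : ∃ H x, Moves S A H x) :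
    ∃ z g₀ : G, g₀ ∈ A ∧ z ∈ cen A w ∧ z ≠ 1 ∧ z * z = 1 ∧ 4 ∣ orderOf (dl w g₀) ∧
      (∀ a ∈ A, ∃ i : ℕ, a * (g₀ ^ i)⁻¹ ∈ cen A w) ∧
      z = dl w g₀ ^ (orderOf (dl w g₀) / 2) ∧
      (∀ a ∈ A, dl w a ∈ cen A w → dl w a = 1 ∨ dl w a = z) := by
  haveI : Fact (Nat.Prime 2) := ⟨Nat.prime_two⟩
  let f : ↥A →* G :=
    { toFun := fun a => dl w (a : G)
      map_one' := D.dl_one
      map_mul' := fun a b => D.dl_mul a.2 b.2 }
  have hfA : f.range ≤ A := by
    rintro _ ⟨a, rfl⟩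
    exact D.dl_mem a.2
  have hp : IsPGroup 2 ↥f.range := (S.isPGroup'.to_le D.le).to_le hfA
  have hinvol : ∀ y ∈ f.range, y * y = 1 → y ∈ cen A w := by
    rintro _ ⟨a, rfl⟩ hy
    exact (D.dl_mem_cen_iff a.2).2 hy
  haveI hcyc : IsCyclic ↥f.range := Grp.isCyclic_of_one_invol hp
    (fun p q => Subtype.ext (D.comm _ (hfA p.2) _ (hfA q.2))) (fun p q hp1 hq1 hp2 hq2 => by
    obtain ⟨a, ha⟩ := p.2
    obtain ⟨b, hb⟩ := q.2
    refine Subtype.ext ?_
    rw [← ha, ← hb]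
    have hp3 : (p : G) * p = 1 := congrArg Subtype.val hp2
    have hq3 : (q : G) * q = 1 := congrArg Subtype.val hq2
    exact D.dl_cen_unique hmv a.2 b.2 (ha ▸ hinvol _ p.2 hp3 : f a ∈ cen A w) (hb ▸ hinvol _ q.2 hq3 : f b ∈ cen A w)
      (fun e => hp1 (Subtype.ext (ha.symm.trans e))) (fun e => hq1 (Subtype.ext (hb.symm.trans e))))
  obtain ⟨d, hd⟩ := hcyc.exists_generator
  obtain ⟨g₀, hg₀⟩ := d.2
  have hord : orderOf (dl w (g₀ : G)) = Nat.card ↥f.range := by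
    rw [← orderOf_eq_card_of_forall_mem_zpowers hd, ← Subgroup.orderOf_coe, ← hg₀]
    rfl
  obtain ⟨k, hk⟩ := IsPGroup.iff_card.1 hp
  have h3 : 3 ≤ Nat.card ↥f.range := by
    obtain ⟨a, ha, b, hb, ha1, hb1, hab⟩ := D.big
    let emb : Fin 3 → ↥f.range := ![1, ⟨_, ⟨⟨a, ha⟩, rfl⟩⟩, ⟨_, ⟨⟨b, hb⟩, rfl⟩⟩]
    have hinj : Function.Injective emb := by
      intro i j hij
      fin_cases i <;> fin_cases j <;> first
        | rfl
        | (exfalso; simp [emb, Subtype.ext_iff, f] at hij; first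
            | exact ha1 hij
            | exact hb1 hij
            | exact ha1 hij.symm
            | exact hb1 hij.symm
            | exact hab hij
            | exact hab hij.symm)
    simpa using Nat.card_le_card_of_injective emb hinj
  obtain ⟨j, rfl⟩ : ∃ j, k = j + 2 := ⟨k - 2, by
    rcases k with _ | _ | k
    · rw [hk] at h3; norm_num at h3
    · rw [hk] at h3; norm_num at h3
    · omega⟩
  have h4 : 4 ∣ orderOf (dl w (g₀ : G)) := ⟨2 ^ j, by rw [hord, hk]; ring⟩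
  set m := orderOf (dl w (g₀ : G)) with hm
  have hzm : dl w (g₀ : G) ^ (m / 2) * dl w (g₀ : G) ^ (m / 2) = 1 := by
    rw [← pow_add, ← two_mul, Nat.mul_div_cancel' (dvd_trans (by norm_num) h4), hm, pow_orderOf_eq_one]
  have hmpos : 4 ≤ m := Nat.le_of_dvd (orderOf_pos _) h4
  have hz1 : dl w (g₀ : G) ^ (m / 2) ≠ 1 := pow_ne_one_of_lt_orderOf (by omega) (by omega)
  refine ⟨dl w (g₀ : G) ^ (m / 2), g₀, g₀.2, hinvol _ (pow_mem (f.mem_range.2 ⟨g₀, rfl⟩) _) hzm, hz1, hzm, h4,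
    fun a ha => ?_, rfl, fun a ha hac => or_iff_not_imp_left.2 fun ha1 => ?_⟩
  · obtain ⟨i, hi⟩ := mem_powers_iff_mem_zpowers.2 (hd ⟨f ⟨a, ha⟩, ⟨_, rfl⟩⟩)
    refine ⟨i, (D.dl_eq_one_iff (mul_mem ha (inv_mem (pow_mem g₀.2 i)))).1 ?_⟩
    have hi' : dl w (g₀ : G) ^ i = dl w a := by
      have h9 : (d : G) ^ i = f ⟨a, ha⟩ := congrArg Subtype.val hi
      rw [← hg₀] at h9
      exact h9
    rw [D.dl_mul ha (inv_mem (pow_mem g₀.2 i)), D.dl_inv (pow_mem g₀.2 i), D.dl_pow g₀.2, hi', mul_inv_cancel]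
  · rw [← D.dl_pow g₀.2]
    refine D.dl_cen_unique hmv ha (pow_mem g₀.2 _) hac ?_ ha1 ?_
    · exact (D.dl_mem_cen_iff (pow_mem g₀.2 _)).2 (by rw [D.dl_pow g₀.2]; exact hzm)
    · rw [D.dl_pow g₀.2]; exact hz1

end AB

end Cfsg.Agent.Fus.TwoModFour
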