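import Cfsg.Agent.Lib.Fus.TwoModFour.AbFlat
import Cfsg.Agent.Lib.Invol.CentralTransfer

/-!
# The involution of `[A, w]` is not the square of a central element

Then the centre is elementary abelian and equal to `Ω₁(A)`, and it has order two.
-/

set_option autoImplicit false
set_option linter.unusedSectionVars false
set_option linter.style.haveILetI false

namespace Cfsg.Agent.Fus.TwoModFour

open Subgroup
open Cfsg.Agent.Invol.StrongAlperin (Good)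

universe u

variable {G : Type u} [Group G] [Finite G] {S : Sylow 2 G} {A : Subgroup G} {w : G}

namespace AB

variable (D : AB S A w)

include D

theorem conj_mul_self {g : G} (hg : g ∈ A) : g * (w * g * w⁻¹) ∈ cen A w := by
  refine mem_cen.2 ⟨mul_mem hg (D.conj_mem D.wS hg), ?_⟩
  have e : w * (g * (w * g * w⁻¹)) * w⁻¹ = g * (w * g * w⁻¹) := by
    rw [show w * (g * (w * g * w⁻¹)) * w⁻¹ = (w * g * w⁻¹) * (w * (w * g * w⁻¹) * w⁻¹) by group,
      D.conj_conj, D.comm _ (D.conj_mem D.wS hg) g hg]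
  rw [mul_inv_eq_iff_eq_mul] at e
  exact e.symm

theorem dl_eq_sq {g : G} (hg : g ∈ A) : dl w g = g * g * (g * (w * g * w⁻¹))⁻¹ := by
  rw [dl_def]
  set q := w * g * w⁻¹
  have hq : q⁻¹ * g⁻¹ = g⁻¹ * q⁻¹ := D.comm _ (inv_mem (D.conj_mem D.wS hg)) _ (inv_mem hg)
  rw [mul_inv_rev g q, hq]
  group

end AB

theorem omA_le_cen (D : AB S A w) {g₀ z : G} {i : ℕ} (hg₀ : g₀ ∈ A) (hi : Even i)
    (hzi : z = dl w g₀ ^ i) (honly : ∀ a ∈ A, dl w a ∈ cen A w → dl w a = 1 ∨ dl w a = z)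
    (hnsq : ∀ c ∈ cen A w, c * c ≠ z) {v : G} (hv : v ∈ A) (hv2 : v * v = 1) : v ∈ cen A w := by
  by_contra hvC
  have h1 : dl w v * dl w v = 1 := by rw [← D.dl_mul hv hv, hv2, D.dl_one]
  have hdv : dl w v = z := (honly v hv ((D.dl_mem_cen_iff hv).2 h1)).resolve_left
    fun e => hvC ((D.dl_eq_one_iff hv).1 e)
  obtain ⟨q, hq⟩ := hi
  set c₀ := g₀ * (w * g₀ * w⁻¹)
  have hc₀ : c₀ ∈ cen A w := D.conj_mul_self hg₀
  set c₁ := v * (g₀ ^ i)⁻¹
  have hc₁ : c₁ ∈ cen A w := (D.dl_eq_one_iff (mul_mem hv (inv_mem (pow_mem hg₀ i)))).1 (by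
    rw [D.dl_mul hv (inv_mem (pow_mem hg₀ i)), D.dl_inv (pow_mem hg₀ i), D.dl_pow hg₀, ← hzi, hdv, mul_inv_cancel])
  have hgc : Commute (g₀ * g₀) c₀⁻¹ := D.comm _ (mul_mem hg₀ hg₀) _ (inv_mem (mem_cen.1 hc₀).1)
  have hsq : g₀ ^ i * g₀ ^ i = c₁⁻¹ * c₁⁻¹ := by
    have hv' : v = c₁ * g₀ ^ i := (inv_mul_cancel_right v (g₀ ^ i)).symm
    rw [hv', mul_assoc, ← mul_assoc (g₀ ^ i) c₁, D.comm _ (pow_mem hg₀ i) c₁ (mem_cen.1 hc₁).1] at hv2
    have h3 : (c₁ * c₁) * (g₀ ^ i * g₀ ^ i) = 1 := by rw [← hv2]; group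
    rw [← mul_inv_rev]
    exact eq_inv_of_mul_eq_one_right h3
  refine hnsq (c₁⁻¹ * c₀⁻¹ ^ q) (mul_mem (inv_mem hc₁) (pow_mem (inv_mem hc₀) q)) ?_
  have hcc : Commute (c₀⁻¹ ^ q) c₁⁻¹ :=
    D.comm _ (pow_mem (inv_mem (mem_cen.1 hc₀).1) q) _ (inv_mem (mem_cen.1 hc₁).1)
  rw [hzi, D.dl_eq_sq hg₀, hgc.mul_pow, (Commute.refl g₀).mul_pow, hsq, hq, pow_add]
  calc c₁⁻¹ * c₀⁻¹ ^ q * (c₁⁻¹ * c₀⁻¹ ^ q) = c₁⁻¹ * (c₀⁻¹ ^ q * c₁⁻¹) * c₀⁻¹ ^ q := by group
    _ = c₁⁻¹ * (c₁⁻¹ * c₀⁻¹ ^ q) * c₀⁻¹ ^ q := by rw [hcc.eq]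
    _ = c₁⁻¹ * c₁⁻¹ * (c₀⁻¹ ^ q * c₀⁻¹ ^ q) := by group

theorem cen_elementary (D : AB S A w)
    (hom : ∀ v ∈ A, v * v = 1 → v ∈ cen A w)
    (hout : ∀ t ∈ A, orderOf t = 2 → ∃ g : G, g * t * g⁻¹ ∈ (S : Subgroup G) ∧ g * t * g⁻¹ ∉ A) :
    ∀ c ∈ cen A w, c * c = 1 := by
  intro c hc
  haveI : Fact (Nat.Prime 2) := ⟨Nat.prime_two⟩
  -- a square of a central element which is an involution never leaves the centre
  have hW : ∀ v, v * v = 1 → (∃ c ∈ cen A w, c * c = v) → v = 1 := by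
    intro v hv2 hv
    refine exit_contra hout (fun p => p * p = 1 ∧ p ∈ A ∧ ∃ c ∈ cen A w, c * c = p) (fun p hp => hp.2.1) D.le ?_
      ⟨hv2, ?_, hv⟩ hv2
    · intro H hg x hx p hp hW
      obtain ⟨hp2, hpA, c, hc, hcp⟩ := hW
      have hpC : p ∈ cen A w := hcp ▸ mul_mem hc hc
      have hu2 : x⁻¹ * p * x * (x⁻¹ * p * x) = 1 := by
        rw [show x⁻¹ * p * x * (x⁻¹ * p * x) = x⁻¹ * (p * p) * x by group, hp2, mul_one, inv_mul_cancel]
      have hu : x⁻¹ * p * x⁻¹⁻¹ ∈ cen A w := by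
        rw [inv_inv]
        rcases D.step_cases hg with rfl | hf | hpres
        · refine hom _ ?_ hu2
          have := (mem_normalizer_iff.1 (inv_mem hx) p).1 hpA
          rwa [inv_inv] at this
        · rw [← hcp, show x⁻¹ * (c * c) * x = (x⁻¹ * c * x) * (x⁻¹ * c * x) by group]
          refine D.flat_sq hf ?_
          have := (mem_normalizer_iff.1 (inv_mem hx) c).1 (D.cen_le_good hg hc)
          rwa [inv_inv] at this
        · simpa using hpres x⁻¹ (inv_mem hx) p hpC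
      obtain ⟨n, hn, hne⟩ := D.burnside_elt hpC hu
      rw [inv_inv] at hu hne
      exact ⟨hu2, (mem_cen.1 hu).1, n * c * n⁻¹, D.normalizer_cen hn hc, by rw [← hne, ← hcp]; group⟩
    · obtain ⟨c, hc, rfl⟩ := hv
      exact (mem_cen.1 (mul_mem hc hc)).1
  obtain ⟨j, hj⟩ := IsPGroup.iff_orderOf.1 (S.isPGroup'.to_le ((inf_le_left : cen A w ≤ A).trans D.le)) ⟨c, hc⟩
  rw [← orderOf_coe] at hj
  rcases j with _ | _ | j
  · rw [pow_zero, orderOf_eq_one_iff] at hj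
    rw [show c = 1 from hj, one_mul]
  · rw [← pow_two, show (2 : ℕ) = orderOf c from by rw [hj, pow_one], pow_orderOf_eq_one]
  · exfalso
    have e : ∀ k, c ^ 2 ^ k * c ^ 2 ^ k = c ^ 2 ^ (k + 1) := fun k => by rw [← pow_add]; ring_nf
    have h1 := hW (c ^ 2 ^ (j + 1)) (by
      rw [e, show 2 ^ (j + 1 + 1) = orderOf c from hj.symm, pow_orderOf_eq_one]) ⟨c ^ 2 ^ j, pow_mem hc _, e j⟩
    refine pow_ne_one_of_lt_orderOf (pow_ne_zero _ two_ne_zero) ?_ h1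
    rw [show orderOf c = 2 ^ (j + 1 + 1) from hj]
    exact Nat.pow_lt_pow_right (by norm_num) (by omega)

theorem exists_hom_index_two (D : AB S A w) {g₀ z : G} (hg₀ : g₀ ∈ A)
    (hgen : ∀ a ∈ A, ∃ i : ℕ, a * (g₀ ^ i)⁻¹ ∈ cen A w)
    (honly : ∀ a ∈ A, dl w a ∈ cen A w → dl w a = 1 ∨ dl w a = z)
    (hC : ∀ c ∈ cen A w, c * c = 1) (hc₀ : g₀ * (w * g₀ * w⁻¹) = 1) {v : G} (hv : v ∈ cen A w)
    (hvS : v ∈ (S : Subgroup G)) (hv1 : v ≠ 1) (hvz : v ≠ z) :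
    ∃ φ : ↥(S : Subgroup G) →* Multiplicative (ZMod 2), φ ⟨v, hvS⟩ ≠ 1 := by
  classical
  let f : ↥A →* G :=
    { toFun := fun a => dl w (a : G)
      map_one' := D.dl_one
      map_mul' := fun a b => D.dl_mul a.2 b.2 }
  have hsqA : ∀ a ∈ A, a * a ∈ f.range ∧ a * (w * a * w⁻¹) = 1 := by
    intro a ha
    obtain ⟨i, hi⟩ := hgen a ha
    set c := a * (g₀ ^ i)⁻¹
    have hac : a = c * g₀ ^ i := (inv_mul_cancel_right a _).symm
    have hcw : w * c * w⁻¹ = c := by rw [← (mem_cen.1 hi).2, mul_inv_cancel_right]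
    have hgw : w * g₀ ^ i * w⁻¹ = (g₀ ^ i)⁻¹ := by
      rw [← conj_pow, eq_inv_of_mul_eq_one_right hc₀, inv_pow]
    have hgcm : g₀ ^ i * c = c * g₀ ^ i := D.comm _ (pow_mem hg₀ i) c (mem_cen.1 hi).1
    have h1 : a * (w * a * w⁻¹) = 1 := by
      rw [hac, show w * (c * g₀ ^ i) * w⁻¹ = (w * c * w⁻¹) * (w * g₀ ^ i * w⁻¹) by group, hcw, hgw,
        show c * g₀ ^ i * (c * (g₀ ^ i)⁻¹) = c * (g₀ ^ i * c) * (g₀ ^ i)⁻¹ by group, hgcm,
        show c * (c * g₀ ^ i) * (g₀ ^ i)⁻¹ = c * c by group, hC c hi]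
    refine ⟨⟨⟨a, ha⟩, ?_⟩, h1⟩
    show dl w a = a * a
    rw [D.dl_eq_sq ha, h1, inv_one, mul_one]
  let K : Subgroup ↥(S : Subgroup G) := closure {q | ∃ s, q = s * s}
  have hK : ∀ q ∈ K, (q : G) ∈ f.range := by
    intro q hq
    refine ((closure_le (f.range.subgroupOf (S : Subgroup G))).2 ?_ hq : _)
    rintro _ ⟨s, rfl⟩
    show (s : G) * s ∈ f.range
    by_cases hsA : (s : G) ∈ A
    · exact (hsqA s hsA).1
    · have ha : (s : G) * w ∈ A := (D.mul_mem_iff s.2 D.wS).2 (iff_of_false hsA D.wA)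
      have h2 := (hsqA _ ha).2
      rw [show (s : G) * w * (w * ((s : G) * w) * w⁻¹) = (s : G) * (w * w) * s by group, D.w2, mul_one] at h2
      rw [h2]; exact one_mem _
  have hvK : (⟨v, hvS⟩ : ↥(S : Subgroup G)) ∉ K := fun h => by
    obtain ⟨a, ha⟩ := hK _ h
    have h1 : dl w (a : G) = v := ha
    rcases honly a a.2 (h1 ▸ hv) with e | e
    · exact hv1 (h1.symm.trans e)
    · exact hvz (h1.symm.trans e)
  have hcomm : ∀ p q : ↥(S : Subgroup G), p * q * p⁻¹ * q⁻¹ ∈ K := fun p q => by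
    rw [show p * q * p⁻¹ * q⁻¹ = (p * q) * (p * q) * ((q⁻¹ * p⁻¹ * q) * (q⁻¹ * p⁻¹ * q)) * (q⁻¹ * q⁻¹) by group]
    exact mul_mem (mul_mem (subset_closure ⟨_, rfl⟩) (subset_closure ⟨_, rfl⟩)) (subset_closure ⟨_, rfl⟩)
  obtain ⟨M, ⟨hKM, hvM⟩, hmax⟩ := (Set.toFinite {M : Subgroup ↥(S : Subgroup G) | K ≤ M ∧ ⟨v, hvS⟩ ∉ M}).exists_maximal
    ⟨K, le_rfl, hvK⟩
  have hMn : M.Normal := ⟨fun p hp q => by
    rw [show q * p * q⁻¹ = (q * p * q⁻¹ * p⁻¹) * p by group]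
    exact mul_mem (hKM (hcomm q p)) hp⟩
  have hidx : ∀ s, s ∉ M → s * ⟨v, hvS⟩ ∈ M := by
    intro s hs
    by_contra hsv
    let M' := M ⊔ zpowers s
    have hvM' : (⟨v, hvS⟩ : ↥(S : Subgroup G)) ∈ M' := by
      by_contra h
      exact hs (hmax ⟨hKM.trans le_sup_left, h⟩ le_sup_left (mem_sup_right (mem_zpowers s)))
    obtain ⟨m, hm, t, ht, hmt⟩ := (Subgroup.mem_sup_of_normal_left (hs := hMn)).1 hvM'
    obtain ⟨k, rfl⟩ := mem_zpowers_iff.1 ht
    have hss : s * s ∈ M := hKM (subset_closure ⟨s, rfl⟩)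
    rcases Int.even_or_odd k with ⟨l, rfl⟩ | ⟨l, rfl⟩
    · refine hvM ?_
      rw [← hmt, ← two_mul, _root_.zpow_mul, zpow_two]
      exact mul_mem hm (zpow_mem hss l)
    · have h1 : (⟨v, hvS⟩ : ↥(S : Subgroup G)) = m * (s * s) ^ l * s := by
        rw [← hmt, zpow_add_one, _root_.zpow_mul, zpow_two, mul_assoc]
      refine hsv ?_
      rw [h1, show s * (m * (s * s) ^ l * s) = (s * (m * (s * s) ^ l) * s⁻¹) * (s * s) by group]
      exact mul_mem (hMn.conj_mem _ (mul_mem hm (zpow_mem hss l)) s) hss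
  have hiff : ∀ p q, p * q ∈ M ↔ (p ∈ M ↔ q ∈ M) := by
    have h2 : M.index = 2 := index_eq_two_iff.2 ⟨⟨v, hvS⟩, fun s => by
      by_cases hs : s ∈ M
      · exact Or.inr ⟨hs, fun h => hvM ((mul_mem_cancel_left hs).1 h)⟩
      · exact Or.inl ⟨hidx s hs, hs⟩⟩
    exact fun p q => Subgroup.mul_mem_iff_of_index_two h2
  refine ⟨MonoidHom.mk' (fun s => if s ∈ M then 1 else Multiplicative.ofAdd 1) fun p q => ?_, ?_⟩
  · by_cases hp : p ∈ M <;> by_cases hq : q ∈ M <;> simp [hp, hq, hiff p q] <;> decide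
  · rw [MonoidHom.mk'_apply, if_neg hvM]
    decide

variable [IsSimpleGroup G]

/-- The centre has order two. -/
theorem card_cen_of_not_square (hna : ¬ IsMulCommutative G) (D : AB S A w) {g₀ z : G} {i : ℕ} (hg₀ : g₀ ∈ A)
    (hzi : z = dl w g₀ ^ i) (hz1 : z ≠ 1) (hzC : z ∈ cen A w) (hgen : ∀ a ∈ A, ∃ i : ℕ, a * (g₀ ^ i)⁻¹ ∈ cen A w)
    (honly : ∀ a ∈ A, dl w a ∈ cen A w → dl w a = 1 ∨ dl w a = z)
    (hom : ∀ v ∈ A, v * v = 1 → v ∈ cen A w) (hC : ∀ c ∈ cen A w, c * c = 1)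
    (hout : ∀ t ∈ A, orderOf t = 2 → ∃ g : G, g * t * g⁻¹ ∈ (S : Subgroup G) ∧ g * t * g⁻¹ ∉ A) :
    Nat.card ↥(cen A w) ≤ 2 := by
  classical
  haveI : Fact (Nat.Prime 2) := ⟨Nat.prime_two⟩
  have hsqC : ∀ v ∈ cen A w, v * v = 1 := hC
  -- a central element staying central at every flat subgroup is trivial
  have hW : ∀ v ∈ cen A w, (∀ H, Flat S A w H → ∀ x ∈ normalizer (H : Set G), x * v * x⁻¹ ∈ cen A w) → v = 1 := by
    intro v hv hall
    refine exit_contra hout (fun p => p ∈ cen A w ∧ ∀ H, Flat S A w H → ∀ x ∈ normalizer (H : Set G), x * p * x⁻¹ ∈ cen A w)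
      (fun p hp => (mem_cen.1 hp.1).1) D.le ?_ ⟨hv, hall⟩ (hC v hv)
    intro H hg x hx p hp hW
    have hu : x⁻¹ * p * x⁻¹⁻¹ ∈ cen A w := by
      rcases D.step_cases hg with rfl | hf | hpres
      · refine hom _ ?_ ?_
        · exact (mem_normalizer_iff.1 (inv_mem hx) p).1 (mem_cen.1 hW.1).1
        · rw [show x⁻¹ * p * x⁻¹⁻¹ * (x⁻¹ * p * x⁻¹⁻¹) = x⁻¹ * (p * p) * x by group, hC p hW.1, mul_one, inv_mul_cancel]
      · exact hW.2 H hf _ (inv_mem hx)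
      · exact hpres x⁻¹ (inv_mem hx) p hW.1
    obtain ⟨n, hn, hne⟩ := D.burnside_elt hW.1 hu
    rw [inv_inv] at hu hne
    refine ⟨hu, fun H' hf' y hy => ?_⟩
    -- transport `H'` by `n`
    have hmap : H'.map (MulAut.conj n⁻¹).toMonoidHom ≤ (S : Subgroup G) := by
      rintro _ ⟨q, hq, rfl⟩
      exact (mem_normalizer_iff.1 (inv_mem hn) q).1 (hf'.1.le hq)
    have hf'' : Flat S A w (H'.map (MulAut.conj n⁻¹).toMonoidHom) := by
      refine ⟨Invol.StrongAlperin.Good.map (inv_mem hn) hf'.1, fun hle => hf'.2.1 fun q hq => ?_, ?_⟩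
      · have := (mem_normalizer_iff.1 (D.normalizer_le hn) _).1 (hle ⟨q, hq, rfl⟩)
        simpa [mul_assoc] using this
      · rintro _ ⟨q, hq, rfl⟩ hqA
        have h1 := (mem_normalizer_iff.1 (D.normalizer_le hn) _).1 hqA
        have h2 : q ∈ cen A w := hf'.2.2 q hq (by simpa [mul_assoc] using h1)
        exact D.normalizer_cen (inv_mem hn) h2
    have hy' : n⁻¹ * y * n ∈ normalizer ((H'.map (MulAut.conj n⁻¹).toMonoidHom : Subgroup G) : Set G) := by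
      have h1 : (normalizer (H' : Set G)).map (MulAut.conj n⁻¹).toMonoidHom ≤
          normalizer ((H'.map (MulAut.conj n⁻¹).toMonoidHom : Subgroup G) : Set G) := by
        rw [Invol.StrongAlperin.map_conj_normalizer]
      exact h1 ⟨y, hy, by simp⟩
    have := D.normalizer_cen hn (hW.2 _ hf'' _ hy')
    rw [← hne]
    rwa [show n * (n⁻¹ * y * n * p * (n⁻¹ * y * n)⁻¹) * n⁻¹ = y * (n * p * n⁻¹) * y⁻¹ by group] at this
  -- the flat subgroups that matter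
  let F : Subgroup G → Prop := fun H => Flat S A w H ∧ core A w H ≠ cen A w
  have hinv : ∀ H, F H → ∃ e ∈ H, e ∉ A ∧ e * e = 1 := by
    rintro H ⟨hf, hne⟩
    obtain ⟨v, hv, hvc⟩ : ∃ v ∈ cen A w, v ∉ core A w H := by
      by_contra hno
      push Not at hno
      exact hne (le_antisymm (core_le H) hno)
    obtain ⟨x, hx, hxv⟩ : ∃ x ∈ normalizer (H : Set G), x * v * x⁻¹ ∉ cen A w := by
      by_contra hno
      push Not at hno
      exact hvc ⟨hv, hno⟩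
    have hH : x * v * x⁻¹ ∈ H := (mem_normalizer_iff.1 hx v).1 (D.cen_le_good hf.1 hv)
    exact ⟨_, hH, fun h => hxv (hf.2.2 _ hH h),
      by rw [show x * v * x⁻¹ * (x * v * x⁻¹) = x * (v * v) * x⁻¹ by group, hC v hv, mul_one, mul_inv_cancel]⟩
  set c₀ := g₀ * (w * g₀ * w⁻¹)
  have hc₀ : c₀ ∈ cen A w := D.conj_mul_self hg₀
  -- the parity of a flat subgroup
  have hpar : ∀ e ∈ (S : Subgroup G), e ∉ A → e * e = 1 →
      ∃ j : ℕ, e * w * (g₀ ^ j)⁻¹ ∈ cen A w ∧ c₀ ^ j = 1 := by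
    intro e he heA he2
    have ha : e * w ∈ A := (D.mul_mem_iff he D.wS).2 (iff_of_false heA D.wA)
    obtain ⟨j, hj⟩ := hgen _ ha
    refine ⟨j, hj, ?_⟩
    set c := e * w * (g₀ ^ j)⁻¹
    have hac : e * w = c * g₀ ^ j := (inv_mul_cancel_right _ _).symm
    have h1 : e * w * (w * (e * w) * w⁻¹) = 1 := by
      rw [show e * w * (w * (e * w) * w⁻¹) = e * (w * w) * e by group, D.w2, mul_one, he2]
    rw [hac, show w * (c * g₀ ^ j) * w⁻¹ = (w * c * w⁻¹) * (w * g₀ ^ j * w⁻¹) by group,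
      show w * c * w⁻¹ = c by rw [← (mem_cen.1 hj).2, mul_inv_cancel_right]] at h1
    have hgcm : g₀ ^ j * c = c * g₀ ^ j := D.comm _ (pow_mem hg₀ j) c (mem_cen.1 hj).1
    rw [show c * g₀ ^ j * (c * (w * g₀ ^ j * w⁻¹)) = c * (g₀ ^ j * c) * (w * g₀ ^ j * w⁻¹) by group, hgcm,
      show c * (c * g₀ ^ j) * (w * g₀ ^ j * w⁻¹) = c * c * (g₀ ^ j * (w * g₀ ^ j * w⁻¹)) by group,
      hC c hj, one_mul, ← conj_pow] at h1
    rw [show c₀ ^ j = g₀ ^ j * (w * g₀ * w⁻¹) ^ j from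
      (Commute.mul_pow (D.comm g₀ hg₀ _ (D.conj_mem D.wS hg₀)) j), h1]
  -- equal parity gives equal cores
  have hcore : ∀ H H', Flat S A w H → Flat S A w H' → ∀ e ∈ H, e ∉ A → ∀ e' ∈ H', e' ∉ A → ∀ j j' : ℕ,
      e * w * (g₀ ^ j)⁻¹ ∈ cen A w → e' * w * (g₀ ^ j')⁻¹ ∈ cen A w → j % 2 = j' % 2 → core A w H' ≤ core A w H := by
    intro H H' hf hf' e he heA e' he' heA' j j' hj hj' hpar
    obtain ⟨b, hb, hbe⟩ : ∃ b ∈ A, dl w b * e' * e⁻¹ ∈ cen A w := by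
      obtain ⟨k, hk⟩ | ⟨k, hk⟩ : (∃ k, j = j' + 2 * k) ∨ (∃ k, j' = j + 2 * k) := by
        rcases le_total j' j with h | h
        · exact Or.inl ⟨(j - j') / 2, by omega⟩
        · exact Or.inr ⟨(j' - j) / 2, by omega⟩
      all_goals
        have hd : ∀ l : ℕ, dl w (g₀ ^ l) * (g₀ ^ (2 * l))⁻¹ ∈ cen A w := fun l => by
          have hgc : Commute (g₀ * g₀) c₀⁻¹ := D.comm _ (mul_mem hg₀ hg₀) _ (inv_mem (mem_cen.1 hc₀).1)
          rw [D.dl_pow hg₀, D.dl_eq_sq hg₀, hgc.mul_pow, ← pow_two, ← pow_mul,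
            D.comm _ (pow_mem hg₀ _) _ (pow_mem (inv_mem (mem_cen.1 hc₀).1) _), mul_inv_cancel_right]
          exact pow_mem (inv_mem hc₀) _
        have hk' := hd k
      · refine ⟨g₀ ^ k, pow_mem hg₀ k, ?_⟩
        have h1 := mul_mem (mul_mem hk' hj') (inv_mem hj)
        have key : dl w (g₀ ^ k) * e' * e⁻¹ = dl w (g₀ ^ k) * (g₀ ^ (2 * k))⁻¹ * (e' * w * (g₀ ^ j')⁻¹) * (e * w * (g₀ ^ j)⁻¹)⁻¹ := by
          have hm : e' * w ∈ A := (D.mul_mem_iff (hf'.1.le he') D.wS).2 (iff_of_false heA' D.wA)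
          rw [mul_assoc (dl w (g₀ ^ k)) (g₀ ^ (2 * k))⁻¹ (e' * w * (g₀ ^ j')⁻¹),
            D.comm (g₀ ^ (2 * k))⁻¹ (inv_mem (pow_mem hg₀ _)) _ (mul_mem hm (inv_mem (pow_mem hg₀ _))), hk, pow_add]
          group
        rw [key]; exact h1
      · refine ⟨(g₀ ^ k)⁻¹, inv_mem (pow_mem hg₀ k), ?_⟩
        have h1 := mul_mem (mul_mem (inv_mem hk') hj') (inv_mem hj)
        have key : dl w (g₀ ^ k)⁻¹ * e' * e⁻¹ = (dl w (g₀ ^ k) * (g₀ ^ (2 * k))⁻¹)⁻¹ * (e' * w * (g₀ ^ j')⁻¹) * (e * w * (g₀ ^ j)⁻¹)⁻¹ := by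
          have hm : e' * w ∈ A := (D.mul_mem_iff (hf'.1.le he') D.wS).2 (iff_of_false heA' D.wA)
          have h2 : (dl w (g₀ ^ k) * (g₀ ^ (2 * k))⁻¹)⁻¹ = (dl w (g₀ ^ k))⁻¹ * g₀ ^ (2 * k) := by
            rw [mul_inv_rev, inv_inv,
              D.comm _ (pow_mem hg₀ _) _ (inv_mem (D.dl_mem (pow_mem hg₀ k)))]
          rw [h2, D.dl_inv (pow_mem hg₀ k), mul_assoc (dl w (g₀ ^ k))⁻¹ (g₀ ^ (2 * k)) (e' * w * (g₀ ^ j')⁻¹),
            D.comm (g₀ ^ (2 * k)) (pow_mem hg₀ _) _ (mul_mem hm (inv_mem (pow_mem hg₀ _))), hk, pow_add]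
          group
        rw [key]; exact h1
    -- `b` carries `H'` to `H`
    rintro v ⟨hv, hall⟩
    refine ⟨hv, fun x hx => ?_⟩
    have hbe' : b * e' * b⁻¹ ∈ H := by
      rw [D.conj_by (hf'.1.le he') heA' hb]
      exact (D.flat_mem_iff hf he heA _).2 (Or.inr hbe)
    have hmap : ∀ q, q ∈ H' → b * q * b⁻¹ ∈ H := by
      intro q hq
      rcases (D.flat_mem_iff hf' he' heA' q).1 hq with h | h
      · rw [D.comm_mem hb (mem_cen.1 h).1]; exact D.cen_le_good hf.1 h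
      · have h1 := mul_mem (D.cen_le_good hf.1 h) hbe'
        have e1 : b * q * b⁻¹ = (b * (q * e'⁻¹) * b⁻¹) * (b * e' * b⁻¹) := by group
        rw [e1, D.comm_mem hb (mem_cen.1 h).1]
        exact h1
    have hmap' : ∀ q, q ∈ H → b⁻¹ * q * b ∈ H' := by
      intro q hq
      rcases (D.flat_mem_iff hf hbe' (fun h => heA' (by
        have := mul_mem (mul_mem (inv_mem hb) h) hb
        rwa [show b⁻¹ * (b * e' * b⁻¹) * b = e' by group] at this)) q).1 hq with h | h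
      · rw [show b⁻¹ * q * b = b⁻¹ * q * b⁻¹⁻¹ by group, D.comm_mem (inv_mem hb) (mem_cen.1 h).1]
        exact D.cen_le_good hf'.1 h
      · have h2 := D.comm_mem (inv_mem hb) (mem_cen.1 h).1
        rw [inv_inv] at h2
        have e1 : b⁻¹ * q * b = (b⁻¹ * (q * (b * e' * b⁻¹)⁻¹) * b) * e' := by group
        rw [e1, h2]
        exact mul_mem (D.cen_le_good hf'.1 h) he'
    have hy : b⁻¹ * x * b ∈ normalizer (H' : Set G) := by
      refine mem_normalizer_iff.2 fun q => ⟨fun hq => ?_, fun hq => ?_⟩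
      · have := hmap' _ ((mem_normalizer_iff.1 hx _).1 (hmap q hq))
        simpa [mul_assoc] using this
      · have := hmap' _ ((mem_normalizer_iff.1 (inv_mem hx) _).1 (hmap _ hq))
        simpa [mul_assoc] using this
    have h1 := hall _ hy
    have h2 := D.comm_mem hb (mem_cen.1 h1).1
    have h3 : b⁻¹ * x * b * v * (b⁻¹ * x * b)⁻¹ = b⁻¹ * (x * v * x⁻¹) * b := by
      rw [show b⁻¹ * x * b * v * (b⁻¹ * x * b)⁻¹ = b⁻¹ * (x * (b * v * b⁻¹) * x⁻¹) * b by group,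
        D.comm_mem hb (mem_cen.1 hv).1]
    rw [h3, show b * (b⁻¹ * (x * v * x⁻¹) * b) * b⁻¹ = x * v * x⁻¹ by group] at h2
    rw [h3, ← h2] at h1
    exact h1
  have hsmall : ∀ H, F H → Nat.card ↥(cen A w) ≤ 2 * Nat.card ↥(core A w H) := fun H hF => by
    obtain ⟨e, he, heA, he2⟩ := hinv H hF
    exact card_cen_le_core D hF.1 (pow_mem hg₀ i) (by rw [D.dl_pow hg₀]; exact hzi.symm) hz1 honly hC hzC he heA he2
  -- the common core of the two parities is trivial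
  have hmeet : ∀ H₀ H₁ : Subgroup G, (∀ H, F H → core A w H₀ ≤ core A w H ∨ core A w H₁ ≤ core A w H) →
      core A w H₀ ⊓ core A w H₁ = ⊥ := fun H₀ H₁ h => (eq_bot_iff_forall _).2 fun v hv => by
    refine hW v hv.1.1 fun H hf x hx => ?_
    by_cases hF : F H
    · rcases h H hF with hle | hle
      · exact (hle hv.1).2 x hx
      · exact (hle hv.2).2 x hx
    · have : core A w H = cen A w := not_not.1 fun hne => hF ⟨hf, hne⟩
      exact ((this.ge hv.1.1 : v ∈ core A w H)).2 x hx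
  have hex : ∃ H, F H := by
    by_contra hno
    push Not at hno
    refine hz1 (hW z hzC fun H hf x hx => ?_)
    have : core A w H = cen A w := not_not.1 fun hne => hno H ⟨hf, hne⟩
    exact ((this.ge hzC : z ∈ core A w H)).2 x hx
  obtain ⟨H₀, hF₀⟩ := hex
  obtain ⟨e₀, he₀, he₀A, he₀2⟩ := hinv H₀ hF₀
  obtain ⟨j₀, hj₀, hj₀'⟩ := hpar e₀ (hF₀.1.1.le he₀) he₀A he₀2
  by_cases hone : ∀ H, F H → core A w H₀ ≤ core A w H
  · have h1 := hmeet H₀ H₀ fun H hH => Or.inl (hone H hH)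
    rw [inf_idem] at h1
    have := hsmall H₀ hF₀
    rw [h1, card_bot] at this
    omega
  push Not at hone
  obtain ⟨H₁, hF₁, hne₁⟩ := hone
  obtain ⟨e₁, he₁, he₁A, he₁2⟩ := hinv H₁ hF₁
  obtain ⟨j₁, hj₁, hj₁'⟩ := hpar e₁ (hF₁.1.1.le he₁) he₁A he₁2
  have hjne : j₁ % 2 ≠ j₀ % 2 := fun e => hne₁ (hcore H₁ H₀ hF₁.1 hF₀.1 e₁ he₁ he₁A e₀ he₀ he₀A j₁ j₀ hj₁ hj₀ e)
  have hc₀1 : c₀ = 1 := by
    have hpar1 : ∀ j, c₀ ^ j = 1 → j % 2 = 1 → c₀ = 1 := fun j hj hodd => by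
      obtain ⟨l, rfl⟩ : ∃ l, j = 2 * l + 1 := ⟨j / 2, by omega⟩
      rwa [pow_succ, pow_mul, pow_two, hC c₀ hc₀, one_pow, one_mul] at hj
    rcases Nat.mod_two_eq_zero_or_one j₁ with h | h
    · exact hpar1 j₀ hj₀' (by omega)
    · exact hpar1 j₁ hj₁' h
  have hbot := hmeet H₀ H₁ fun H hH => by
    obtain ⟨e, he, heA, he2⟩ := hinv H hH
    obtain ⟨j, hj, -⟩ := hpar e (hH.1.1.le he) heA he2
    by_cases hp : j % 2 = j₀ % 2
    · exact Or.inl (hcore H H₀ hH.1 hF₀.1 e he heA e₀ he₀ he₀A j j₀ hj hj₀ hp)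
    · exact Or.inr (hcore H H₁ hH.1 hF₁.1 e he heA e₁ he₁ he₁A j j₁ hj hj₁ (by omega))
  -- the centre has order at most four
  have hle4 : Nat.card ↥(cen A w) ≤ 4 := by
    have h0 := hsmall H₀ hF₀
    have h1 := hsmall H₁ hF₁
    have hm := Grp.relIndex_mul_card_inf (core A w H₀) (core A w H₁)
    rw [hbot, card_bot] at hm
    have hle : (core A w H₁).relIndex (core A w H₀) ≤ (core A w H₁).relIndex (cen A w) :=
      relIndex_le_of_le_right (core_le H₀) index_ne_zero_of_finite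
    have h2 := Grp.card_mul_relIndex (core_le (A := A) (w := w) H₁)
    have hpos : 0 < Nat.card ↥(core A w H₁) := Nat.card_pos
    have hrel : (core A w H₁).relIndex (cen A w) ≤ 2 := by
      refine Nat.le_of_mul_le_mul_left ?_ hpos
      rw [h2, mul_comm _ 2]
      exact h1
    have : (core A w H₁).relIndex (core A w H₀) = Nat.card ↥(core A w H₀) := by simpa using hm
    omega
  by_contra hbig
  push Not at hbig
  -- a central involution other than `z` is fixed by the normaliser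
  obtain ⟨v, hv, hv1, hvz⟩ : ∃ v ∈ cen A w, v ≠ 1 ∧ v ≠ z := by
    by_contra hno
    push Not at hno
    have hsub : (cen A w : Set G) ⊆ {1, z} := fun v hv => by
      by_cases h : v = 1
      · exact Or.inl h
      · exact Or.inr (hno v hv h)
    have h1 := Set.ncard_le_ncard hsub (Set.toFinite _)
    have h2 : ({1, z} : Set G).ncard ≤ 2 := Set.ncard_insert_le _ _ |>.trans (by simp)
    have h3 : (cen A w : Set G).ncard = Nat.card ↥(cen A w) := (Nat.card_coe_set_eq _).symm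
    omega
  have hvS : v ∈ (S : Subgroup G) := D.le (mem_cen.1 hv).1
  obtain ⟨φ, hφ⟩ := exists_hom_index_two D hg₀ hgen honly hC hc₀1 hv hvS hv1 hvz
  have hfour : (cen A w : Set G) = {1, z, v, v * z} := by
    refine (Set.eq_of_subset_of_ncard_le ?_ ?_ (Set.toFinite _)).symm
    · rintro q (rfl | rfl | rfl | rfl)
      exacts [one_mem _, hzC, hv, mul_mem hv hzC]
    · have h3 : (cen A w : Set G).ncard = Nat.card ↥(cen A w) := (Nat.card_coe_set_eq _).symm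
      have hvzne : v * z ≠ 1 := fun h => hvz (by
        rw [← mul_one v, ← hC z hzC, ← mul_assoc, h, one_mul])
      rw [Set.ncard_insert_of_notMem (by simp [Ne.symm hz1, Ne.symm hv1, Ne.symm hvzne]) (Set.toFinite _),
        Set.ncard_insert_of_notMem (by simp [Ne.symm hvz, hv1]) (Set.toFinite _),
        Set.ncard_insert_of_notMem (by simp [hz1]) (Set.toFinite _), Set.ncard_singleton]
      omega
  have hnz : ∀ n ∈ normalizer ((S : Subgroup G) : Set G), n * z * n⁻¹ = z := by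
    intro n hn
    have hnA := D.normalizer_le hn
    have e : ∀ a ∈ A, n * dl w a * n⁻¹ = dl w (n * a * n⁻¹) := by
      intro a ha
      have hw' : n * w * n⁻¹ ∈ (S : Subgroup G) := (mem_normalizer_iff.1 hn w).1 D.wS
      have hw'A : n * w * n⁻¹ ∉ A := fun h => D.wA ((mem_normalizer_iff.1 hnA w).2 h)
      have ha' : n * a * n⁻¹ ∈ A := (mem_normalizer_iff.1 hnA a).1 ha
      rw [dl_def, dl_def, ← D.conj_outside hw' hw'A ha']
      group
    rw [hzi, ← D.dl_pow hg₀, e _ (pow_mem hg₀ i)]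
    refine ((honly _ ((mem_normalizer_iff.1 hnA _).1 (pow_mem hg₀ i)) ?_).resolve_left ?_).trans
      (hzi.trans (D.dl_pow hg₀ i).symm)
    · rw [← e _ (pow_mem hg₀ i), D.dl_pow hg₀, ← hzi]
      exact D.normalizer_cen hn hzC
    · rw [← e _ (pow_mem hg₀ i), D.dl_pow hg₀, ← hzi]
      exact fun h => hz1 (conj_eq_one_iff.1 h)
  have hnv : ∀ n ∈ normalizer ((S : Subgroup G) : Set G), n * v * n⁻¹ = v ∨ n * v * n⁻¹ = v * z := by
    intro n hn
    have h1 : n * v * n⁻¹ ∈ ({1, z, v, v * z} : Set G) := hfour ▸ D.normalizer_cen hn hv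
    rcases h1 with e | e | e | e
    · exact absurd (conj_eq_one_iff.1 e) hv1
    · refine absurd ((MulAut.conj n).injective (show n * v * n⁻¹ = n * z * n⁻¹ by rw [hnz n hn]; exact e)) hvz
    · exact Or.inl e
    · exact Or.inr e
  have hNv : ∀ n ∈ normalizer ((S : Subgroup G) : Set G), n * v * n⁻¹ = v := by
    intro n hn
    rcases hnv n hn with e | e
    · exact e
    exfalso
    -- the odd part of `n` swaps as well, and it is a 2-element
    obtain ⟨k, m, hm, hord⟩ := Nat.exists_eq_two_pow_mul_odd (orderOf_pos n).ne'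
    have hstep : ∀ l : ℕ, n ^ (2 * l) * v * (n ^ (2 * l))⁻¹ = v := by
      intro l
      induction l with
      | zero => simp
      | succ l ih =>
        rw [show 2 * (l + 1) = 1 + (1 + 2 * l) by ring, pow_add, pow_add, pow_one]
        calc n * (n * n ^ (2 * l)) * v * (n * (n * n ^ (2 * l)))⁻¹
            = n * (n * (n ^ (2 * l) * v * (n ^ (2 * l))⁻¹) * n⁻¹) * n⁻¹ := by group
          _ = n * (v * z) * n⁻¹ := by rw [ih, e]
          _ = (n * v * n⁻¹) * (n * z * n⁻¹) := by group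
          _ = v := by rw [e, hnz n hn, mul_assoc, hC z hzC, mul_one]
    obtain ⟨l, hl⟩ := hm
    have hnm : n ^ m * v * (n ^ m)⁻¹ = v * z := by
      rw [hl, add_comm, pow_add, pow_one,
        show n * n ^ (2 * l) * v * (n * n ^ (2 * l))⁻¹ = n * (n ^ (2 * l) * v * (n ^ (2 * l))⁻¹) * n⁻¹ by group,
        hstep l, e]
    have h2e : IsPGroup 2 ↥(zpowers (n ^ m)) := by
      have hdvd : orderOf (n ^ m) ∣ 2 ^ k := orderOf_dvd_of_pow_eq_one (by
        rw [← pow_mul, mul_comm, ← hord, pow_orderOf_eq_one])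
      obtain ⟨k', -, hk'⟩ := (Nat.dvd_prime_pow Nat.prime_two).1 hdvd
      exact IsPGroup.of_card (n := k') (by rw [Nat.card_zpowers, hk'])
    have hnS : n ^ m ∈ (S : Subgroup G) := by
      have hle : zpowers (n ^ m) ≤ normalizer ((S : Subgroup G) : Set G) := zpowers_le.2 (pow_mem hn m)
      exact S.3 (IsPGroup.to_sup_of_normal_left' S.isPGroup' h2e hle) le_sup_left ▸ mem_sup_right (mem_zpowers _)
    rw [D.cen_central hv hnS, mul_inv_cancel_right] at hnm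
    exact hz1 (left_eq_mul.1 hnm)
  obtain ⟨H, hH⟩ := Invol.exists_index_two_of_fixed_central S φ (hC v hv) hvS hφ
    (fun s hs => D.cen_central hv hs) hNv
  haveI := Subgroup.normal_of_index_eq_two hH
  rcases (inferInstance : H.Normal).eq_bot_or_eq_top with e | e
  · rw [e, index_bot] at hH
    refine hna ⟨⟨fun p q => ?_⟩⟩
    haveI : IsCyclic G := isCyclic_of_prime_card (p := 2) hH
    exact (IsCyclic.commGroup (α := G)).mul_comm p q
  · rw [e, index_top] at hH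
    omega

end Cfsg.Agent.Fus.TwoModFour
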