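import Cfsg.Agent.Lib.Fus.TwoModFour.AbRankBase
import Cfsg.Agent.Lib.Fus.TwoModFour.Transvection

/-!
# The involution of `[A, w]` is the square of a central element

Then the centre is moved only by `N(A)`, which forces `Ω₁(A)` to be a four-group.
-/

set_option autoImplicit false
set_option linter.unusedSectionVars false
set_option linter.style.haveILetI false

namespace Cfsg.Agent.Fus.TwoModFour

open Subgroup
open Cfsg.Agent.Invol.StrongAlperin (Good)

universe u

variable {G : Type u} [Group G] [Finite G] {S : Sylow 2 G} {A : Subgroup G} {w : G}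

theorem omA_normalized (D : AB S A w) : normalizer (A : Set G) ≤ normalizer ((omA D : Subgroup G) : Set G) :=
  fun k hk => mem_normalizer_iff.2 fun p => by
    show p ∈ A ∧ p * p = 1 ↔ k * p * k⁻¹ ∈ A ∧ k * p * k⁻¹ * (k * p * k⁻¹) = 1
    rw [show k * p * k⁻¹ * (k * p * k⁻¹) = k * (p * p) * k⁻¹ by group, conj_eq_one_iff]
    exact and_congr_left fun _ => mem_normalizer_iff.1 hk p

theorem relIndex_normalizer_not_four (D : AB S A w) : ¬ 4 ∣ A.relIndex (normalizer (A : Set G)) := by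
  intro h
  have hSN : (S : Subgroup G) ≤ normalizer (A : Set G) := fun s hs => mem_normalizer_iff.2 fun a =>
    ⟨fun ha => D.conj_mem hs ha, fun ha => by simpa [mul_assoc] using D.conj_mem (inv_mem hs) ha⟩
  rw [← relIndex_mul_relIndex A (S : Subgroup G) _ D.le hSN, D.idx] at h
  haveI : Fact (Nat.Prime 2) := ⟨Nat.prime_two⟩
  have h2 : ¬ 2 ∣ (S : Subgroup G).relIndex (normalizer (A : Set G)) := fun hd =>
    S.not_dvd_index (hd.trans (relIndex_dvd_index_of_le hSN))
  omega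

/-- `Ω₁(A)` is at most a four-group and meets the centre in at most two elements. -/
theorem omA_small_of_square (D : AB S A w) {g₀ z c : G} {i : ℕ} (hg₀ : g₀ ∈ A)
    (hzi : z = dl w g₀ ^ i) (hz1 : z ≠ 1) (hzz : z * z = 1)
    (honly : ∀ a ∈ A, dl w a ∈ cen A w → dl w a = 1 ∨ dl w a = z) (hc : c ∈ cen A w) (hsq : c * c = z)
    (hout : ∀ t ∈ A, orderOf t = 2 → ∃ g : G, g * t * g⁻¹ ∈ (S : Subgroup G) ∧ g * t * g⁻¹ ∉ A) :
    Nat.card ↥(omA D) ≤ 4 ∧ Nat.card ↥(omA D ⊓ cen A w : Subgroup G) ≤ 2 := by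
  classical
  have hflat : ∀ H : Subgroup G, ¬ Flat S A w H := fun H =>
    D.no_flat (pow_mem hg₀ i) hc (by rw [D.dl_pow hg₀, ← hzi, hsq]) (by rw [D.dl_pow hg₀, ← hzi]; exact hz1)
  -- a central involution all whose `N(A)`-conjugates are central never leaves `A`
  have hW : ∀ v, v ∈ cen A w → v * v = 1 → (∀ k ∈ normalizer (A : Set G), k * v * k⁻¹ ∈ cen A w) → v = 1 := by
    intro v hv hv2 hall
    refine exit_contra hout (fun p => p ∈ cen A w ∧ ∀ k ∈ normalizer (A : Set G), k * p * k⁻¹ ∈ cen A w)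
      (fun p hp => (mem_cen.1 hp.1).1) D.le ?_ ⟨hv, hall⟩ hv2
    intro H hg x hx p hp hW
    rcases D.step_cases hg with rfl | hf | hpres
    · refine ⟨by simpa using hW.2 x⁻¹ (inv_mem hx), fun k hk => ?_⟩
      have := hW.2 (k * x⁻¹) (mul_mem hk (inv_mem hx))
      rwa [show k * x⁻¹ * p * (k * x⁻¹)⁻¹ = k * (x⁻¹ * p * x) * k⁻¹ by group] at this
    · exact absurd hf (hflat H)
    · have hu : x⁻¹ * p * x⁻¹⁻¹ ∈ cen A w := hpres x⁻¹ (inv_mem hx) p hW.1
      obtain ⟨n, hn, hne⟩ := D.burnside_elt hW.1 hu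
      rw [inv_inv] at hu hne
      refine ⟨hu, fun k hk => ?_⟩
      have := hW.2 (k * n) (mul_mem hk (D.normalizer_le hn))
      rw [← hne]
      rwa [show k * n * p * (k * n)⁻¹ = k * (n * p * n⁻¹) * k⁻¹ by group] at this
  let Om := omA D
  letI : CommGroup ↥Om :=
    { (inferInstance : Group ↥Om) with mul_comm := fun p q => Subtype.ext (D.comm p p.2.1 q q.2.1) }
  let f : ↥(normalizer (A : Set G)) →* MulAut ↥Om :=
    (normalizerMonoidHom Om).comp (Subgroup.inclusion (omA_normalized D))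
  have hf : ∀ (k : ↥(normalizer (A : Set G))) (p : ↥Om), ((f k p : ↥Om) : G) = (k : G) * p * (k : G)⁻¹ :=
    fun k p => rfl
  have hA : A ≤ normalizer (A : Set G) := le_normalizer
  have hR : ¬ 4 ∣ Nat.card ↥f.range := not_four_dvd_image f hA (fun a ha => by
      refine MonoidHom.mem_ker.2 (MulEquiv.ext fun p => Subtype.ext ?_)
      rw [hf]
      exact D.comm_mem ha p.2.1) (relIndex_normalizer_not_four D)
  have hwN : w ∈ normalizer (A : Set G) := mem_normalizer_iff.2 fun a =>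
    ⟨fun ha => D.conj_mem D.wS ha, fun ha => by simpa [mul_assoc] using D.conj_mem (inv_mem D.wS) ha⟩
  let P : Subgroup ↥Om := (cen A w).subgroupOf Om
  have hzOm : z ∈ Om := ⟨hzi ▸ pow_mem (D.dl_mem hg₀) i, hzz⟩
  have hzC : z ∈ cen A w := hsq ▸ mul_mem hc hc
  have hout' : ∀ p : ↥Om, p ∉ P → dl w (p : G) = z := by
    intro p hp
    have h1 : dl w (p : G) * dl w (p : G) = 1 := by rw [← D.dl_mul p.2.1 p.2.1, p.2.2, D.dl_one]
    exact (honly p p.2.1 ((D.dl_mem_cen_iff p.2.1).2 h1)).resolve_left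
      fun e => hp ((D.dl_eq_one_iff p.2.1).1 e)
  obtain ⟨v₀, hv₀⟩ : ∃ p : ↥Om, p ∉ P := by
    by_contra hno
    push Not at hno
    refine hz1 (hW z hzC hzz fun k hk => ?_)
    exact hno ⟨_, (mem_normalizer_iff.1 (omA_normalized D hk) z).1 hzOm⟩
  have hP : P.index = 2 := index_eq_two_iff.2 ⟨v₀, fun p => by
    by_cases hp : p ∈ P
    · exact Or.inr ⟨hp, fun h => hv₀ ((mul_mem_cancel_left hp).1 h)⟩
    · refine Or.inl ⟨?_, hp⟩
      show ((p * v₀ : ↥Om) : G) ∈ cen A w
      refine (D.dl_eq_one_iff (mul_mem p.2.1 v₀.2.1)).1 ?_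
      rw [D.dl_mul p.2.1 v₀.2.1, hout' p hp, hout' v₀ hv₀, hzz]⟩
  have hτ : Tv (f ⟨w, hwN⟩) P ⟨z, hzOm⟩ :=
    { index := hP
      mem := hzC
      ne := fun e => hz1 (congrArg Subtype.val e)
      sq := Subtype.ext hzz
      fix := fun p hp => Subtype.ext (by
        rw [hf]
        show w * (p : G) * w⁻¹ = p
        have h1 : (p : G) * w = w * (p : G) := (mem_cen.1 hp).2
        rw [← h1, mul_inv_cancel_right])
      move := fun p hp => Subtype.ext (by
        rw [hf, Subgroup.coe_mul]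
        show w * (p : G) * w⁻¹ = (p : G) * z
        have h1 := hout' p hp
        rw [dl_def, mul_inv_eq_iff_eq_mul] at h1
        have hz' : z⁻¹ = z := inv_eq_of_mul_eq_one_right hzz
        calc w * (p : G) * w⁻¹ = z⁻¹ * (z * (w * (p : G) * w⁻¹)) := by group
          _ = z * (p : G) := by rw [← h1, hz']
          _ = (p : G) * z := D.comm z hzOm.1 p p.2.1) }
  haveI : Finite ↥f.range := Finite.of_surjective f.rangeRestrict f.rangeRestrict_surjective
  obtain ⟨h4, h0⟩ := index_orbitCore_le hR hτ ⟨⟨w, hwN⟩, rfl⟩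
  have hcore : orbitCore f.range P = ⊥ := (eq_bot_iff_forall _).2 fun p hp => Subtype.ext (by
    refine hW p (hp 1 (one_mem _)) p.2.2 fun k hk => ?_
    exact hp (f ⟨k, hk⟩) ⟨⟨k, hk⟩, rfl⟩)
  rw [hcore, index_bot] at h4
  refine ⟨h4, ?_⟩
  have h1 := P.card_mul_index
  rw [hP] at h1
  have h2 : Nat.card ↥(omA D ⊓ cen A w : Subgroup G) = Nat.card ↥P := Nat.card_congr
    { toFun := fun p => ⟨⟨p, p.2.1⟩, p.2.2⟩
      invFun := fun p => ⟨((p : ↥Om) : G), (p : ↥Om).2, p.2⟩
      left_inv := fun p => rfl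
      right_inv := fun p => rfl }
  omega

end Cfsg.Agent.Fus.TwoModFour
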