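import Cfsg.Prelude.Def_CaseTheorems
import Cfsg.Agent.Lib.Fus.TwoModFour.AbRankSquare
import Cfsg.Agent.Lib.Fus.TwoModFour.AbRankFree

/-!
# A simple group with an abelian subgroup of index two in a Sylow 2-subgroup has 2-rank at most 2
-/

set_option autoImplicit false
set_option linter.unusedSectionVars false
set_option linter.style.haveILetI false

namespace Cfsg.Agent.Fus.TwoModFour

open Subgroup
open Cfsg.Agent.Invol.StrongAlperin (Good)

universe u

variable {G : Type u} [Group G] [Finite G] {S : Sylow 2 G} {A : Subgroup G} {w : G}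

theorem exists_moves (D : AB S A w)
    (hout : ∀ t ∈ A, orderOf t = 2 → ∃ g : G, g * t * g⁻¹ ∈ (S : Subgroup G) ∧ g * t * g⁻¹ ∉ A) :
    ∃ H x, Moves S A H x := by
  haveI : Fact (Nat.Prime 2) := ⟨Nat.prime_two⟩
  by_contra hno
  obtain ⟨a, ha, b, hb, hne, -, -⟩ := D.big
  have ha1 : (⟨a, ha⟩ : ↥A) ≠ 1 := fun e => hne (by
    rw [show a = 1 from congrArg Subtype.val e]; simp)
  haveI : Nontrivial ↥A := ⟨⟨_, _, ha1⟩⟩
  obtain ⟨n, hn⟩ := IsPGroup.iff_card.1 (S.isPGroup'.to_le D.le)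
  have h2 : 2 ∣ Nat.card ↥A := by
    rcases n with _ | n
    · exact absurd hn (Finite.one_lt_card (α := ↥A)).ne'
    · rw [hn, pow_succ]; exact dvd_mul_left 2 _
  obtain ⟨t, ht⟩ := exists_prime_orderOf_dvd_card' 2 h2
  rw [← orderOf_coe] at ht
  obtain ⟨g, hg, hgA⟩ := hout t t.2 ht
  refine hgA (stable_conj S (fun p => p ∈ A) (fun H hH x hx v hv hvA => ?_) (D.le t.2) t.2 hg)
  by_contra hxv
  exact hno ⟨H, x⁻¹, hH, inv_mem hx, v, hv, hvA, by rwa [inv_inv]⟩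

variable [IsSimpleGroup G]

/-- The elementary abelian subgroups of `A`. -/
theorem omA_bound (hna : ¬ IsMulCommutative G) (D : AB S A w)
    (hout : ∀ t ∈ A, orderOf t = 2 → ∃ g : G, g * t * g⁻¹ ∈ (S : Subgroup G) ∧ g * t * g⁻¹ ∉ A) :
    Nat.card ↥(omA D) ≤ 4 ∧ Nat.card ↥(omA D ⊓ cen A w : Subgroup G) ≤ 2 := by
  obtain ⟨z, g₀, hg₀, hzC, hz1, hzz, h4, hgen, hzi, honly⟩ := D.exists_z (exists_moves D hout)
  by_cases hsq : ∃ c ∈ cen A w, c * c = z
  · obtain ⟨c, hc, hcz⟩ := hsq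
    exact omA_small_of_square D hg₀ hzi hz1 hzz honly hc hcz hout
  · push Not at hsq
    have heven : Even (orderOf (dl w g₀) / 2) := by
      obtain ⟨k, hk⟩ := h4
      exact ⟨k, by omega⟩
    have hom : ∀ v ∈ A, v * v = 1 → v ∈ cen A w := fun v hv hv2 =>
      omA_le_cen D hg₀ heven hzi honly hsq hv hv2
    have hC := cen_elementary D hom hout
    have hc2 := card_cen_of_not_square hna D hg₀ hzi hz1 hzC hgen honly hom hC hout
    have hle : omA D ≤ cen A w := fun v hv => hom v hv.1 hv.2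
    have h1 := card_le_of_le hle
    have h2 := card_le_of_le (inf_le_right : omA D ⊓ cen A w ≤ cen A w)
    exact ⟨h1.trans (hc2.trans (by norm_num)), h2.trans hc2⟩

/-- The group has 2-rank at most 2. -/
theorem rank_le_two (hna : ¬ IsMulCommutative G) (D : AB S A w)
    (hout : ∀ t ∈ A, orderOf t = 2 → ∃ g : G, g * t * g⁻¹ ∈ (S : Subgroup G) ∧ g * t * g⁻¹ ∉ A) :
    Cfsg.PRankLE 2 2 G := by
  haveI : Fact (Nat.Prime 2) := ⟨Nat.prime_two⟩
  obtain ⟨h4, h2⟩ := omA_bound hna D hout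
  intro E hEc hE2
  have hEp : IsPGroup 2 ↥E := fun e => ⟨1, Subtype.ext (by simpa using hE2 e e.2)⟩
  obtain ⟨R, hR⟩ := hEp.exists_le_sylow
  obtain ⟨g, hg⟩ := MulAction.exists_smul_eq G R S
  set E' : Subgroup G := E.map (MulAut.conj g).toMonoidHom
  have hcard : Nat.card ↥E' = Nat.card ↥E := card_map_of_injective (MulAut.conj g).injective
  have hES : E' ≤ (S : Subgroup G) := by
    rintro _ ⟨e, he, rfl⟩
    rw [← hg]
    exact Subgroup.smul_mem_pointwise_smul e (MulAut.conj g) (R : Subgroup G) (hR he)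
  have hsq : ∀ e ∈ E', e * e = 1 := by
    rintro _ ⟨e, he, rfl⟩
    rw [← map_mul, ← pow_two, hE2 e he, map_one]
  rw [← hcard]
  by_cases hEA : E' ≤ A
  · exact (card_le_of_le (K := omA D) fun e he => ⟨hEA he, hsq e he⟩).trans h4
  obtain ⟨e, he, heA⟩ := SetLike.not_le_iff_exists.1 hEA
  have hcm : ∀ p ∈ E', ∀ q ∈ E', p * q = q * p := by
    rintro _ ⟨p, hp, rfl⟩ _ ⟨q, hq, rfl⟩
    rw [← map_mul, ← map_mul]
    exact congrArg _ (congrArg Subtype.val (mul_comm' (⟨p, hp⟩ : ↥E) ⟨q, hq⟩))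
  have hle : A ⊓ E' ≤ omA D ⊓ cen A w := fun a ha =>
    ⟨⟨ha.1, hsq a ha.2⟩, D.mem_cen_of_comm ha.1 (hES he) heA (hcm a ha.2 e he)⟩
  have h5 := (card_le_of_le hle).trans h2
  have h6 : A.relIndex E' ≤ 2 :=
    (relIndex_le_of_le_right hES index_ne_zero_of_finite).trans D.idx.le
  have h7 := Grp.relIndex_mul_card_inf E' A
  rw [inf_comm] at h7
  calc Nat.card ↥E' = A.relIndex E' * Nat.card ↥(A ⊓ E' : Subgroup G) := h7.symm.trans (mul_comm _ _)
    _ ≤ 2 * 2 := Nat.mul_le_mul h6 h5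

end Cfsg.Agent.Fus.TwoModFour
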