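import Cfsg.Agent.Lib.Fus.TwoModFour.AbMoving

/-!
# The steps that can move the centre

The centre is moved only by the normaliser of `A` and by the normalisers of the good subgroups whose
intersection with `A` is central.
-/

set_option autoImplicit false
set_option linter.unusedSectionVars false
set_option linter.style.haveILetI false

namespace Cfsg.Agent.Fus.TwoModFour

open Subgroup
open Cfsg.Agent.Invol.StrongAlperin (Good)
open scoped commutatorElement

universe u

variable {G : Type u} [Group G] [Finite G] {S : Sylow 2 G} {A : Subgroup G} {w : G}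

/-- A good subgroup outside `A` meeting `A` in central elements. -/
def Flat (S : Sylow 2 G) (A : Subgroup G) (w : G) (H : Subgroup G) : Prop :=
  Good S H ∧ ¬ H ≤ A ∧ ∀ p ∈ H, p ∈ A → p ∈ cen A w

/-- The subgroup of the elements of `A` of order at most two. -/
def omA {S : Sylow 2 G} {A : Subgroup G} {w : G} (D : AB S A w) : Subgroup G where
  carrier := {a | a ∈ A ∧ a * a = 1}
  one_mem' := ⟨one_mem _, one_mul 1⟩
  mul_mem' := fun {p q} hp hq => ⟨mul_mem hp.1 hq.1, by
    rw [mul_assoc, ← mul_assoc q, D.comm q hq.1 p hp.1, mul_assoc p q q, hq.2, mul_one, hp.2]⟩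
  inv_mem' := fun {p} hp => ⟨inv_mem hp.1, by rw [← mul_inv_rev, hp.2, inv_one]⟩

theorem not_four_dvd_image {H : Type*} [Group H] {N K : Subgroup G} (f : ↥N →* H) (hKN : K ≤ N)
    (hker : K.subgroupOf N ≤ f.ker) (hidx : ¬ 4 ∣ K.relIndex N) : ¬ 4 ∣ Nat.card ↥f.range := fun h => by
  rw [← index_ker] at h
  exact hidx (h.trans (index_dvd_of_le hker))

namespace AB

variable (D : AB S A w)

include D

theorem not_le_of_exists {H : Subgroup G} (h : ¬ H ≤ A) : ∃ e ∈ H, e ∉ A := SetLike.not_le_iff_exists.1 h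

/-- A step either fixes the centre or is in `N(A)` or at a flat subgroup. -/
theorem step_cases {H : Subgroup G} (hg : Good S H) :
    H = A ∨ Flat S A w H ∨ ∀ x ∈ normalizer (H : Set G), ∀ c ∈ cen A w, x * c * x⁻¹ ∈ cen A w := by
  by_cases hHA : H ≤ A
  · exact Or.inl (D.good_eq_of_le hg hHA)
  obtain ⟨e, he, heA⟩ := SetLike.not_le_iff_exists.1 hHA
  by_cases hflat : ∀ p ∈ H, p ∈ A → p ∈ cen A w
  · exact Or.inr (Or.inl ⟨hg, hHA, hflat⟩)
  · push Not at hflat
    obtain ⟨b, hb, hbA, hbC⟩ := hflat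
    exact Or.inr (Or.inr fun x hx c hc => D.conj_cen hg he heA hb hbA hbC hx hc)

/-- The normaliser of the Sylow subgroup preserves the centre. -/
theorem normalizer_cen {n c : G} (hn : n ∈ normalizer ((S : Subgroup G) : Set G)) (hc : c ∈ cen A w) :
    n * c * n⁻¹ ∈ cen A w := by
  refine D.mem_cen_of_comm ((mem_normalizer_iff.1 (D.normalizer_le hn) c).1 (mem_cen.1 hc).1) D.wS D.wA ?_
  have h2 : n⁻¹ * w * n ∈ (S : Subgroup G) := by
    have := (mem_normalizer_iff.1 (inv_mem hn) w).1 D.wS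
    rwa [inv_inv] at this
  calc n * c * n⁻¹ * w = n * (c * (n⁻¹ * w * n)) * n⁻¹ := by group
    _ = n * ((n⁻¹ * w * n) * c) * n⁻¹ := by rw [D.cen_central hc h2]
    _ = w * (n * c * n⁻¹) := by group

/-- A conjugate central element is conjugate in the normaliser of the Sylow subgroup. -/
theorem burnside_elt {v g : G} (hv : v ∈ cen A w) (hg : g * v * g⁻¹ ∈ cen A w) :
    ∃ n ∈ normalizer ((S : Subgroup G) : Set G), n * v * n⁻¹ = g * v * g⁻¹ := by
  obtain ⟨n, hn, h⟩ := D.burnside (X := zpowers v) (zpowers_le.2 hv) (g := g) (fun x hx => by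
    have h1 : (zpowers v).map (MulAut.conj g).toMonoidHom ≤ cen A w := by
      rw [MonoidHom.map_zpowers]
      exact zpowers_le.2 hg
    exact h1 ⟨x, hx, rfl⟩)
  exact ⟨n, hn, h v (mem_zpowers v)⟩

/-- A flat subgroup is the centre extended by any of its elements outside `A`. -/
theorem flat_mem_iff {H : Subgroup G} (hf : Flat S A w H) {e : G} (he : e ∈ H) (heA : e ∉ A) (p : G) :
    p ∈ H ↔ p ∈ cen A w ∨ p * e⁻¹ ∈ cen A w := by
  constructor
  · intro hp
    by_cases hpA : p ∈ A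
    · exact Or.inl (hf.2.2 p hp hpA)
    · refine Or.inr (hf.2.2 _ (mul_mem hp (inv_mem he)) ?_)
      exact (D.mul_mem_iff (hf.1.le hp) (inv_mem (hf.1.le he))).2 (iff_of_false hpA (fun h => heA (by simpa using inv_mem h)))
  · rintro (hp | hp)
    · exact D.cen_le_good hf.1 hp
    · have := mul_mem (D.cen_le_good hf.1 hp) he
      rwa [inv_mul_cancel_right] at this

theorem flat_sq {H : Subgroup G} (hf : Flat S A w H) {p : G} (hp : p ∈ H) : p * p ∈ cen A w :=
  hf.2.2 _ (mul_mem hp hp) ((D.mul_mem_iff (hf.1.le hp) (hf.1.le hp)).2 Iff.rfl)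

theorem flat_comm {H : Subgroup G} (hf : Flat S A w H) {p q : G} (hp : p ∈ H) (hq : q ∈ H) : p * q = q * p := by
  obtain ⟨e, he, heA⟩ := SetLike.not_le_iff_exists.1 hf.2.1
  have key : ∀ c ∈ cen A w, ∀ h ∈ H, c * h = h * c := fun c hc h hh => (D.cen_central hc (hf.1.le hh)).symm
  rcases (D.flat_mem_iff hf he heA p).1 hp with h1 | h1
  · exact key p h1 q hq
  rcases (D.flat_mem_iff hf he heA q).1 hq with h2 | h2
  · exact (key q h2 p hp).symm
  have e1 : p = (p * e⁻¹) * e := (inv_mul_cancel_right p e).symm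
  have e2 : q = (q * e⁻¹) * e := (inv_mul_cancel_right q e).symm
  rw [e1, e2]
  generalize p * e⁻¹ = c at h1
  generalize q * e⁻¹ = d at h2
  calc c * e * (d * e) = c * (e * d) * e := by group
    _ = c * (d * e) * e := by rw [key d h2 e he]
    _ = c * d * (e * e) := by group
    _ = d * c * (e * e) := by rw [D.comm c (mem_cen.1 h1).1 d (mem_cen.1 h2).1]
    _ = d * (c * e) * e := by group
    _ = d * (e * c) * e := by rw [key c h1 e he]
    _ = d * e * (c * e) := by group

/-- If the central commutator is a square of a central element, there is no flat subgroup. -/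
theorem no_flat {a c : G} (ha : a ∈ A) (hc : c ∈ cen A w) (hsq : c * c = dl w a) (ha1 : dl w a ≠ 1)
    {H : Subgroup G} : ¬ Flat S A w H := by
  intro hf
  haveI : Fact (Nat.Prime 2) := ⟨Nat.prime_two⟩
  let Z : Subgroup G := closure {q | ∃ h ∈ H, q = h * h}
  have hZC : Z ≤ cen A w := (closure_le _).2 (by
    rintro _ ⟨h, hh, rfl⟩
    exact D.flat_sq hf hh)
  have hzZ : dl w a ∈ Z := subset_closure ⟨c, D.cen_le_good hf.1 hc, hsq.symm⟩
  have hzC := hZC hzZ
  have hconjZ : ∀ n ∈ normalizer (H : Set G), ∀ q ∈ Z, n * q * n⁻¹ ∈ Z := by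
    intro n hn q hq
    induction hq using closure_induction with
    | mem q hq =>
      obtain ⟨h, hh, rfl⟩ := hq
      exact subset_closure ⟨n * h * n⁻¹, (mem_normalizer_iff.1 hn h).1 hh, by group⟩
    | one => simp
    | mul p q _ _ hp hq => rw [show n * (p * q) * n⁻¹ = (n * p * n⁻¹) * (n * q * n⁻¹) by group]; exact mul_mem hp hq
    | inv p _ hp => rw [show n * p⁻¹ * n⁻¹ = (n * p * n⁻¹)⁻¹ by group]; exact inv_mem hp
  let V := stab H Z (fun g hgn hgz z hz => by rw [mul_assoc, ← hgz z hz, inv_mul_cancel_left])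
  have hact : ∀ p ∈ H, a * p * a⁻¹ * p⁻¹ ∈ Z := by
    intro p hp
    by_cases hpA : p ∈ A
    · rw [D.comm_mem ha hpA, mul_inv_cancel]; exact one_mem _
    · rw [D.conj_by (hf.1.le hp) hpA ha, mul_inv_cancel_right]; exact hzZ
  have hZH : Z ≤ H := fun q hq => D.cen_le_good hf.1 (hZC hq)
  have haN : a ∈ normalizer (H : Set G) := by
    refine mem_normalizer_iff.2 fun p => ⟨fun hp => ?_, fun hp => ?_⟩
    · have h1 := mul_mem (hZH (hact p hp)) hp
      rwa [inv_mul_cancel_right] at h1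
    · by_cases hpA : a * p * a⁻¹ ∈ A
      · have h2 := D.comm_mem (inv_mem ha) hpA
        rw [show a⁻¹ * (a * p * a⁻¹) * a⁻¹⁻¹ = p by group] at h2
        rw [h2]; exact hp
      · have h2 := D.conj_by (hf.1.le hp) hpA (inv_mem ha)
        rw [show a⁻¹ * (a * p * a⁻¹) * a⁻¹⁻¹ = p by group, D.dl_inv ha] at h2
        rw [h2]
        exact mul_mem (inv_mem (hZH hzZ)) hp
  have hgen : ∀ n ∈ normalizer (H : Set G), ∀ g ∈ V, n * g * n⁻¹ ∈ V := by
    rintro n hn g ⟨hgN, hgz, hgh⟩
    refine ⟨mul_mem (mul_mem hn hgN) (inv_mem hn), fun z hz => ?_, fun h' hh' => ?_⟩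
    · have h1 : n⁻¹ * z * n ∈ Z := by simpa using hconjZ n⁻¹ (inv_mem hn) z hz
      calc n * g * n⁻¹ * z = n * (g * (n⁻¹ * z * n)) * n⁻¹ := by group
        _ = n * ((n⁻¹ * z * n) * g) * n⁻¹ := by rw [hgz _ h1]
        _ = z * (n * g * n⁻¹) := by group
    · have h1 : n⁻¹ * h' * n ∈ H := by
        have := (mem_normalizer_iff.1 (inv_mem hn) h').1 hh'
        rwa [inv_inv] at this
      have h2 := hconjZ n hn _ (hgh _ h1)
      rwa [show n * (g * (n⁻¹ * h' * n) * g⁻¹ * (n⁻¹ * h' * n)⁻¹) * n⁻¹ =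
        n * g * n⁻¹ * h' * (n * g * n⁻¹)⁻¹ * h'⁻¹ by group] at h2
  have haV : a ∈ V := ⟨haN, fun z hz => D.comm a ha z (mem_cen.1 (hZC hz)).1, hact⟩
  have hVle := hf.1.radical V (fun g hgV => hgV.1) (fun n hn => mem_normalizer_iff.2 fun g =>
      ⟨fun hgV => hgen n hn g hgV, fun hgV => by
        have := hgen n⁻¹ (inv_mem hn) _ hgV
        simpa [mul_assoc] using this⟩)
    fun g hgV => D.pow_mem_centralizer hZC hgV.2.1 hgV.2.2
  obtain ⟨p, hp, q, hq, hpq⟩ := Set.mem_mul.1
    ((coe_mul_of_right_le_normalizer_left H (centralizer (H : Set G)) (centralizer_le_normalizer _)).subset (hVle haV))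
  have hqS : q ∈ (S : Subgroup G) := by
    rw [← inv_mul_cancel_left p q, hpq]
    exact mul_mem (inv_mem (hf.1.le hp)) (D.le ha)
  have haH : a ∈ H := hpq ▸ mul_mem hp (hf.1.centric ⟨hqS, hq⟩)
  exact ha1 ((D.dl_eq_one_iff ha).2 (hf.2.2 a haH ha))

end AB

/-- An involution conjugate outside `A` cannot have all conjugates in `A`. -/
theorem exit_contra (hout : ∀ t ∈ A, orderOf t = 2 → ∃ g : G, g * t * g⁻¹ ∈ (S : Subgroup G) ∧ g * t * g⁻¹ ∉ A)
    (W : G → Prop) (hWA : ∀ v, W v → v ∈ A) (hAS : A ≤ (S : Subgroup G))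
    (hstep : ∀ H : Subgroup G, Good S H → ∀ x ∈ normalizer (H : Set G), ∀ v ∈ H, W v → W (x⁻¹ * v * x))
    {v : G} (hv : W v) (hv2 : v * v = 1) : v = 1 := by
  by_contra hv1
  obtain ⟨g, hg, hgA⟩ := hout v (hWA v hv) (orderOf_eq_prime (by rw [pow_two, hv2]) hv1)
  exact hgA (hWA _ (stable_conj S W hstep (hAS (hWA v hv)) hv hg))

end Cfsg.Agent.Fus.TwoModFour
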