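import Cfsg.Agent.Lib.Fus.TwoModFour.Simple
import Cfsg.Agent.Lib.Grp.CoprimeAbelian

/-!
# The stabiliser of a point and elementary abelian self-centralising Sylow 2-subgroups
-/

set_option autoImplicit false
set_option linter.unusedSectionVars false
set_option linter.style.haveILetI false

namespace Cfsg.Agent.Fus.TwoModFour

open MulAction Subgroup
open Cfsg.Agent.Perm.TwoStab (pairStab Fx mem_Fx mem_pairStab)
open Cfsg.Agent.Grp (IsSylowIn)

universe u v

variable {G : Type u} [Group G] [Finite G] {Ω : Type v} [Fintype Ω] [MulAction G Ω]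

theorem Deg.card_stab (h : Deg G Ω) (a : Ω) : Nat.card G = Fintype.card Ω * Nat.card ↥(stabilizer G a) := by
  haveI := h.two
  haveI : IsPretransitive G Ω := isPretransitive_of_is_two_pretransitive
  rw [← (stabilizer G a).index_mul_card, index_stabilizer_of_transitive, Nat.card_eq_fintype_card]

theorem Deg.dvd_card_stab (h : Deg G Ω) (a : Ω) : Fintype.card Ω - 1 ∣ Nat.card ↥(stabilizer G a) := by
  obtain ⟨b, hab⟩ := h.exists_ne a
  have h1 := h.card_eq hab
  rw [h.card_stab a, mul_assoc] at h1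
  exact Dvd.intro _ (Nat.eq_of_mul_eq_mul_left (by have := h.gt; omega) h1).symm

namespace Frame

variable {a b : Ω} {T : Subgroup G} {S : Sylow 2 G}

theorem le_stab (F : Frame a b T S) : T ≤ stabilizer G a := F.syl.1.trans inf_le_left

/-- `T` is a Sylow 2-subgroup of the stabiliser of a point. -/
theorem sylow_stab (F : Frame a b T S) (h : Deg G Ω) : IsSylowIn 2 T (stabilizer G a) := by
  haveI : Fact (Nat.Prime 2) := ⟨Nat.prime_two⟩
  refine ⟨F.le_stab, S.isPGroup'.to_le F.le, ?_⟩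
  rintro ⟨k, hk⟩
  obtain ⟨m, hm⟩ : ∃ m, Fintype.card Ω = 2 * m := ⟨Fintype.card Ω / 2, by have := h.mod; omega⟩
  have h1 := h.card_stab a
  rw [← Grp.card_mul_relIndex F.le_stab, hk, hm] at h1
  have h2 := (S : Subgroup G).card_mul_index
  rw [h.card_sylow F.ne F.syl S, h1] at h2
  exact S.not_dvd_index ⟨m * k, Nat.eq_of_mul_eq_mul_left (Nat.mul_pos two_pos (Nat.card_pos (α := ↥T))) (h2.trans (by ring))⟩

theorem inf_stab (F : Frame a b T S) (h : Deg G Ω) : (S : Subgroup G) ⊓ stabilizer G a = T := by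
  haveI : Fact (Nat.Prime 2) := ⟨Nat.prime_two⟩
  refine le_antisymm ?_ (le_inf F.le F.le_stab)
  have hS := F.sylow_stab h
  have h1 : T.relIndex ((S : Subgroup G) ⊓ stabilizer G a) ∣ T.relIndex (stabilizer G a) :=
    Dvd.intro _ (relIndex_mul_relIndex _ _ _ (le_inf F.le F.le_stab) inf_le_right)
  obtain ⟨k, hk⟩ := IsPGroup.iff_card.1 (S.isPGroup'.to_le (inf_le_left : _ ⊓ stabilizer G a ≤ _))
  have h2 : T.relIndex ((S : Subgroup G) ⊓ stabilizer G a) ∣ 2 ^ k := hk ▸ relIndex_dvd_card _ _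
  obtain ⟨j, -, hj⟩ := (Nat.dvd_prime_pow Nat.prime_two).1 h2
  rcases j with _ | j
  · exact relIndex_eq_one.1 (by simpa using hj)
  · exact absurd ((show 2 ∣ _ from hj ▸ dvd_pow_self 2 (Nat.succ_ne_zero j)).trans h1) hS.2.2

end Frame

/-- An elementary abelian Sylow 2-subgroup centralising each of its involutions alone is impossible. -/
theorem no_semiregular (h : Deg G Ω) {a b : Ω} {T : Subgroup G} {S : Sylow 2 G} (F : Frame a b T S)
    (h4 : 4 ≤ Nat.card ↥T) (hE : ∀ x ∈ (S : Subgroup G), x * x = 1)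
    (hC : ∀ t ∈ (S : Subgroup G), t ≠ 1 → centralizer ({t} : Set G) = (S : Subgroup G)) : False := by
  classical
  haveI : Fact (Nat.Prime 2) := ⟨Nat.prime_two⟩
  have hScm : ∀ x ∈ (S : Subgroup G), ∀ y ∈ (S : Subgroup G), x * y = y * x := fun x hx y hy => by
    rw [← inv_eq_of_mul_eq_one_right (hE _ (mul_mem hx hy)), mul_inv_rev,
      inv_eq_of_mul_eq_one_right (hE x hx), inv_eq_of_mul_eq_one_right (hE y hy)]
  set H := stabilizer G a with hH
  haveI : Nontrivial ↥T := Finite.one_lt_card_iff_nontrivial.1 (by omega)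
  obtain ⟨t₀, ht₀⟩ := exists_ne (1 : ↥T)
  have ht₀' : (t₀ : G) ≠ 1 := fun e => ht₀ (Subtype.ext e)
  -- the normaliser of `T` normalises `S`
  have hNS : ∀ g ∈ normalizer (T : Set G), ∀ x ∈ (S : Subgroup G), g * x * g⁻¹ ∈ (S : Subgroup G) := by
    intro g hg x hx
    rw [← hC t₀ (F.le t₀.2) ht₀']
    refine mem_centralizer_singleton_iff.2 ?_
    have h1 : g⁻¹ * (t₀ : G) * g ∈ T := by simpa using (mem_normalizer_iff.1 (inv_mem hg) _).1 t₀.2
    have e : x * (g⁻¹ * (t₀ : G) * g) = g⁻¹ * (t₀ : G) * g * x := hScm x hx _ (F.le h1)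
    calc g * x * g⁻¹ * (t₀ : G) = g * (x * (g⁻¹ * (t₀ : G) * g)) * g⁻¹ := by group
      _ = (t₀ : G) * (g * x * g⁻¹) := by rw [e]; group
  -- elements of odd prime power order in the normaliser inside `H` are trivial
  have hodd : ∀ g ∈ normalizer (T : Set G), g ∈ H → ∀ r : ℕ, r.Prime → r ≠ 2 → orderOf g ≠ r := by
    intro g hg hgH r hr hr2 hord
    haveI : Fact r.Prime := ⟨hr⟩
    let P : Set G := ((S : Subgroup G) : Set G) \ (T : Set G)
    have hP : ∀ q ∈ zpowers g, ∀ x ∈ P, q * x * q⁻¹ ∈ P := by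
      intro q hq x hx
      have hqN : q ∈ normalizer (T : Set G) := zpowers_le.2 hg hq
      exact ⟨hNS q hqN x hx.1, fun hm => hx.2 ((mem_normalizer_iff.1 hqN x).2 hm)⟩
    letI : MulAction ↥(zpowers g) ↥P :=
      { smul := fun q x => ⟨(q : G) * x * (q : G)⁻¹, hP q q.2 x x.2⟩
        one_smul := fun x => Subtype.ext (by show (1 : G) * x * (1 : G)⁻¹ = x; group)
        mul_smul := fun q q' x => Subtype.ext (by
          show ((q : G) * q') * x * ((q : G) * q')⁻¹ = (q : G) * ((q' : G) * x * (q' : G)⁻¹) * (q : G)⁻¹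
          group) }
    have hp : IsPGroup r ↥(zpowers g) := IsPGroup.of_card (n := 1) (by rw [Nat.card_zpowers, hord, pow_one])
    have hcard : Nat.card ↥P = Nat.card ↥T := by
      rw [Nat.card_coe_set_eq, Set.ncard_sdiff F.le (Set.toFinite _), ← Nat.card_coe_set_eq, ← Nat.card_coe_set_eq]
      show Nat.card ↥(S : Subgroup G) - Nat.card ↥T = _
      rw [h.card_sylow F.ne F.syl S]; omega
    have hnd : ¬ r ∣ Nat.card ↥P := by
      rw [hcard]
      obtain ⟨k, hk⟩ := IsPGroup.iff_card.1 (S.isPGroup'.to_le F.le)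
      rw [hk]
      exact fun hd => hr2 ((Nat.prime_dvd_prime_iff_eq hr Nat.prime_two).1 (hr.dvd_of_dvd_pow hd))
    obtain ⟨x, hx⟩ := hp.nonempty_fixed_point_of_prime_not_dvd_card ↥P hnd
    have hxg : g * (x : G) * g⁻¹ = x := congrArg Subtype.val (hx ⟨g, mem_zpowers g⟩)
    have hgC : g ∈ centralizer ({(x : G)} : Set G) := mem_centralizer_singleton_iff.2 (by
      rw [mul_inv_eq_iff_eq_mul] at hxg; exact hxg)
    rw [hC x x.2.1 fun e => x.2.2 (e ▸ one_mem T)] at hgC
    have h2 := hE g hgC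
    rw [← pow_two] at h2
    have h3 := orderOf_dvd_of_pow_eq_one h2
    rw [hord] at h3
    exact hr2 ((Nat.prime_dvd_prime_iff_eq hr Nat.prime_two).1 h3)
  -- so it is `T`
  set P₀ : Subgroup ↥H := T.subgroupOf H
  have hP₀ : IsPGroup 2 ↥P₀ := (S.isPGroup'.to_le F.le).comap_subtype
  let P : Sylow 2 ↥H := hP₀.toSylow (F.sylow_stab h).2.2
  have hPc : (P : Subgroup ↥H) = P₀ := IsPGroup.toSylow_coe _ _
  have hle : normalizer ((P : Subgroup ↥H) : Set ↥H) ≤ centralizer ((P : Subgroup ↥H) : Set ↥H) := by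
    intro g hg
    rw [hPc] at hg ⊢
    have hgN : (g : G) ∈ normalizer (T : Set G) := mem_normalizer_iff.2 fun x => by
      constructor
      · intro hx
        exact (mem_normalizer_iff.1 hg ⟨x, F.le_stab hx⟩).1 hx
      · intro hx
        have hxH : x ∈ H := by
          have := mul_mem (mul_mem (inv_mem g.2) (F.le_stab hx)) g.2
          rwa [show (g : G)⁻¹ * ((g : G) * x * (g : G)⁻¹) * g = x by group] at this
        exact (mem_normalizer_iff.1 hg ⟨x, hxH⟩).2 hx
    have hp : IsPGroup 2 ↥(normalizer (T : Set G) ⊓ H : Subgroup G) := by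
      refine IsPGroup.iff_card.2 ⟨_, Nat.eq_prime_pow_of_unique_prime_dvd Nat.card_pos.ne' fun {r} hr hd => ?_⟩
      by_contra hr2
      haveI : Fact r.Prime := ⟨hr⟩
      obtain ⟨y, hy⟩ := exists_prime_orderOf_dvd_card' r hd
      rw [← orderOf_coe] at hy
      exact hodd y y.2.1 y.2.2 r hr hr2 hy
    have hTle : T ≤ normalizer (T : Set G) ⊓ H := le_inf le_normalizer F.le_stab
    have heq : normalizer (T : Set G) ⊓ H = T := by
      refine le_antisymm ?_ hTle
      have hd : T.relIndex (normalizer (T : Set G) ⊓ H) ∣ T.relIndex H :=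
        Dvd.intro _ (relIndex_mul_relIndex _ _ _ hTle inf_le_right)
      obtain ⟨k, hk⟩ := IsPGroup.iff_card.1 hp
      have h2 : T.relIndex (normalizer (T : Set G) ⊓ H) ∣ 2 ^ k := hk ▸ relIndex_dvd_card _ _
      obtain ⟨j, -, hj⟩ := (Nat.dvd_prime_pow Nat.prime_two).1 h2
      rcases j with _ | j
      · exact relIndex_eq_one.1 (by simpa using hj)
      · exact absurd ((show 2 ∣ _ from hj ▸ dvd_pow_self 2 (Nat.succ_ne_zero j)).trans hd) (F.sylow_stab h).2.2
    have hgT : (g : G) ∈ T := heq ▸ (⟨hgN, g.2⟩ : (g : G) ∈ normalizer (T : Set G) ⊓ H)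
    exact mem_centralizer_iff.2 fun x hx => Subtype.ext (hScm _ (F.le hx) _ (F.le hgT))
  obtain ⟨K, hKn, hcompl, hKodd'⟩ : ∃ K : Subgroup ↥H, K.Normal ∧ K.IsComplement' (P : Subgroup ↥H) ∧
      ¬ 2 ∣ Nat.card ↥K :=
    ⟨(MonoidHom.transferSylow P hle).ker, inferInstance, MonoidHom.ker_transferSylow_isComplement' P hle,
      MonoidHom.not_dvd_card_ker_transferSylow P hle⟩
  set K₁ := K.map H.subtype
  have hKodd : ¬ 2 ∣ Nat.card ↥K₁ := by
    rw [card_map_of_injective H.subtype_injective]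
    exact hKodd'
  have hTn : T ≤ normalizer (K₁ : Set G) := by
    intro t ht
    refine mem_normalizer_iff.2 fun x => ⟨?_, ?_⟩
    · rintro ⟨k, hk, rfl⟩
      exact ⟨⟨t, F.le_stab ht⟩ * k * ⟨t, F.le_stab ht⟩⁻¹, hKn.conj_mem k hk _, rfl⟩
    · rintro ⟨k, hk, e⟩
      refine ⟨⟨t, F.le_stab ht⟩⁻¹ * k * ⟨t, F.le_stab ht⟩⁻¹⁻¹, hKn.conj_mem k hk _, ?_⟩
      have e' : (k : G) = t * x * t⁻¹ := e
      show t⁻¹ * (k : G) * t⁻¹⁻¹ = x
      rw [e']; group
  have hTc : IsMulCommutative ↥T := ⟨⟨fun x y => Subtype.ext (hScm x (F.le x.2) y (F.le y.2))⟩⟩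
  have hcyc : ¬ IsCyclic ↥T := by
    intro hc
    obtain ⟨g, hg⟩ := hc.exists_generator
    have h1 : orderOf g = Nat.card ↥T := orderOf_eq_card_of_forall_mem_zpowers hg
    have h2 : g ^ 2 = 1 := Subtype.ext (by rw [SubgroupClass.coe_pow, pow_two]; exact hE g (F.le g.2))
    have h3 := Nat.le_of_dvd two_pos (orderOf_dvd_of_pow_eq_one h2)
    omega
  have hgen := Cfsg.Agent.Grp.generated_by_centralizers T K₁ hcyc hTn (by
    obtain ⟨k, hk⟩ := IsPGroup.iff_card.1 (S.isPGroup'.to_le F.le)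
    rw [hk]
    exact Nat.Coprime.pow_left k ((Nat.prime_two.coprime_iff_not_dvd).2 hKodd))
  have hK1 : K₁ = ⊥ := by
    rw [← hgen, eq_bot_iff]
    refine iSup₂_le fun t ht => ?_
    intro x hx
    rw [hC t (F.le ht.1) ht.2] at hx
    rw [mem_bot]
    by_contra hx1
    have h2 : orderOf x = 2 := orderOf_eq_prime (by rw [pow_two, hE x hx.2]) hx1
    exact hKodd (h2 ▸ Subgroup.orderOf_dvd_natCard _ hx.1)
  have hKb : K = ⊥ := (map_eq_bot_iff_of_injective _ H.subtype_injective).1 hK1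
  rw [hKb] at hcompl
  have hPt : (P : Subgroup ↥H) = ⊤ := Subgroup.isComplement'_bot_left.1 hcompl
  obtain ⟨k, hk⟩ := IsPGroup.iff_card.1 (hPt ▸ P.isPGroup' : IsPGroup 2 ↥(⊤ : Subgroup ↥H))
  rw [card_top] at hk
  have hd := hk ▸ h.dvd_card_stab a
  obtain ⟨j, -, hj⟩ := (Nat.dvd_prime_pow Nat.prime_two).1 hd
  have := h.gt
  have := h.mod
  rcases j with _ | j
  · simp at hj; omega
  · rw [pow_succ] at hj; omega

end Cfsg.Agent.Fus.TwoModFour
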