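import Cfsg.Agent.Lib.Invol.AbelTwo.PslFacts
import Cfsg.Agent.Lib.Invol.JankoWard.Defs

/-!
# Normalisers of hyperplanes of an elementary abelian Sylow 2-subgroup of order eight

With involution centralisers `⟨u⟩ × L₂(q)` every subgroup of order four of the Sylow subgroup is normalised by an
element of odd order not centralising it.
-/

set_option autoImplicit false
set_option linter.unusedSectionVars false
set_option linter.style.haveILetI false

namespace Cfsg.Agent.Fus.TwoModFour

open Subgroup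
open scoped Pointwise

universe u

variable {G : Type u} [Group G] [Finite G]

/-- An element normalising an abelian Sylow 2-subgroup whose square centralises it centralises it. -/
theorem cent_of_sq (S : Sylow 2 G) (hcm : ∀ x ∈ (S : Subgroup G), ∀ y ∈ (S : Subgroup G), x * y = y * x) {n : G}
    (hn : n ∈ normalizer ((S : Subgroup G) : Set G)) (h2 : n * n ∈ centralizer ((S : Subgroup G) : Set G)) :
    n ∈ centralizer ((S : Subgroup G) : Set G) := by
  haveI : Fact (Nat.Prime 2) := ⟨Nat.prime_two⟩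
  obtain ⟨j, l, hl, hord⟩ := Nat.exists_eq_two_pow_mul_odd (orderOf_pos n).ne'
  obtain ⟨i, rfl⟩ := hl
  set y := n ^ (2 * i + 1) with hy
  have hp : IsPGroup 2 ↥(zpowers y) := by
    have hd : orderOf y ∣ 2 ^ j := orderOf_dvd_of_pow_eq_one (by
      rw [hy, ← pow_mul, mul_comm, ← hord, pow_orderOf_eq_one])
    obtain ⟨k, -, hk⟩ := (Nat.dvd_prime_pow Nat.prime_two).1 hd
    exact IsPGroup.of_card (n := k) (by rw [Nat.card_zpowers, hk])
  have hle : zpowers y ≤ normalizer ((S : Subgroup G) : Set G) := zpowers_le.2 (pow_mem hn _)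
  have hyS : y ∈ (S : Subgroup G) :=
    S.3 (IsPGroup.to_sup_of_normal_left' S.isPGroup' hp hle) le_sup_left ▸ mem_sup_right (mem_zpowers _)
  have hyC : y ∈ centralizer ((S : Subgroup G) : Set G) := mem_centralizer_iff.2 fun x hx => hcm x hx y hyS
  have e : n = y * ((n * n) ^ i)⁻¹ := by
    rw [hy, pow_succ', ← pow_two, ← pow_mul, mul_inv_cancel_right]
  rw [e]
  exact mul_mem hyC (inv_mem (pow_mem h2 i))

/-- The odd part of a non-centralising element. -/
theorem exists_odd_part (S : Sylow 2 G) (hcm : ∀ x ∈ (S : Subgroup G), ∀ y ∈ (S : Subgroup G), x * y = y * x)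
    {T : Subgroup G} (hT : T ≤ (S : Subgroup G)) {k : G} (hk : k ∈ normalizer ((S : Subgroup G) : Set G))
    (hkT : k ∈ normalizer (T : Set G)) (hkc : k ∉ centralizer (T : Set G)) :
    ∃ g ∈ normalizer (T : Set G), Odd (orderOf g) ∧ g ∉ centralizer (T : Set G) := by
  haveI : Fact (Nat.Prime 2) := ⟨Nat.prime_two⟩
  obtain ⟨j, l, hl, hord⟩ := Nat.exists_eq_two_pow_mul_odd (orderOf_pos k).ne'
  refine ⟨k ^ 2 ^ j, pow_mem hkT _, ?_, fun hc => hkc ?_⟩
  · rw [orderOf_pow' k (pow_ne_zero _ two_ne_zero), hord, Nat.gcd_mul_right_left,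
      Nat.mul_div_cancel_left _ (by positivity)]
    exact hl
  have hp : IsPGroup 2 ↥(zpowers (k ^ l)) := by
    have hd : orderOf (k ^ l) ∣ 2 ^ j := orderOf_dvd_of_pow_eq_one (by
      rw [← pow_mul, mul_comm, ← hord, pow_orderOf_eq_one])
    obtain ⟨i, -, hi⟩ := (Nat.dvd_prime_pow Nat.prime_two).1 hd
    exact IsPGroup.of_card (n := i) (by rw [Nat.card_zpowers, hi])
  have hle : zpowers (k ^ l) ≤ normalizer ((S : Subgroup G) : Set G) := zpowers_le.2 (pow_mem hk _)
  have hlS : k ^ l ∈ (S : Subgroup G) :=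
    S.3 (IsPGroup.to_sup_of_normal_left' S.isPGroup' hp hle) le_sup_left ▸ mem_sup_right (mem_zpowers _)
  have hlC : k ^ l ∈ centralizer (T : Set G) := mem_centralizer_iff.2 fun x hx => hcm x (hT hx) _ hlS
  have hcop : Nat.Coprime (2 ^ j) l := Nat.Coprime.pow_left j ((Nat.prime_two.coprime_iff_not_dvd).2
    fun h => Nat.not_even_iff_odd.2 hl (even_iff_two_dvd.2 h))
  have hb : k = (k ^ 2 ^ j) ^ Nat.gcdA (2 ^ j) l * (k ^ l) ^ Nat.gcdB (2 ^ j) l := by
    rw [← zpow_natCast k (2 ^ j), ← zpow_natCast k l, ← zpow_mul, ← zpow_mul, ← zpow_add,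
      ← Nat.gcd_eq_gcd_ab, hcop, Nat.cast_one, zpow_one]
  rw [hb]
  exact mul_mem (zpow_mem hc _) (zpow_mem hlC _)

/-- In `⟨u⟩ × L` an element of the Sylow subgroup moves all of it outside `⟨u⟩`. -/
theorem exists_rotation (S : Sylow 2 G) (h8 : Nat.card ↥(S : Subgroup G) = 8)
    (hE : ∀ x ∈ (S : Subgroup G), x * x = 1) {u : G} (hu : orderOf u = 2) (huS : u ∈ (S : Subgroup G))
    (hc : Invol.JankoWard.Conclusion u) :
    ∃ g ∈ normalizer ((S : Subgroup G) : Set G), g * u * g⁻¹ = u ∧
      ∀ s ∈ (S : Subgroup G), s ≠ 1 → g * s * g⁻¹ = s → s = u := by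
  haveI : Fact (Nat.Prime 2) := ⟨Nat.prime_two⟩
  have hcm : ∀ x ∈ (S : Subgroup G), ∀ y ∈ (S : Subgroup G), x * y = y * x := fun x hx y hy => by
    rw [← inv_eq_of_mul_eq_one_right (hE _ (mul_mem hx hy)), mul_inv_rev,
      inv_eq_of_mul_eq_one_right (hE x hx), inv_eq_of_mul_eq_one_right (hE y hy)]
  obtain ⟨-, L, ⟨hzC, hLC, hcomm, hinf, hsup⟩, F, i, j, ⟨e⟩, hq⟩ := hc
  have hodd : Odd (Fintype.card F) := by
    rcases hq with h5 | ⟨m, -, hF, -⟩
    · rw [h5]; decide
    · rw [hF]; exact (by decide : Odd 3).pow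
  have hu1 : u ≠ 1 := fun h => by rw [h, orderOf_one] at hu; omega
  have hdec : ∀ s ∈ (S : Subgroup G), ∃ l ∈ L ⊓ (S : Subgroup G), s = l ∨ s = u * l := by
    intro s hs
    have hsC : s ∈ zpowers u ⊔ L := hsup.symm ▸ mem_centralizer_singleton_iff.2 (hcm s hs u huS)
    have hn : zpowers u ≤ normalizer (L : Set G) := fun z hz => mem_normalizer_iff.2 fun x => by
      constructor
      · intro hx; rw [hcomm z hz x hx, mul_inv_cancel_right]; exact hx
      · intro hx
        have h1 := hcomm _ (inv_mem hz) _ hx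
        rw [show z⁻¹ * (z * x * z⁻¹) = x * z⁻¹ by group] at h1
        rwa [mul_right_cancel h1]
    obtain ⟨z, hz, l, hl, rfl⟩ : s ∈ (zpowers u : Set G) * (L : Set G) := by
      rwa [← Subgroup.coe_mul_of_left_le_normalizer_right _ _ hn]
    obtain ⟨k, rfl⟩ := mem_zpowers_iff.1 hz
    dsimp only at hs ⊢
    refine ⟨l, ⟨hl, ?_⟩, ?_⟩
    · show l ∈ (S : Subgroup G)
      simpa using mul_mem (inv_mem (zpow_mem huS k)) hs
    · rcases Int.even_or_odd k with ⟨k, rfl⟩ | ⟨k, rfl⟩
      · exact Or.inl (by rw [← two_mul, zpow_mul, zpow_two, hE u huS, one_zpow, one_mul])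
      · exact Or.inr (by rw [zpow_add_one, zpow_mul, zpow_two, hE u huS, one_zpow, one_mul])
  have huL : u ∉ L := fun h => hu1 (by
    have : u ∈ zpowers u ⊓ L := ⟨mem_zpowers u, h⟩
    rwa [hinf, mem_bot] at this)
  set V := L ⊓ (S : Subgroup G) with hV
  have hVrel : V.relIndex (S : Subgroup G) = 2 := by
    refine index_eq_two_iff.2 ⟨⟨u, huS⟩, fun s => ?_⟩
    obtain ⟨l, hl, h1 | h1⟩ := hdec s s.2
    · refine Or.inr ⟨show (s : G) ∈ V from h1 ▸ hl, fun hm => huL ?_⟩
      have h2 : l * u ∈ V := h1 ▸ (hm : (s : G) * u ∈ V)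
      exact ((mul_mem_cancel_left hl).1 h2).1
    · refine Or.inl ⟨show (s : G) * u ∈ V by rw [h1, hcm u huS l hl.2, mul_assoc, hE u huS, mul_one]; exact hl,
        fun hm => huL ?_⟩
      have h2 : u * l ∈ V := h1 ▸ (hm : (s : G) ∈ V)
      exact ((mul_mem_cancel_right hl).1 h2).1
  have hVle : V ≤ (S : Subgroup G) := inf_le_right
  have hV4 : Nat.card ↥V = 4 := by
    have h1 := Grp.card_mul_relIndex hVle
    rw [hVrel, h8] at h1
    omega
  set V₀ : Subgroup (Matrix.ProjectiveSpecialLinearGroup (Fin 2) F) :=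
    (V.subgroupOf L).map e.toMonoidHom with hV₀
  have hV04 : Nat.card ↥V₀ = 4 := by
    rw [hV₀, card_map_of_injective (f := e.toMonoidHom) e.injective,
      Nat.card_congr (subgroupOfEquivOfLe (inf_le_left : V ≤ L)).toEquiv, hV4]
  have hV0sq : ∀ x ∈ V₀, x * x = 1 := by
    rintro _ ⟨x, hx, rfl⟩
    rw [← map_mul, show x * x = 1 from Subtype.ext (hE x hx.2), map_one]
  haveI hK : IsKleinFour V₀ := by
    refine ⟨hV04, ?_⟩
    have hd : Monoid.exponent ↥V₀ ∣ 2 := Monoid.exponent_dvd_of_forall_pow_eq_one fun x =>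
      Subtype.ext (by rw [SubgroupClass.coe_pow, pow_two]; exact hV0sq x x.2)
    rcases (Nat.dvd_prime Nat.prime_two).1 hd with h | h
    · exfalso
      haveI := Monoid.exp_eq_one_iff.1 h
      rw [Nat.card_unique] at hV04
      omega
    · exact h
  haveI : Nontrivial ↥V₀ := Finite.one_lt_card_iff_nontrivial.1 (by omega)
  obtain ⟨a, ha⟩ := exists_ne (1 : ↥V₀)
  obtain ⟨b, hb, hba⟩ : ∃ b : ↥V₀, b ≠ 1 ∧ b ≠ a := by
    by_contra hno
    push Not at hno
    have hsub : (Set.univ : Set ↥V₀) ⊆ {1, a} := fun b _ => by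
      by_cases h : b = 1
      · exact Or.inl h
      · exact Or.inr (hno b h)
    have h1 := Set.ncard_le_ncard hsub (Set.toFinite _)
    have h2 : ({1, a} : Set ↥V₀).ncard ≤ 2 := (Set.ncard_insert_le _ _).trans (by simp)
    rw [Set.ncard_univ, hV04] at h1
    omega
  obtain ⟨n₀, hn₀, hnab⟩ := Invol.AbelTwo.psl_transitive hodd hK a.2 b.2
    (fun h => ha (Subtype.ext h)) (fun h => hb (Subtype.ext h))
  set n : G := ((e.symm n₀ : ↥L) : G) with hn
  have hnL : n ∈ L := (e.symm n₀).2
  have hnu : n * u * n⁻¹ = u := by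
    rw [← hcomm u (mem_zpowers u) n hnL, mul_inv_cancel_right]
  have hnV : ∀ x ∈ V, n * x * n⁻¹ ∈ V := by
    intro x hx
    have h1 := (mem_normalizer_iff.1 hn₀ (e ⟨x, hx.1⟩)).1 ⟨⟨x, hx.1⟩, hx, rfl⟩
    obtain ⟨y, hy, hye⟩ := h1
    have : y = e.symm n₀ * ⟨x, hx.1⟩ * (e.symm n₀)⁻¹ := by
      apply e.injective
      rw [map_mul, map_mul, map_inv, e.apply_symm_apply]
      exact hye
    have hyG : (y : G) = n * x * n⁻¹ := by rw [this]; rfl
    rw [← hyG]; exact hy
  have hnS : n ∈ normalizer ((S : Subgroup G) : Set G) := by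
    have hmem : ∀ s ∈ (S : Subgroup G), n * s * n⁻¹ ∈ (S : Subgroup G) := by
      intro s hs
      obtain ⟨l, hl, rfl | rfl⟩ := hdec s hs
      · exact hVle (hnV _ hl)
      · rw [show n * (u * l) * n⁻¹ = (n * u * n⁻¹) * (n * l * n⁻¹) by group, hnu]
        exact mul_mem huS (hVle (hnV _ hl))
    exact mem_normalizer_fintype hmem
  have hmove : ∀ l ∈ V, n * l * n⁻¹ = l → l = 1 := by
    intro l hl hfix
    by_contra hl1
    -- the square of `n` then centralises the Sylow subgroup
    have hsq : ∀ x ∈ V, n * n * x * (n * n)⁻¹ = x := by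
      intro x hx
      by_cases hx1 : x = 1
      · rw [hx1]; group
      by_cases hxl : x = l
      · rw [hxl, show n * n * l * (n * n)⁻¹ = n * (n * l * n⁻¹) * n⁻¹ by group, hfix, hfix]
      have hfour : ∀ y ∈ V, y = 1 ∨ y = l ∨ y = x ∨ y = l * x := by
        intro y hy
        by_contra hno
        push Not at hno
        obtain ⟨y1, yl, yx, ylx⟩ := hno
        have hsub : ({1, l, x, l * x, y} : Set G) ⊆ (V : Set G) := by
          rintro _ (rfl | rfl | rfl | rfl | rfl)
          exacts [one_mem V, hl, hx, mul_mem hl hx, hy]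
        have hlx1 : l * x ≠ 1 := fun h => hxl (by
          rw [← inv_eq_of_mul_eq_one_right h]; exact inv_eq_of_mul_eq_one_right (hE l (hVle hl)))
        have hc := Set.ncard_le_ncard hsub (Set.toFinite _)
        rw [Set.ncard_insert_of_notMem (by simp [Ne.symm hl1, Ne.symm hx1, Ne.symm hlx1, Ne.symm y1]) (Set.toFinite _),
          Set.ncard_insert_of_notMem (by simp [Ne.symm hxl, hx1, Ne.symm yl]) (Set.toFinite _),
          Set.ncard_insert_of_notMem (by simp [hl1, Ne.symm yx]) (Set.toFinite _),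
          Set.ncard_insert_of_notMem (by simp [Ne.symm ylx]) (Set.toFinite _), Set.ncard_singleton,
          ← Nat.card_coe_set_eq] at hc
        change 5 ≤ Nat.card ↥V at hc
        omega
      rcases hfour _ (hnV x hx) with h | h | h | h
      · exact absurd (conj_eq_one_iff.1 h) hx1
      · exact absurd ((MulAut.conj n).injective (h.trans hfix.symm)) hxl
      · rw [show n * n * x * (n * n)⁻¹ = n * (n * x * n⁻¹) * n⁻¹ by group, h, h]
      · rw [show n * n * x * (n * n)⁻¹ = n * (n * x * n⁻¹) * n⁻¹ by group, h,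
          show n * (l * x) * n⁻¹ = (n * l * n⁻¹) * (n * x * n⁻¹) by group, hfix, h, ← mul_assoc,
          hE l (hVle hl), one_mul]
    have hnn : n * n ∈ centralizer ((S : Subgroup G) : Set G) := by
      refine mem_centralizer_iff.2 fun s hs => (mul_inv_eq_iff_eq_mul.1 ?_).symm
      obtain ⟨l', hl', rfl | rfl⟩ := hdec s hs
      · exact hsq _ hl'
      · rw [show n * n * (u * l') * (n * n)⁻¹ = (n * (n * u * n⁻¹) * n⁻¹) * (n * n * l' * (n * n)⁻¹) by group,
          hnu, hnu, hsq _ hl']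
    have hC := mem_centralizer_iff.1 (cent_of_sq S hcm hnS hnn)
    obtain ⟨x, hx, hxa⟩ := a.2
    have h1 : n₀ * a * n₀⁻¹ = (a : Matrix.ProjectiveSpecialLinearGroup (Fin 2) F) := by
      rw [← hxa]
      show n₀ * e x * n₀⁻¹ = e x
      rw [← e.apply_symm_apply n₀, ← map_inv, ← map_mul, ← map_mul]
      refine congrArg e (Subtype.ext ?_)
      show n * (x : G) * n⁻¹ = x
      rw [← hC x (hVle hx), mul_inv_cancel_right]
    exact hba (Subtype.ext (hnab.symm.trans h1))
  refine ⟨n, hnS, hnu, fun s hs hs1 hfix => ?_⟩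
  obtain ⟨l, hl, rfl | rfl⟩ := hdec s hs
  · exact absurd (hmove _ hl hfix) hs1
  · rw [show n * (u * l) * n⁻¹ = (n * u * n⁻¹) * (n * l * n⁻¹) by group, hnu] at hfix
    rw [hmove l hl (mul_left_cancel hfix), mul_one]

/-- Each subgroup of order four is normalised by an element of odd order not centralising it. -/
theorem exists_odd_normalizing (S : Sylow 2 G) (h8 : Nat.card ↥(S : Subgroup G) = 8)
    (hE : ∀ x ∈ (S : Subgroup G), x * x = 1) (hc : ∀ t : G, orderOf t = 2 → Invol.JankoWard.Conclusion t)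
    {T : Subgroup G} (hT : T ≤ (S : Subgroup G)) (h4 : Nat.card ↥T = 4) :
    ∃ g ∈ normalizer (T : Set G), Odd (orderOf g) ∧ g ∉ centralizer (T : Set G) := by
  classical
  haveI : Fact (Nat.Prime 2) := ⟨Nat.prime_two⟩
  have hcm : ∀ x ∈ (S : Subgroup G), ∀ y ∈ (S : Subgroup G), x * y = y * x := fun x hx y hy => by
    rw [← inv_eq_of_mul_eq_one_right (hE _ (mul_mem hx hy)), mul_inv_rev,
      inv_eq_of_mul_eq_one_right (hE x hx), inv_eq_of_mul_eq_one_right (hE y hy)]
  -- a rotation about each involution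
  have hrot : ∀ s : ↥(S : Subgroup G), ∃ g ∈ normalizer ((S : Subgroup G) : Set G), g * s * g⁻¹ = (s : G) ∧
      ((s : G) = 1 → g = 1) ∧
      ((s : G) ≠ 1 → ∀ v ∈ (S : Subgroup G), v ≠ 1 → g * v * g⁻¹ = v → v = s) := by
    intro s
    by_cases hs : (s : G) = 1
    · exact ⟨1, one_mem _, by simp, fun _ => rfl, fun h => absurd hs h⟩
    have hs2 : orderOf (s : G) = 2 := orderOf_eq_prime (by rw [pow_two, hE s s.2]) hs
    obtain ⟨g, hg, hgs, hfix⟩ := exists_rotation S h8 hE hs2 s.2 (hc _ hs2)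
    exact ⟨g, hg, hgs, fun h => absurd h hs, fun _ => hfix⟩
  choose r hrN hrs hr1 hrfix using hrot
  -- three generators
  have hbig : ∀ (P : Subgroup G) (F : Finset G), F.card < Nat.card ↥P → ∃ x ∈ P, x ∉ F := by
    intro P F hlt
    by_contra hno
    push Not at hno
    have hc' : Nat.card ↥P ≤ F.card := by
      rw [← Nat.card_eq_finsetCard]
      exact Nat.card_le_card_of_injective (fun x : ↥P => (⟨(x : G), hno x x.2⟩ : ↥F))
        (fun p q h => Subtype.ext (by simpa using h))
    omega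
  obtain ⟨a, ha, ha'⟩ := hbig T {1} (by simp; omega)
  have ha1 : a ≠ 1 := by simpa using ha'
  obtain ⟨b, hb, hb'⟩ := hbig T {1, a} (by
    have := Finset.card_le_two (a := (1 : G)) (b := a)
    omega)
  obtain ⟨hb1, hba⟩ : b ≠ 1 ∧ b ≠ a := by simpa using hb'
  obtain ⟨c, hc', hcT⟩ : ∃ c ∈ (S : Subgroup G), c ∉ T := SetLike.not_le_iff_exists.1 fun hle => by
    have := card_le_of_le hle
    omega
  have hgen : ∀ P Q : Subgroup G, P ≤ (S : Subgroup G) → Q ≤ (S : Subgroup G) → P.relIndex (S : Subgroup G) = 2 →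
      Q.relIndex (S : Subgroup G) = 2 → (a ∈ P ↔ a ∈ Q) → (b ∈ P ↔ b ∈ Q) → (c ∈ P ↔ c ∈ Q) → P = Q := by
    intro P Q hP hQ hPi hQi hPa hPb hPc
    have hfourT : ∀ x ∈ T, x = 1 ∨ x = a ∨ x = b ∨ x = a * b := by
      intro y hy
      by_contra hno
      push Not at hno
      obtain ⟨y1, yl, yx, ylx⟩ := hno
      have hab1 : a * b ≠ 1 := fun h => hba (by
        rw [← inv_eq_of_mul_eq_one_right h]; exact inv_eq_of_mul_eq_one_right (hE a (hT ha)))
      have hsub : ({1, a, b, a * b, y} : Set G) ⊆ (T : Set G) := by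
        rintro _ (rfl | rfl | rfl | rfl | rfl)
        exacts [one_mem T, ha, hb, mul_mem ha hb, hy]
      have hcc := Set.ncard_le_ncard hsub (Set.toFinite _)
      rw [Set.ncard_insert_of_notMem (by simp [Ne.symm ha1, Ne.symm hb1, Ne.symm hab1, Ne.symm y1]) (Set.toFinite _),
        Set.ncard_insert_of_notMem (by simp [Ne.symm hba, hb1, Ne.symm yl]) (Set.toFinite _),
        Set.ncard_insert_of_notMem (by simp [ha1, Ne.symm yx]) (Set.toFinite _),
        Set.ncard_insert_of_notMem (by simp [Ne.symm ylx]) (Set.toFinite _), Set.ncard_singleton,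
        ← Nat.card_coe_set_eq] at hcc
      change 5 ≤ Nat.card ↥T at hcc
      omega
    have hTi : T.relIndex (S : Subgroup G) = 2 := by
      have h1 := Grp.card_mul_relIndex hT
      rw [h8, h4] at h1
      omega
    have hmul : ∀ (H : Subgroup G), H.relIndex (S : Subgroup G) = 2 → ∀ p ∈ (S : Subgroup G), ∀ q ∈ (S : Subgroup G),
        (p * q ∈ H ↔ (p ∈ H ↔ q ∈ H)) := fun H hH p hp q hq => by
      simpa [mem_subgroupOf] using
        Subgroup.mul_mem_iff_of_index_two (H := H.subgroupOf (S : Subgroup G)) hH (a := ⟨p, hp⟩) (b := ⟨q, hq⟩)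
    have hiffT : ∀ x ∈ T, x ∈ P ↔ x ∈ Q := by
      intro x hx
      rcases hfourT x hx with rfl | rfl | rfl | rfl
      · simp only [one_mem]
      · exact hPa
      · exact hPb
      · rw [hmul P hPi a (hT ha) b (hT hb), hmul Q hQi a (hT ha) b (hT hb), hPa, hPb]
    ext x
    by_cases hx : x ∈ (S : Subgroup G)
    · by_cases hxT : x ∈ T
      · exact hiffT x hxT
      · have hxc : x * c ∈ T := (hmul T hTi x hx c hc').2 (iff_of_false hxT hcT)
        have e : x * c * c = x := by rw [mul_assoc, hE c hc', mul_one]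
        rw [← e, hmul P hPi _ (mul_mem hx hc') c hc', hmul Q hQi _ (mul_mem hx hc') c hc', hiffT _ hxc, hPc]
    · exact iff_of_false (fun h => hx (hP h)) (fun h => hx (hQ h))
  -- the images of `T` under the rotations
  let img : ↥(S : Subgroup G) → Subgroup G := fun s => T.map (MulAut.conj (r s)).toMonoidHom
  have himg : ∀ s, img s ≤ (S : Subgroup G) ∧ (img s).relIndex (S : Subgroup G) = 2 := by
    intro s
    have hle : img s ≤ (S : Subgroup G) := by
      rintro _ ⟨x, hx, rfl⟩
      exact (mem_normalizer_iff.1 (hrN s) x).1 (hT hx)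
    refine ⟨hle, ?_⟩
    have h1 := Grp.card_mul_relIndex hle
    rw [card_map_of_injective (MulAut.conj (r s)).injective, h4, h8] at h1
    omega
  let code : ↥(S : Subgroup G) → {p : Bool × Bool × Bool // p ≠ (true, true, true)} := fun s =>
    ⟨(decide (a ∈ img s), decide (b ∈ img s), decide (c ∈ img s)), fun h => by
      simp only [Prod.mk.injEq, decide_eq_true_eq] at h
      have hS : img s = (S : Subgroup G) := by
        exfalso
        -- five elements of the image
        have hsub' : ({1, a, b, c, a * b} : Set G) ⊆ (img s : Set G) := by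
          rintro _ (rfl | rfl | rfl | rfl | rfl)
          exacts [one_mem _, h.1, h.2.1, h.2.2, mul_mem h.1 h.2.1]
        have hab1 : a * b ≠ 1 := fun h => hba (by
          rw [← inv_eq_of_mul_eq_one_right h]; exact inv_eq_of_mul_eq_one_right (hE a (hT ha)))
        have hc1 : c ≠ 1 := fun e => hcT (e ▸ one_mem T)
        have hca : c ≠ a := fun e => hcT (e ▸ ha)
        have hcb : c ≠ b := fun e => hcT (e ▸ hb)
        have hcab : c ≠ a * b := fun e => hcT (e ▸ mul_mem ha hb)
        have haab : a ≠ a * b := fun e => hb1 (left_eq_mul.1 e)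
        have hbab : b ≠ a * b := fun e => ha1 (right_eq_mul.1 e)
        have hcc := Set.ncard_le_ncard hsub' (Set.toFinite _)
        rw [Set.ncard_insert_of_notMem (by simp [Ne.symm ha1, Ne.symm hb1, Ne.symm hab1, Ne.symm hc1]) (Set.toFinite _),
          Set.ncard_insert_of_notMem (by simp [Ne.symm hba, Ne.symm hca, haab]) (Set.toFinite _),
          Set.ncard_insert_of_notMem (by simp [Ne.symm hcb, hbab]) (Set.toFinite _),
          Set.ncard_insert_of_notMem (by simp [hcab]) (Set.toFinite _), Set.ncard_singleton,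
          ← Nat.card_coe_set_eq] at hcc
        change 5 ≤ Nat.card ↥(img s) at hcc
        rw [card_map_of_injective (MulAut.conj (r s)).injective, h4] at hcc
        omega
      have := (himg s).2
      rw [hS, relIndex_self] at this
      omega⟩
  obtain ⟨s, s', hne, heq⟩ : ∃ s s', s ≠ s' ∧ code s = code s' := by
    by_contra hno
    push Not at hno
    have hinj : Function.Injective code := fun p q h => by_contra fun hpq => hno p q hpq h
    have h1 := Nat.card_le_card_of_injective code hinj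
    have h7 : Nat.card {p : Bool × Bool × Bool // p ≠ (true, true, true)} = 7 := by
      rw [Nat.card_eq_fintype_card]; decide
    omega
  have hTT : img s = img s' := by
    have h := congrArg Subtype.val heq
    simp only [code, Prod.mk.injEq, decide_eq_decide] at h
    exact hgen _ _ (himg s).1 (himg s').1 (himg s).2 (himg s').2 h.1 h.2.1 h.2.2
  set k := (r s')⁻¹ * r s with hk
  have hkS : k ∈ normalizer ((S : Subgroup G) : Set G) := mul_mem (inv_mem (hrN s')) (hrN s)
  have hkT : k ∈ normalizer (T : Set G) := by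
    refine mem_normalizer_fintype fun x hx => ?_
    have h1 : r s * x * (r s)⁻¹ ∈ img s' := hTT ▸ ⟨x, hx, rfl⟩
    obtain ⟨y, hy, hye⟩ := h1
    have e : k * x * k⁻¹ = y := by
      have hye' : r s' * y * (r s')⁻¹ = r s * x * (r s)⁻¹ := hye
      rw [hk, show (r s')⁻¹ * r s * x * ((r s')⁻¹ * r s)⁻¹ = (r s')⁻¹ * (r s * x * (r s)⁻¹) * r s' by group, ← hye']
      group
    rw [e]; exact hy
  have hknc : k ∉ centralizer ((S : Subgroup G) : Set G) := by
    intro hkc
    have hsame : ∀ v ∈ (S : Subgroup G), r s * v * (r s)⁻¹ = r s' * v * (r s')⁻¹ := by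
      intro v hv
      have h1 := mem_centralizer_iff.1 hkc v hv
      rw [show r s = r s' * k by rw [hk, mul_inv_cancel_left],
        show r s' * k * v * (r s' * k)⁻¹ = r s' * (k * v * k⁻¹) * (r s')⁻¹ by group, ← h1, mul_inv_cancel_right]
    have main : ∀ s s', s ≠ s' → (∀ v ∈ (S : Subgroup G), r s * v * (r s)⁻¹ = r s' * v * (r s')⁻¹) →
        (s : G) ≠ 1 → False := by
      intro s s' hne hsame hs
      by_cases hs' : (s' : G) = 1
      · -- then `r s` centralises the Sylow subgroup
        have hall : ∀ v ∈ (S : Subgroup G), v ≠ 1 → v = s := fun v hv hv1 =>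
          hrfix s hs v hv hv1 (by rw [hsame v hv, hr1 s' hs']; group)
        obtain ⟨v, hv, hv'⟩ := hbig (S : Subgroup G) {1, (s : G)} (by
          have := Finset.card_le_two (a := (1 : G)) (b := (s : G))
          omega)
        obtain ⟨hv1, hvs⟩ : v ≠ 1 ∧ v ≠ s := by simpa using hv'
        exact hvs (hall v hv hv1)
      · refine hne ((Subtype.ext ?_).symm)
        exact hrfix s hs s' s'.2 hs' ((hsame s' s'.2).trans (hrs s'))
    by_cases hs : (s : G) = 1
    · exact main s' s hne.symm (fun v hv => (hsame v hv).symm) fun hs' => hne (Subtype.ext (hs.trans hs'.symm))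
    · exact main s s' hne hsame hs
  refine exists_odd_part S hcm hT hkS hkT fun hkc => hknc ?_
  refine cent_of_sq S hcm hkS (mem_centralizer_iff.2 fun v hv => ?_)
  have hTi : T.relIndex (S : Subgroup G) = 2 := by
    have h1 := Grp.card_mul_relIndex hT
    rw [h8, h4] at h1
    omega
  have hfixT : ∀ x ∈ T, k * x * k⁻¹ = x := fun x hx => by
    rw [← mem_centralizer_iff.1 hkc x hx, mul_inv_cancel_right]
  suffices k * k * v * (k * k)⁻¹ = v by
    exact (mul_inv_eq_iff_eq_mul.1 this).symm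
  by_cases hvT : v ∈ T
  · rw [show k * k * v * (k * k)⁻¹ = k * (k * v * k⁻¹) * k⁻¹ by group, hfixT v hvT, hfixT v hvT]
  · have hkv : k * v * k⁻¹ ∈ (S : Subgroup G) := (mem_normalizer_iff.1 hkS v).1 hv
    have hkvT : k * v * k⁻¹ ∉ T := fun h => hvT ((mem_normalizer_iff.1 hkT v).2 h)
    have ht : k * v * k⁻¹ * v ∈ T := by
      simpa [mem_subgroupOf] using
        (Subgroup.mul_mem_iff_of_index_two (H := T.subgroupOf (S : Subgroup G)) hTi
          (a := ⟨_, hkv⟩) (b := ⟨v, hv⟩)).2 (iff_of_false (by simpa [mem_subgroupOf] using hkvT)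
            (by simpa [mem_subgroupOf] using hvT))
    set t := k * v * k⁻¹ * v with ht'
    have e1 : k * v * k⁻¹ = t * v := by rw [ht', mul_assoc (k * v * k⁻¹), hE v hv, mul_one]
    rw [show k * k * v * (k * k)⁻¹ = k * (k * v * k⁻¹) * k⁻¹ by group, e1,
      show k * (t * v) * k⁻¹ = (k * t * k⁻¹) * (k * v * k⁻¹) by group, hfixT t ht, e1, ← mul_assoc,
      hE t (hT ht), one_mul]

end Cfsg.Agent.Fus.TwoModFour
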