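import Cfsg.Agent.Lib.Classical.DicksonMaxFacts
import Cfsg.Agent.S0799
import Cfsg.Agent.Lib.Invol.GW.Consumers.Dihedral

/-!
# `L₂(q)`, `q` an odd power of three, has no doubly transitive action of degree `2 mod 4`

The point stabiliser would have order `2 mod 4`: it is then cyclic or dihedral, hence too small.
-/

set_option autoImplicit false
set_option linter.style.haveILetI false

namespace Cfsg.Agent.Fus.TwoModFour

open Subgroup

/-- No subgroup has index `f ≡ 2 mod 4` with `f - 1` dividing its order. -/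
theorem no_psl_index {F : Type} [Field F] [Fintype F] {m : ℕ} (hm : 1 ≤ m) (hF : Fintype.card F = 3 ^ (2 * m + 1))
    (H : Subgroup (Matrix.ProjectiveSpecialLinearGroup (Fin 2) F)) {f : ℕ} (hi : H.index = f) (hf4 : f % 4 = 2)
    (hd : f - 1 ∣ Nat.card ↥H) : False := by
  classical
  obtain ⟨p, hp⟩ := CharP.exists F
  haveI : Fact p.Prime := ⟨CharP.char_is_prime F p⟩
  haveI : Fact (Nat.Prime 3) := ⟨Nat.prime_three⟩
  obtain rfl : p = 3 := by
    obtain ⟨n, hp', hn⟩ := FiniteField.card F p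
    have h1 : p ∣ 3 ^ (2 * m + 1) := hF ▸ hn ▸ dvd_pow_self p n.ne_zero
    exact (Nat.prime_dvd_prime_iff_eq hp' Nat.prime_three).1 (hp'.dvd_of_dvd_pow h1)
  set p := 3 with hp3
  set q := Fintype.card F with hq
  have hf : q = p ^ (2 * m + 1) := hF
  have hodd : Odd q := hf ▸ (by decide : Odd 3).pow
  obtain ⟨k, hk⟩ : ∃ k, q = 8 * k + 3 ∧ 3 ≤ k := by
    have h9 : ∀ l, 3 ^ (2 * (l + 1) + 1) % 8 = 3 ∧ 27 ≤ 3 ^ (2 * (l + 1) + 1) := fun l => by
      induction l with
      | zero => norm_num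
      | succ l ih => rw [show 2 * (l + 1 + 1) + 1 = 2 * (l + 1) + 1 + 2 by ring, pow_add]; omega
    obtain ⟨l, rfl⟩ : ∃ l, m = l + 1 := ⟨m - 1, by omega⟩
    obtain ⟨e1, e2⟩ := h9 l
    exact ⟨q / 8, by rw [hf, hp3]; omega, by rw [hf, hp3]; omega⟩
  obtain ⟨hqk, hk3⟩ := hk
  set h := Nat.card ↥H with hh
  have hKn : h * f = Nat.card (Matrix.ProjectiveSpecialLinearGroup (Fin 2) F) := hi ▸ card_mul_index H
  have hcard : 2 * (h * f) = q * ((q - 1) * (q + 1)) := hKn ▸ Invol.GW.card_PSLTwo hodd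
  have hA : h * f = 4 * (q * ((4 * k + 1) * (2 * k + 1))) := by
    refine Nat.eq_of_mul_eq_mul_left two_pos (hcard.trans ?_)
    rw [hqk, show 8 * k + 3 - 1 = 2 * (4 * k + 1) by omega]
    ring
  have hAodd : Odd (q * ((4 * k + 1) * (2 * k + 1))) :=
    hodd.mul (Odd.mul (⟨2 * k, by ring⟩ : Odd (4 * k + 1)) ⟨k, rfl⟩)
  obtain ⟨f', hf'⟩ : ∃ f', f = 2 * f' := ⟨f / 2, by omega⟩
  have hh' : h * f' = 2 * (q * ((4 * k + 1) * (2 * k + 1))) :=
    Nat.eq_of_mul_eq_mul_left two_pos (by rw [show 2 * (h * f') = h * (2 * f') by ring, ← hf', hA]; ring)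
  have hf'odd : f' % 2 = 1 := by omega
  have hh4 : h % 4 = 2 := by
    have h1 : h * f' % 4 = 2 := by rw [hh', Nat.odd_iff] at *; omega
    rw [Nat.mul_mod] at h1
    rcases (by omega : f' % 4 = 1 ∨ f' % 4 = 3) with e | e <;> rw [e] at h1 <;> omega
  have h0 : 0 < h := Nat.card_pos
  have hsmall : ¬ h ≤ q + 1 := fun hle => by
    have h1 := Nat.le_of_dvd h0 hd
    have h2 : h * f ≤ (q + 1) * (q + 2) := Nat.mul_le_mul hle (by omega)
    have h3 : q * (q - 1) * (q + 1) ≤ (2 * (q + 2)) * (q + 1) := by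
      rw [mul_assoc, ← hcard]; linarith
    have h4 := Nat.le_of_mul_le_mul_right h3 (Nat.succ_pos q)
    have h5 : 5 * q ≤ q * (q - 1) := by rw [mul_comm 5]; exact Nat.mul_le_mul_left q (by omega)
    omega
  have hgq : Nat.gcd 2 (q - 1) = 2 := Nat.gcd_eq_left (by omega)
  have hpgl8 : ∀ r : ℕ, r % 2 = 1 → 8 ∣ r * ((r - 1) * (r + 1)) := fun r hr => by
    obtain ⟨s, rfl⟩ : ∃ s, r = 2 * s + 1 := ⟨r / 2, by omega⟩
    obtain ⟨u, hu⟩ : 2 ∣ s * (s + 1) := (Nat.even_mul_succ_self s).two_dvd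
    refine ⟨(2 * s + 1) * u, ?_⟩
    rw [Nat.add_sub_cancel, show (2 * s + 1) * (2 * s * (2 * s + 1 + 1)) = 4 * (2 * s + 1) * (s * (s + 1)) by ring, hu]
    ring
  rcases Cfsg.Agent.S0799.result hq.symm p H with ⟨d, hd', hshape⟩ | ⟨Q, L, hL, ⟨i⟩⟩ | ⟨⟨i⟩⟩ | ⟨⟨i⟩⟩ | ⟨⟨i⟩⟩ |
    ⟨F₀, j1, j2, r, hr, hiso⟩
  · rw [hgq] at hd'
    refine hsmall ?_
    have hd2 : 2 * d ≤ q + 1 := by
      rcases hd' with hd' | hd' <;> have := Nat.le_of_dvd (by omega) hd' <;> omega
    rcases hshape with ⟨-, hc⟩ | ⟨⟨i⟩⟩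
    · omega
    · rw [hh, Nat.card_congr i.toEquiv, DihedralGroup.nat_card]; exact hd2
  · have hN : 2 * Nat.card (normalizer ((Q : Subgroup (Matrix.ProjectiveSpecialLinearGroup (Fin 2) F)) :
        Set (Matrix.ProjectiveSpecialLinearGroup (Fin 2) F))) = q * (q - 1) := by
      obtain ⟨a, ha⟩ := exists_prime_orderOf_dvd_card' (G := Matrix.ProjectiveSpecialLinearGroup (Fin 2) F) p (by
        have h2 : p ∣ 2 * (h * f) := by
          rw [hcard, hf]
          exact (dvd_pow_self p (by omega : 2 * m + 1 ≠ 0)).mul_right _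
        have h3 := ((Nat.coprime_primes (Fact.out (p := p.Prime)) Nat.prime_two).2 (by omega)).dvd_of_dvd_mul_left h2
        rw [← hKn]
        exact h3)
      obtain ⟨hap, ha1⟩ := orderOf_eq_prime_iff.1 ha
      have hT := Dickson.card_tor_uni p ha1 hap
      have hTp : IsPGroup p ↥(Dickson.tor a) := IsPGroup.of_card (n := 2 * m + 1) (by rw [hT, ← hq, hf])
      obtain ⟨R, hR⟩ := hTp.exists_le_sylow
      have hR' : (R : Subgroup (Matrix.ProjectiveSpecialLinearGroup (Fin 2) F)) = Dickson.tor a := by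
        refine (eq_of_le_of_card_ge hR ?_).symm
        obtain ⟨r, hr⟩ := IsPGroup.iff_card.1 R.isPGroup'
        have h2 : Nat.card (R : Subgroup (Matrix.ProjectiveSpecialLinearGroup (Fin 2) F)) ∣ q * ((q - 1) * (q + 1)) := by
          rw [← hcard]
          refine (card_subgroup_dvd_card _).trans ?_
          rw [← hKn]
          exact dvd_mul_left _ _
        have hcop : (p ^ r).Coprime ((q - 1) * (q + 1)) := by
          refine Nat.Coprime.pow_left r (((Fact.out (p := p.Prime)).coprime_iff_not_dvd).2 fun hdv => ?_)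
          have hpq : p ∣ q := by rw [hf]; exact dvd_pow_self p (by omega : 2 * m + 1 ≠ 0)
          rcases (Fact.out (p := p.Prime)).dvd_mul.1 hdv with h' | h'
          · have := Nat.dvd_sub hpq h'
            rw [Nat.sub_sub_self (by omega : 1 ≤ q)] at this
            have := Nat.le_of_dvd one_pos this
            omega
          · have := (Nat.dvd_add_right hpq).1 h'
            have := Nat.le_of_dvd one_pos this
            omega
        rw [hT, ← hq]
        exact Nat.le_of_dvd (by omega) (hr ▸ hcop.dvd_of_dvd_mul_right (hr ▸ h2))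
      obtain ⟨g, rfl⟩ := MulAction.exists_smul_eq (Matrix.ProjectiveSpecialLinearGroup (Fin 2) F) R Q
      have hb := Dickson.card_borel p ha1 hap
      rcases Dickson.del_cases F with ⟨-, he⟩ | ⟨hdel, -⟩
      · exact absurd he (Nat.not_even_iff_odd.2 hodd)
      rw [hdel, ← hR', mul_comm] at hb
      rw [Sylow.coe_subgroup_smul, Subgroup.pointwise_smul_def,
        show (MulDistribMulAction.toMonoidEnd _ _ (MulAut.conj g) :
          Matrix.ProjectiveSpecialLinearGroup (Fin 2) F →* Matrix.ProjectiveSpecialLinearGroup (Fin 2) F) =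
            (MulAut.conj g).toMonoidHom from rfl, ← map_equiv_normalizer_eq,
        card_map_of_injective (MulAut.conj g).injective]
      exact hb
    have hdvd : h ∣ q * (4 * k + 1) := by
      have h1 : Nat.card (normalizer ((Q : Subgroup (Matrix.ProjectiveSpecialLinearGroup (Fin 2) F)) :
          Set (Matrix.ProjectiveSpecialLinearGroup (Fin 2) F))) = q * (4 * k + 1) := by
        refine Nat.eq_of_mul_eq_mul_left two_pos (hN.trans ?_)
        rw [hqk, show 8 * k + 3 - 1 = 2 * (4 * k + 1) by omega]; ring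
      rw [← h1, hh, Nat.card_congr i.toEquiv]
      exact card_dvd_of_le hL
    have : Even (q * (4 * k + 1)) := even_iff_two_dvd.2 ((show 2 ∣ h by omega).trans hdvd)
    exact Nat.not_odd_iff_even.2 this (hodd.mul ⟨2 * k, by ring⟩)
  · rw [hh, Nat.card_congr i.toEquiv, nat_card_alternatingGroup, Nat.card_fin] at hh4
    norm_num [Nat.factorial] at hh4
  · rw [hh, Nat.card_congr i.toEquiv, Nat.card_perm, Nat.card_fin] at hh4
    norm_num [Nat.factorial] at hh4
  · rw [hh, Nat.card_congr i.toEquiv, nat_card_alternatingGroup, Nat.card_fin] at hh4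
    norm_num [Nat.factorial] at hh4
  · letI := j1; letI := j2
    have h01 : 1 < Fintype.card F₀ := Fintype.one_lt_card
    have hq0 : Odd (Fintype.card F₀) := by
      have hr0 : r ≠ 0 := fun e => by rw [e, pow_zero] at hr; omega
      by_contra hcon
      have := (Nat.not_odd_iff_even.1 hcon).pow_of_ne_zero hr0
      rw [hr] at this
      exact Nat.not_even_iff_odd.2 hodd this
    have h8 := hpgl8 _ (Nat.odd_iff.1 hq0)
    rcases hiso with ⟨⟨i⟩⟩ | ⟨⟨i⟩⟩
    · have h1 : 2 * h = Fintype.card F₀ * ((Fintype.card F₀ - 1) * (Fintype.card F₀ + 1)) := by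
        rw [hh, Nat.card_congr i.toEquiv, Invol.GW.card_PSLTwo hq0]
      omega
    · have h1 : h = Fintype.card F₀ * ((Fintype.card F₀ - 1) * (Fintype.card F₀ + 1)) := by
        rw [hh, Nat.card_congr i.toEquiv, Dickson.card_pgl F₀]
      omega

end Cfsg.Agent.Fus.TwoModFour
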