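import Cfsg.Agent.Lib.Fus.TwoModFour.AbelBinary
import Cfsg.Agent.Lib.Fus.TwoModFour.AbelEightNorm
import Cfsg.Agent.Lib.Fus.TwoModFour.AbelLin
import Cfsg.Agent.Lib.Invol.AbelTwo.Hub
import Cfsg.Agent.Lib.Invol.JankoWard.Ward

/-!
# Elementary abelian Sylow 2-subgroups of order eight do not occur

The three involutions of `T` are conjugate in the stabiliser of two points.
-/

set_option autoImplicit false
set_option linter.unusedSectionVars false
set_option linter.style.haveILetI false

namespace Cfsg.Agent.Fus.TwoModFour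

open MulAction Subgroup
open scoped Pointwise
open Cfsg.Agent.Perm.TwoStab (pairStab Fx mem_Fx mem_pairStab)
open Cfsg.Agent.Grp (IsSylowIn)

universe u v

variable {G : Type u} [Group G] [Finite G] {Ω : Type v} [Fintype Ω] [MulAction G Ω] [FaithfulSMul G Ω]
  [IsSimpleGroup G]

/-- An element of odd order not centralising `T` can be found in the two-point stabiliser. -/
theorem odd_mem_pairStab (h : Deg G Ω) {a b : Ω} {T : Subgroup G} {S : Sylow 2 G} (F : Frame a b T S)
    (hcm : ∀ x ∈ (S : Subgroup G), ∀ y ∈ (S : Subgroup G), x * y = y * x)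
    (hE : ∀ x ∈ (S : Subgroup G), x * x = 1) {g : G} (hg : g ∈ normalizer (T : Set G)) (ho : Odd (orderOf g)) :
    g ∈ pairStab G a b := by
  classical
  haveI : Fact (Nat.Prime 2) := ⟨Nat.prime_two⟩
  set P : Set Ω := {c | ∀ t ∈ T, t • c = c}
  have haP : a ∈ P := fun t ht => (mem_pairStab.1 (F.syl.1 ht)).1
  have hbP : b ∈ P := fun t ht => (mem_pairStab.1 (F.syl.1 ht)).2
  have hNP : ∀ n ∈ normalizer (T : Set G), ∀ c ∈ P, n • c ∈ P := by
    intro n hn c hc t ht
    have h1 : n⁻¹ * t * n ∈ T := by simpa using (mem_normalizer_iff.1 (inv_mem hn) t).1 ht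
    conv_lhs => rw [show t • n • c = n • (n⁻¹ * t * n) • c by rw [← mul_smul, ← mul_smul]; group]
    rw [hc _ h1]
  have hmove : ∀ c ∈ P, ∀ d ∈ P, ∀ c' ∈ P, ∀ d' ∈ P, c ≠ d → c' ≠ d' →
      ∃ n ∈ normalizer (T : Set G), n • c = c' ∧ n • d = d' := by
    intro c hc d hd c' hc' d' hd' hne hne'
    have hsyl : ∀ x ∈ P, ∀ y ∈ P, x ≠ y → IsSylowIn 2 T (pairStab G x y) := by
      intro x hx y hy hxy
      obtain ⟨T', hT', hle⟩ := exists_sylowIn_ge x y (S.isPGroup'.to_le F.le) fun t ht => ⟨hx t ht, hy t ht⟩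
      obtain ⟨k, -, -, e⟩ := h.exists_conj hxy F.ne hT' F.syl
      have hcard : Nat.card ↥T' = Nat.card ↥T := by
        rw [← e, Subgroup.pointwise_smul_def]
        exact (card_map_of_injective (MulAut.conj k).injective).symm
      rwa [eq_of_le_of_card_ge hle hcard.le]
    obtain ⟨n, h1, h2, e⟩ := h.exists_conj hne hne' (hsyl c hc d hd hne) (hsyl c' hc' d' hd' hne')
    exact ⟨n, Grp.mem_normalizer_iff_smul.2 e, h1, h2⟩
  -- the centraliser of `T` has a normal complement
  set C := centralizer (T : Set G) with hCdef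
  have hSC : (S : Subgroup G) ≤ C := fun s hs => mem_centralizer_iff.2 fun t ht => hcm t (F.le ht) s hs
  let Q : Sylow 2 ↥C := S.subtype hSC
  have hTi := F.relIndex h
  have hle : normalizer ((Q : Subgroup ↥C) : Set ↥C) ≤ centralizer ((Q : Subgroup ↥C) : Set ↥C) := by
    intro m hm
    rw [Sylow.coe_subtype] at hm ⊢
    have hmN : (m : G) ∈ normalizer ((S : Subgroup G) : Set G) := mem_normalizer_iff.2 fun x => by
      constructor
      · intro hx; exact (mem_normalizer_iff.1 hm ⟨x, hSC hx⟩).1 hx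
      · intro hx
        have hxC : x ∈ C := by
          have := mul_mem (mul_mem (inv_mem m.2) (hSC hx)) m.2
          rwa [show (m : G)⁻¹ * ((m : G) * x * (m : G)⁻¹) * m = x by group] at this
        exact (mem_normalizer_iff.1 hm ⟨x, hxC⟩).2 hx
    have hfix : ∀ t ∈ T, (m : G) * t * (m : G)⁻¹ = t := fun t ht => by
      rw [← mem_centralizer_iff.1 m.2 t ht, mul_inv_cancel_right]
    have hmC : (m : G) ∈ centralizer ((S : Subgroup G) : Set G) := by
      refine cent_of_sq S hcm hmN (mem_centralizer_iff.2 fun v hv => (mul_inv_eq_iff_eq_mul.1 ?_).symm)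
      by_cases hvT : v ∈ T
      · rw [show (m : G) * m * v * ((m : G) * m)⁻¹ = m * ((m : G) * v * (m : G)⁻¹) * (m : G)⁻¹ by group,
          hfix v hvT, hfix v hvT]
      · have hkv : (m : G) * v * (m : G)⁻¹ ∈ (S : Subgroup G) := (mem_normalizer_iff.1 hmN v).1 hv
        have hkvT : (m : G) * v * (m : G)⁻¹ ∉ T := fun h => hvT (by
          have h2 := hfix _ h
          have e : v = (m : G) * v * (m : G)⁻¹ := (MulAut.conj (m : G)).injective h2.symm
          rwa [e])
        set t := (m : G) * v * (m : G)⁻¹ * v with ht'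
        have ht : t ∈ T := by
          simpa [mem_subgroupOf] using
            (Subgroup.mul_mem_iff_of_index_two (H := T.subgroupOf (S : Subgroup G)) hTi
              (a := ⟨_, hkv⟩) (b := ⟨v, hv⟩)).2 (iff_of_false (by simpa [mem_subgroupOf] using hkvT)
                (by simpa [mem_subgroupOf] using hvT))
        have e1 : (m : G) * v * (m : G)⁻¹ = t * v := by
          rw [ht', mul_assoc ((m : G) * v * (m : G)⁻¹), hE v hv, mul_one]
        rw [show (m : G) * m * v * ((m : G) * m)⁻¹ = m * ((m : G) * v * (m : G)⁻¹) * (m : G)⁻¹ by group, e1,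
          show (m : G) * (t * v) * (m : G)⁻¹ = ((m : G) * t * (m : G)⁻¹) * ((m : G) * v * (m : G)⁻¹) by group,
          hfix t ht, e1, ← mul_assoc, hE t (F.le ht), one_mul]
    exact mem_centralizer_iff.2 fun x hx => Subtype.ext (mem_centralizer_iff.1 hmC x hx)
  obtain ⟨K, hKn, hcompl, hKodd⟩ : ∃ K : Subgroup ↥C, K.Normal ∧ K.IsComplement' (Q : Subgroup ↥C) ∧
      ¬ 2 ∣ Nat.card ↥K :=
    ⟨(MonoidHom.transferSylow Q hle).ker, inferInstance, MonoidHom.ker_transferSylow_isComplement' Q hle,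
      MonoidHom.not_dvd_card_ker_transferSylow Q hle⟩
  haveI := hKn
  have hKN : ∀ n ∈ normalizer (T : Set G), ∀ k : ↥C, k ∈ K → ∃ k' : ↥C, k' ∈ K ∧ (k' : G) = n * k * n⁻¹ := by
    intro n hn k hk
    have hkC : n * (k : G) * n⁻¹ ∈ C := mem_centralizer_iff.2 fun t ht => by
      have h1 : n⁻¹ * t * n ∈ T := by simpa using (mem_normalizer_iff.1 (inv_mem hn) t).1 ht
      have h2 := mem_centralizer_iff.1 k.2 _ h1
      calc t * (n * (k : G) * n⁻¹) = n * ((n⁻¹ * t * n) * k) * n⁻¹ := by group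
        _ = n * (k : G) * n⁻¹ * t := by rw [h2]; group
    refine ⟨⟨_, hkC⟩, ?_, rfl⟩
    set k' : ↥C := ⟨_, hkC⟩
    have hord : orderOf k' = orderOf k := by
      rw [← orderOf_coe, ← orderOf_coe k]
      exact MulEquiv.orderOf_eq (MulAut.conj n) (k : G)
    have h1 : orderOf (QuotientGroup.mk' K k') ∣ orderOf k := hord ▸ orderOf_map_dvd _ _
    have h2 : orderOf (QuotientGroup.mk' K k') ∣ Nat.card ↥(Q : Subgroup ↥C) := by
      rw [← hcompl.symm.index_eq_card, Subgroup.index]
      exact orderOf_dvd_natCard _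
    obtain ⟨j, hj⟩ := IsPGroup.iff_card.1 Q.isPGroup'
    have hodd' : Nat.Coprime (orderOf k) (Nat.card ↥(Q : Subgroup ↥C)) := by
      rw [hj]
      refine Nat.Coprime.pow_right j (Nat.Coprime.symm ((Nat.prime_two.coprime_iff_not_dvd).2 fun h2 => hKodd ?_))
      exact h2.trans (Subgroup.orderOf_dvd_natCard _ hk)
    have h3 := Nat.eq_one_of_dvd_coprimes hodd' h1 h2
    rw [orderOf_eq_one_iff] at h3
    exact (QuotientGroup.eq_one_iff _).1 h3
  have hParity : 2 ∣ Nat.card ↥P := by
    have hp : IsPGroup 2 ↥T := S.isPGroup'.to_le F.le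
    have h1 := hp.card_modEq_card_fixedPoints Ω
    have h2 : Nat.card ↥(fixedPoints ↥T Ω) = Nat.card ↥P := Nat.card_congr
      { toFun := fun c => ⟨c.1, fun t ht => c.2 ⟨t, ht⟩⟩
        invFun := fun c => ⟨c.1, fun t => c.2 t t.2⟩
        left_inv := fun c => rfl
        right_inv := fun c => rfl }
    rw [h2, Nat.card_eq_fintype_card (α := Ω)] at h1
    have := h.mod
    have h3 : Nat.card ↥P % 2 = Fintype.card Ω % 2 := h1.symm
    omega
  have hKfix : ∀ k : ↥C, k ∈ K → ∀ c ∈ P, (k : G) • c = c := by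
    intro k hk x hx
    by_contra hne
    -- the complement would be transitive on an even set
    letI : MulAction ↥K ↥P :=
      { smul := fun q c => ⟨((q : ↥C) : G) • (c : Ω),
          hNP _ (centralizer_le_normalizer _ (q : ↥C).2) c c.2⟩
        one_smul := fun c => Subtype.ext (one_smul G (c : Ω))
        mul_smul := fun q r c => Subtype.ext (mul_smul ((q : ↥C) : G) ((r : ↥C) : G) (c : Ω)) }
    have hkx : (k : G) • x ∈ P := hNP _ (centralizer_le_normalizer _ k.2) x hx
    haveI : IsPretransitive ↥K ↥P := ⟨fun c d => by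
      by_cases hcd : (c : Ω) = d
      · exact ⟨1, Subtype.ext ((one_smul G (c : Ω)).trans hcd)⟩
      obtain ⟨n, hn, h1, h2⟩ := hmove x hx _ hkx c c.2 d d.2 (Ne.symm hne) hcd
      obtain ⟨k', hk', e⟩ := hKN n hn k hk
      refine ⟨⟨k', hk'⟩, Subtype.ext ?_⟩
      show (k' : G) • (c : Ω) = d
      rw [e, ← h1, mul_smul, mul_smul, inv_smul_smul, h2]⟩
    haveI : Nonempty ↥P := ⟨⟨a, haP⟩⟩
    have h1 := MulAction.index_stabilizer_of_transitive ↥K (⟨a, haP⟩ : ↥P)
    exact hKodd (hParity.trans (h1 ▸ index_dvd_card _))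
  -- hence `T` fixes two points only
  have htwo : ∀ c ∈ P, c = a ∨ c = b := by
    obtain ⟨w, hw, hwT⟩ : ∃ w ∈ (S : Subgroup G), w ∉ T := SetLike.not_le_iff_exists.1 fun hle => by
      rw [relIndex_eq_one.2 hle] at hTi; omega
    have hwa : w • a ≠ a := fun e => hwT ((F.inf_stab h).le ⟨hw, e⟩)
    have horb : ∀ c ∈ P, c = a ∨ c = w • a := by
      intro c hc
      by_cases hca : c = a
      · exact Or.inl hca
      obtain ⟨n, hn, h1, h2⟩ := hmove a haP (w • a) (hNP _ (F.le_normalizer h hw) a haP) a haP c hc (Ne.symm hwa)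
        (Ne.symm hca)
      have hwC : n * w * n⁻¹ ∈ C := mem_centralizer_iff.2 fun t ht => by
        have h3 : n⁻¹ * t * n ∈ T := by simpa using (mem_normalizer_iff.1 (inv_mem hn) t).1 ht
        have h4 := mem_centralizer_iff.1 (hSC hw) _ h3
        calc t * (n * w * n⁻¹) = n * ((n⁻¹ * t * n) * w) * n⁻¹ := by group
          _ = n * w * n⁻¹ * t := by rw [h4]; group
      have h5 : (n * w * n⁻¹) • a = c := by
        conv_lhs => rw [← h1]
        rw [mul_smul, mul_smul, inv_smul_smul, h2]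
      obtain ⟨k, hk, q, hq, hkq⟩ : (⟨n * w * n⁻¹, hwC⟩ : ↥C) ∈ (K : Set ↥C) * ((Q : Subgroup ↥C) : Set ↥C) := by
        rw [hcompl.mul_eq]; trivial
      have h6 : (k : G) • (q : G) • a = c := by
        rw [← mul_smul, ← h5]; exact congrArg (· • a) (congrArg Subtype.val hkq)
      have hqS : (q : G) ∈ (S : Subgroup G) := by
        rw [Sylow.coe_subtype] at hq; exact hq
      have hqP : (q : G) • a ∈ P := hNP _ (F.le_normalizer h hqS) a haP
      rw [hKfix k hk _ hqP] at h6
      by_cases hqT : (q : G) ∈ T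
      · exact Or.inl (h6.symm.trans (haP _ hqT))
      · right
        have h7 : w⁻¹ * (q : G) ∈ T := by
          simpa [mem_subgroupOf] using
            (Subgroup.mul_mem_iff_of_index_two (H := T.subgroupOf (S : Subgroup G)) hTi
              (a := ⟨w⁻¹, inv_mem hw⟩) (b := ⟨q, hqS⟩)).2 (iff_of_false (by simpa [mem_subgroupOf] using hwT)
                (by simpa [mem_subgroupOf] using hqT))
        rw [← h6, show (q : G) = w * (w⁻¹ * q) from (mul_inv_cancel_left w _).symm, mul_smul, haP _ h7]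
    intro c hc
    have hb : b = w • a := (horb b hbP).resolve_left (Ne.symm F.ne)
    rw [hb]; exact horb c hc
  obtain ⟨i, hi⟩ := ho
  have hga : g • a = a ∧ g • b = b := by
    rcases htwo _ (hNP g hg a haP) with e | e
    · refine ⟨e, (htwo _ (hNP g hg b hbP)).resolve_left fun e' => F.ne ?_⟩
      exact smul_left_cancel g (e.trans e'.symm)
    · exfalso
      have hgb : g • b = a := (htwo _ (hNP g hg b hbP)).resolve_right fun e' =>
        F.ne (smul_left_cancel g (e.trans e'.symm))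
      have hsq : ∀ j : ℕ, (g ^ (2 * j)) • a = a := by
        intro j
        induction j with
        | zero => simp
        | succ j ih => rw [show 2 * (j + 1) = 1 + (1 + 2 * j) by ring, pow_add, pow_add, pow_one, mul_smul,
            mul_smul, ih, e, hgb]
      have h1 : (g ^ orderOf g) • a = b := by
        rw [hi, pow_succ', mul_smul, hsq, e]
      rw [pow_orderOf_eq_one, one_smul] at h1
      exact F.ne h1
  exact mem_pairStab.2 hga

/-- Elementary abelian Sylow 2-subgroups of order eight with `⟨t⟩ × L₂(q)` centralisers do not occur. -/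
theorem no_eight (hna : ¬ IsMulCommutative G) (h : Deg G Ω) {a b : Ω} {T : Subgroup G} {S : Sylow 2 G}
    (F : Frame a b T S) (h8 : Nat.card ↥(S : Subgroup G) = 8) (hE : ∀ x ∈ (S : Subgroup G), x * x = 1)
    (hR : ∀ t ∈ (S : Subgroup G), t ≠ 1 → Invol.AbelTwo.JRShape t) : False := by
  classical
  haveI : Fact (Nat.Prime 2) := ⟨Nat.prime_two⟩
  haveI : Fact (Nat.Prime 3) := ⟨Nat.prime_three⟩
  have hhub := Invol.JankoWard.ward G inferInstance hna S h8 hE hR
  have hcm : ∀ x ∈ (S : Subgroup G), ∀ y ∈ (S : Subgroup G), x * y = y * x := fun x hx y hy => by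
    rw [← inv_eq_of_mul_eq_one_right (hE _ (mul_mem hx hy)), mul_inv_rev,
      inv_eq_of_mul_eq_one_right (hE x hx), inv_eq_of_mul_eq_one_right (hE y hy)]
  have hT4 : Nat.card ↥T = 4 := by
    have := h.card_sylow F.ne F.syl S
    omega
  obtain ⟨g, hgN, hgo, hgC⟩ := exists_odd_normalizing S h8 hE hhub F.le hT4
  have hgab := odd_mem_pairStab h F hcm hE hgN hgo
  -- the three involutions of `T` are one orbit
  have hfour : ∀ x ∈ T, ∀ y ∈ T, x ≠ 1 → y ≠ 1 → x ≠ y → ∀ z ∈ T, z = 1 ∨ z = x ∨ z = y ∨ z = x * y := by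
    intro x hx y hy hx1 hy1 hxy z hz
    by_contra hno
    push Not at hno
    obtain ⟨z1, zx, zy, zxy⟩ := hno
    have hxy1 : x * y ≠ 1 := fun e => hxy (by
      rw [← inv_eq_of_mul_eq_one_right e]; exact (inv_eq_of_mul_eq_one_right (hE x (F.le hx))).symm)
    have hsub : ({1, x, y, x * y, z} : Set G) ⊆ (T : Set G) := by
      rintro _ (rfl | rfl | rfl | rfl | rfl)
      exacts [one_mem T, hx, hy, mul_mem hx hy, hz]
    have hcc := Set.ncard_le_ncard hsub (Set.toFinite _)
    rw [Set.ncard_insert_of_notMem (by simp [Ne.symm hx1, Ne.symm hy1, Ne.symm hxy1, Ne.symm z1]) (Set.toFinite _),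
      Set.ncard_insert_of_notMem (by simp [hxy, hy1, Ne.symm zx]) (Set.toFinite _),
      Set.ncard_insert_of_notMem (by simp [hx1, Ne.symm zy]) (Set.toFinite _),
      Set.ncard_insert_of_notMem (by simp [Ne.symm zxy]) (Set.toFinite _), Set.ncard_singleton,
      ← Nat.card_coe_set_eq] at hcc
    change 5 ≤ Nat.card ↥T at hcc
    omega
  have hconj : ∀ n : ℕ, ∀ x ∈ T, g ^ n * x * (g ^ n)⁻¹ ∈ T := fun n x hx =>
    (mem_normalizer_iff.1 (pow_mem hgN n) x).1 hx
  obtain ⟨i, hi⟩ := hgo
  have hg2 : g * g ∉ centralizer (T : Set G) := by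
    intro h2
    refine hgC ?_
    have e : g = (g * g) ^ (i + 1) := by
      rw [← pow_two, ← pow_mul, show 2 * (i + 1) = orderOf g + 1 by omega, pow_add, pow_orderOf_eq_one, one_mul,
        pow_one]
    rw [e]; exact pow_mem h2 _
  have hfree : ∀ x ∈ T, x ≠ 1 → g * x * g⁻¹ ≠ x := by
    intro x hx hx1 hfix
    refine hg2 (mem_centralizer_iff.2 fun y hy => ?_)
    refine (mul_inv_eq_iff_eq_mul.1 ?_).symm
    rw [show g * g * y * (g * g)⁻¹ = g * (g * y * g⁻¹) * g⁻¹ by group]
    by_cases hy1 : y = 1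
    · rw [hy1]; group
    by_cases hxy : x = y
    · rw [← hxy, hfix, hfix]
    have hgy : g * y * g⁻¹ ∈ T := by simpa using hconj 1 y hy
    rcases hfour x hx y hy hx1 hy1 hxy _ hgy with e | e | e | e
    · exact absurd (conj_eq_one_iff.1 e) hy1
    · exact absurd ((MulAut.conj g).injective (e.trans hfix.symm)) (Ne.symm hxy)
    · rw [e, e]
    · rw [e, show g * (x * y) * g⁻¹ = (g * x * g⁻¹) * (g * y * g⁻¹) by group, hfix, e, ← mul_assoc,
        hE x (F.le hx), one_mul]
  have horbit : ∀ x ∈ T, ∀ y ∈ T, x ≠ 1 → y ≠ 1 → ∃ n : ℕ, g ^ n * x * (g ^ n)⁻¹ = y := by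
    intro x hx y hy hx1 hy1
    have h1 : g * x * g⁻¹ ∈ T := by simpa using hconj 1 x hx
    have h2 : g * x * g⁻¹ ≠ 1 := fun e => hx1 (conj_eq_one_iff.1 e)
    have h3 := hfree x hx hx1
    rcases hfour x hx _ h1 hx1 h2 h3.symm y hy with e | e | e | e
    · exact absurd e hy1
    · exact ⟨0, by rw [e]; group⟩
    · exact ⟨1, by rw [e]; group⟩
    · refine ⟨2, ?_⟩
      rw [e, pow_two, show g * g * x * (g * g)⁻¹ = g * (g * x * g⁻¹) * g⁻¹ by group]
      have h4 : g * (g * x * g⁻¹) * g⁻¹ ∈ T := by simpa using hconj 1 _ h1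
      rcases hfour x hx _ h1 hx1 h2 h3.symm _ h4 with e' | e' | e' | e'
      · exact absurd (conj_eq_one_iff.1 e') h2
      · exfalso
        refine hfree _ (mul_mem hx h1) (fun e1 => h3 ?_) ?_
        · exact ((inv_eq_of_mul_eq_one_right e1).symm.trans (inv_eq_of_mul_eq_one_right (hE x (F.le hx))))
        · rw [show g * (x * (g * x * g⁻¹)) * g⁻¹ = (g * x * g⁻¹) * (g * (g * x * g⁻¹) * g⁻¹) by group, e']
          exact hcm _ (F.le h1) x (F.le hx)
      · exact absurd ((MulAut.conj g).injective e') h3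
      · exact e'
  have hthree : 3 ∣ orderOf g := by
    have h3 : ∀ x ∈ T, g ^ 3 * x * (g ^ 3)⁻¹ = x := by
      intro x hx
      by_cases hx1 : x = 1
      · rw [hx1]; group
      have h1 : g * x * g⁻¹ ∈ T := by simpa using hconj 1 x hx
      have h2 : g * x * g⁻¹ ≠ 1 := fun e => hx1 (conj_eq_one_iff.1 e)
      have hy := hfree x hx hx1
      have hyy := hfree _ h1 h2
      have h4 : g * (g * x * g⁻¹) * g⁻¹ ∈ T := by simpa using hconj 1 _ h1
      have h5 : g * (g * x * g⁻¹) * g⁻¹ = x * (g * x * g⁻¹) := by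
        rcases hfour x hx _ h1 hx1 h2 hy.symm _ h4 with e' | e' | e' | e'
        · exact absurd (conj_eq_one_iff.1 e') h2
        · exfalso
          refine hfree _ (mul_mem hx h1) (fun e1 => hy ?_) ?_
          · exact ((inv_eq_of_mul_eq_one_right e1).symm.trans (inv_eq_of_mul_eq_one_right (hE x (F.le hx))))
          · rw [show g * (x * (g * x * g⁻¹)) * g⁻¹ = (g * x * g⁻¹) * (g * (g * x * g⁻¹) * g⁻¹) by group, e']
            exact hcm _ (F.le h1) x (F.le hx)
        · exact absurd e' hyy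
        · exact e'
      calc g ^ 3 * x * (g ^ 3)⁻¹ = g * (g * (g * x * g⁻¹) * g⁻¹) * g⁻¹ := by rw [pow_succ', pow_two]; group
        _ = g * (x * (g * x * g⁻¹)) * g⁻¹ := by rw [h5]
        _ = (g * x * g⁻¹) * (g * (g * x * g⁻¹) * g⁻¹) := by group
        _ = (g * x * g⁻¹) * ((g * x * g⁻¹) * x) := by rw [h5, hcm x (F.le hx) _ (F.le h1)]
        _ = x := by rw [← mul_assoc, hE _ (F.le h1), one_mul]
    have h3' : g ^ 3 ∈ centralizer (T : Set G) := mem_centralizer_iff.2 fun x hx =>
      (mul_inv_eq_iff_eq_mul.1 (h3 x hx)).symm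
    by_contra hnd
    refine hgC ?_
    have hcop : Nat.gcd 3 (orderOf g) = 1 := (Nat.Prime.coprime_iff_not_dvd Nat.prime_three).2 hnd
    have e : g = (g ^ 3) ^ Nat.gcdA 3 (orderOf g) := by
      have h7 := Nat.gcd_eq_gcd_ab 3 (orderOf g)
      rw [hcop, Nat.cast_one] at h7
      conv_lhs => rw [← zpow_one g, h7, zpow_add, zpow_mul, zpow_mul, zpow_natCast, zpow_natCast,
        pow_orderOf_eq_one, one_zpow, mul_one]
    rw [e]; exact zpow_mem h3' _
  have h12 : 12 ∣ Nat.card ↥(pairStab G a b) := by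
    have h4 : 4 ∣ Nat.card ↥(pairStab G a b) := hT4 ▸ card_dvd_of_le F.syl.1
    have h3 : 3 ∣ Nat.card ↥(pairStab G a b) := hthree.trans (Subgroup.orderOf_dvd_natCard _ hgab)
    exact (show Nat.Coprime 4 3 by decide).mul_dvd_of_dvd_of_dvd h4 h3
  obtain ⟨t, htT, ht1⟩ : ∃ t ∈ T, t ≠ 1 := T.bot_or_exists_ne_one.resolve_left fun e => by
    rw [e, card_bot] at hT4; omega
  have ht2 : orderOf t = 2 := orderOf_eq_prime (by rw [pow_two, hE t (F.le htT)]) ht1
  obtain ⟨-, L, hL, F₀, i1, i2, ⟨e⟩, h5 | ⟨m, hm, hF, -⟩⟩ := hhub t ht2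
  · -- `J1`
    have hS : IsMulCommutative ↥(S : Subgroup G) := ⟨⟨fun x y => Subtype.ext (hcm x x.2 y y.2)⟩⟩
    have hJ := (Invol.AbelTwo.j1_of_five S hS h8 ht2 hL h5 e).2.2
    have h1 := h.card_eq F.ne
    obtain ⟨k, hk⟩ := h12
    rw [hJ, hk] at h1
    have h2 : Fintype.card Ω * (Fintype.card Ω - 1) ∣ 14630 := Dvd.intro k (by linarith)
    have hmod := h.mod
    have hgt := h.gt
    have hlt : Fintype.card Ω < 122 := by
      by_contra hge
      push Not at hge
      have h3 := Nat.le_of_dvd (by norm_num) h2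
      have h4 : 122 * 121 ≤ Fintype.card Ω * (Fintype.card Ω - 1) := Nat.mul_le_mul hge (by omega)
      omega
    have key : ∀ n : Fin 122, (n : ℕ) % 4 = 2 → 2 < (n : ℕ) → ¬ (n : ℕ) * ((n : ℕ) - 1) ∣ 14630 := by
      decide +kernel
    exact key ⟨_, hlt⟩ hmod hgt h2
  · -- Ree type: the centraliser is doubly transitive on the fixed points
    obtain ⟨htC, hLC, hcomm, hinf, hsup⟩ := hL
    set C := centralizer ({t} : Set G) with hC
    set P := Fx Ω t with hP
    have hf4 := h.fixed_mod ht2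
    have haP : a ∈ P := (mem_pairStab.1 (F.syl.1 htT)).1
    have hbP : b ∈ P := (mem_pairStab.1 (F.syl.1 htT)).2
    have hCP : ∀ c ∈ C, ∀ x ∈ P, c • x ∈ P := fun c hc x hx => by
      show t • c • x = c • x
      rw [← mul_smul, ← mem_centralizer_singleton_iff.1 hc, mul_smul, hx]
    have hn : zpowers t ≤ normalizer (L : Set G) := fun z hz => mem_normalizer_iff.2 fun x => by
      constructor
      · intro hx; rw [hcomm z hz x hx, mul_inv_cancel_right]; exact hx
      · intro hx
        have h1 := hcomm _ (inv_mem hz) _ hx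
        rw [show z⁻¹ * (z * x * z⁻¹) = x * z⁻¹ by group] at h1
        rwa [mul_right_cancel h1]
    have hdec : ∀ c ∈ C, ∃ z ∈ zpowers t, ∃ l ∈ L, c = z * l := by
      intro c hc
      rw [← hsup] at hc
      obtain ⟨z, hz, l, hl, e⟩ : c ∈ (zpowers t : Set G) * (L : Set G) := by
        rwa [← Subgroup.coe_mul_of_left_le_normalizer_right _ _ hn]
      exact ⟨z, hz, l, hl, e.symm⟩
    have hzfix : ∀ z ∈ zpowers t, ∀ x ∈ P, z • x = x := fun z hz x hx => by
      obtain ⟨k, rfl⟩ := mem_zpowers_iff.1 hz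
      exact (zpow_mem (show t ∈ stabilizer G x from hx) k : t ^ k ∈ stabilizer G x)
    -- transitivity on pairs
    have h2L : ∀ c ∈ P, ∀ d ∈ P, c ≠ d → ∃ l ∈ L, l • c = a ∧ l • d = b := by
      intro c hc d hd hcd
      obtain ⟨T', hT', hle⟩ := exists_sylowIn_ge c d (isPGroup_zpowers_of_orderOf ht2) (zpowers_le.2 ⟨hc, hd⟩)
      obtain ⟨k, hkc, hkd, e'⟩ := h.exists_conj hcd F.ne hT' F.syl
      have hkt : k * t * k⁻¹ ∈ T := e' ▸ Subgroup.smul_mem_pointwise_smul t (MulAut.conj k) T' (hle (mem_zpowers t))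
      obtain ⟨j, hj⟩ := horbit _ hkt t htT (fun e => ht1 (conj_eq_one_iff.1 e)) ht1
      have hjC : g ^ j * k ∈ C := mem_centralizer_singleton_iff.2 (by
        rw [show g ^ j * (k * t * k⁻¹) * (g ^ j)⁻¹ = g ^ j * k * t * (g ^ j * k)⁻¹ by group,
          mul_inv_eq_iff_eq_mul] at hj
        exact hj)
      obtain ⟨z, hz, l, hl, ezl⟩ := hdec _ hjC
      have hfix := mem_pairStab.1 (pow_mem hgab j)
      refine ⟨l, hl, ?_, ?_⟩
      · have h1 : (z * l) • c = a := by rw [← ezl, mul_smul, hkc, hfix.1]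
        rw [mul_smul] at h1
        rw [← hzfix z hz _ (hCP l (hLC hl) c hc)]; exact h1
      · have h1 : (z * l) • d = b := by rw [← ezl, mul_smul, hkd, hfix.2]
        rw [mul_smul] at h1
        rw [← hzfix z hz _ (hCP l (hLC hl) d hd)]; exact h1
    have hLsimp : IsSimpleGroup ↥L := by
      haveI := Classical.PSL_isSimple (F := F₀) (n := 2) le_rfl fun _ => by
        rw [hF]; exact (show 3 < 3 ^ 2 by norm_num).trans_le (Nat.pow_le_pow_right (by norm_num) (by omega))
      haveI : Nontrivial ↥L := e.toEquiv.nontrivial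
      exact IsSimpleGroup.isSimpleGroup_of_surjective e.symm.toMonoidHom e.symm.surjective
    -- `L` is not in the stabiliser
    have hmove : ∃ l ∈ L, l • a ≠ a := by
      by_contra hno
      push Not at hno
      have hle : (S : Subgroup G) ≤ stabilizer G a := fun s hs => by
        obtain ⟨z, hz, l, hl, rfl⟩ := hdec s (mem_centralizer_singleton_iff.2 (hcm s hs t (F.le htT)))
        show (z * l) • a = a
        rw [mul_smul, hno l hl, hzfix z hz a haP]
      have h1 := card_le_of_le ((le_inf le_rfl hle).trans (F.inf_stab h).le)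
      omega
    have hPge : 3 ≤ Nat.card ↥P := by
      by_contra hlt
      have hPsub : ∀ x ∈ P, x = a ∨ x = b := fun x hx => by
        by_contra hno
        push Not at hno
        have h1 := Set.ncard_le_ncard (show ({a, b, x} : Set Ω) ⊆ P by
          rintro _ (rfl | rfl | rfl)
          exacts [haP, hbP, hx]) (Set.toFinite _)
        rw [Set.ncard_insert_of_notMem (by simp [F.ne, Ne.symm hno.1]) (Set.toFinite _), Set.ncard_pair (Ne.symm hno.2),
          ← Nat.card_coe_set_eq] at h1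
        omega
      obtain ⟨l, hl, hla⟩ := hmove
      let φ : ↥L →* Equiv.Perm ↥P :=
        { toFun := fun x => ⟨fun c => ⟨(x : G) • (c : Ω), hCP _ (hLC x.2) c c.2⟩,
            fun c => ⟨(x : G)⁻¹ • (c : Ω), hCP _ (inv_mem (hLC x.2)) c c.2⟩,
            fun c => Subtype.ext (inv_smul_smul _ _), fun c => Subtype.ext (smul_inv_smul _ _)⟩
          map_one' := Equiv.ext fun c => Subtype.ext (one_smul G (c : Ω))
          map_mul' := fun x y => Equiv.ext fun c => Subtype.ext (mul_smul (x : G) (y : G) (c : Ω)) }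
      haveI := hLsimp
      have hker : φ.ker = ⊥ := (inferInstance : φ.ker.Normal).eq_bot_or_eq_top.resolve_right fun h' => hla (by
        have h9 : φ ⟨l, hl⟩ = 1 := MonoidHom.mem_ker.1 (h'.ge (mem_top _))
        exact congrArg Subtype.val (Equiv.ext_iff.1 h9 ⟨a, haP⟩))
      have hinj : Function.Injective φ := (MonoidHom.ker_eq_bot_iff φ).1 hker
      have h1 := Nat.card_le_card_of_injective φ hinj
      rw [Nat.card_perm] at h1
      have h2 : (Nat.card ↥P).factorial ≤ 2 := by
        have h4 : Nat.card ↥P ≤ 2 := by omega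
        calc (Nat.card ↥P).factorial ≤ Nat.factorial 2 := Nat.factorial_le h4
          _ = 2 := rfl
      have h3 : 3 ≤ Nat.card ↥L := by
        rw [Nat.card_congr e.toEquiv]
        have h5 := Invol.GW.card_PSLTwo (F := F₀) (by rw [hF]; exact (by decide : Odd 3).pow)
        have h6 : 3 ≤ Fintype.card F₀ := by rw [hF]; exact Nat.le_self_pow (by omega) 3
        have h7 : 3 * (2 * 4) ≤ Fintype.card F₀ * ((Fintype.card F₀ - 1) * (Fintype.card F₀ + 1)) :=
          Nat.mul_le_mul h6 (Nat.mul_le_mul (by omega) (by omega))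
        omega
      omega
    -- its point stabiliser
    have horb : orbit ↥L a = P := by
      ext x
      constructor
      · rintro ⟨l, rfl⟩; exact hCP _ (hLC l.2) a haP
      · intro hx
        by_cases hxa : x = a
        · subst hxa; exact mem_orbit_self x
        · obtain ⟨l, hl, h1, -⟩ := h2L x hx a haP hxa
          exact ⟨⟨l⁻¹, inv_mem hl⟩, (inv_smul_eq_iff.2 h1.symm : l⁻¹ • a = x)⟩
    set H := stabilizer ↥L a with hH
    have hidx : H.index = Nat.card ↥P := by rw [hH, index_stabilizer, horb, Nat.card_coe_set_eq]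
    have horb2 : orbit ↥H b = P \ {a} := by
      ext x
      constructor
      · rintro ⟨⟨l, hl⟩, rfl⟩
        refine ⟨hCP _ (hLC l.2) b hbP, fun e => F.ne ?_⟩
        exact smul_left_cancel (l : G) ((mem_stabilizer_iff.1 hl : (l : G) • a = a).trans
          (Set.mem_singleton_iff.1 e).symm)
      · rintro ⟨hx, hxa⟩
        obtain ⟨l, hl, h1, h2⟩ := h2L a haP x hx (fun e => hxa e.symm)
        exact ⟨⟨⟨l⁻¹, inv_mem hl⟩, mem_stabilizer_iff.2 (inv_smul_eq_iff.2 h1.symm : l⁻¹ • a = a)⟩,
          (inv_smul_eq_iff.2 h2.symm : l⁻¹ • b = x)⟩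
    have hd : Nat.card ↥P - 1 ∣ Nat.card ↥H := by
      have h1 : (stabilizer ↥H b).index = Nat.card ↥P - 1 := by
        rw [index_stabilizer, horb2, Set.ncard_sdiff_singleton_of_mem haP, Nat.card_coe_set_eq]
      exact h1 ▸ index_dvd_card _
    refine no_psl_index hm hF (H.map e.toMonoidHom) (f := Nat.card ↥P) ?_ hf4 ?_
    · exact (index_map_equiv H e).trans hidx
    · rw [card_map_of_injective (f := e.toMonoidHom) e.injective]; exact hd

end Cfsg.Agent.Fus.TwoModFour
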