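import Cfsg.Agent.Lib.Recog.SU3Sylow

/-!
# The Sylow 2-subgroups of `PSU(3, 4)` have no abelian subgroup of index two
-/

set_option autoImplicit false

namespace Cfsg.Agent.Fus.TwoModFour

open Cfsg Subgroup
open Cfsg.Agent.Recog.SU3Two

variable {F : Type*} [Field F] [Fintype F] [CharP F 2] {q : ℕ} [hF : Fact (Fintype.card F = q ^ 2)]

/-- An abelian subgroup of the model has order at most `q²`. -/
theorem ut_abelian_card_le (A : Subgroup (UT F q)) (hA : ∀ x ∈ A, ∀ y ∈ A, x * y = y * x) :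
    Nat.card ↥A ≤ q * q := by
  classical
  have hFx : Nat.card ↥(Fx F q) = q := card_Fx
  -- the centre
  have hcen : ∀ u : UT F q, u.a = 0 → u.b ∈ Fx F q := fun u hu => by
    rw [mem_Fx]
    have h := u.eq
    rw [hu, zero_mul] at h
    linear_combination h - CharTwo.add_self_eq_zero u.b
  by_cases h0 : ∀ u ∈ A, u.a = 0
  · have h1 : Nat.card ↥A ≤ q := (Nat.card_le_card_of_injective
      (fun u : ↥A => (⟨(u : UT F q).b, hcen _ (h0 u u.2)⟩ : ↥(Fx F q)))
      (fun u v h => Subtype.ext (UT.ext ((h0 u u.2).trans (h0 v v.2).symm) (congrArg Subtype.val h)))).trans_eq hFx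
    exact h1.trans (Nat.le_mul_self q)
  push Not at h0
  obtain ⟨u₀, hu₀, ha₀⟩ := h0
  have hratio : ∀ u ∈ A, u.a / u₀.a ∈ Fx F q := fun u hu => by
    have h := (UT.mul_comm_iff u u₀).1 (hA u hu u₀ hu₀)
    rw [mem_Fx, div_pow, div_eq_div_iff (pow_ne_zero _ ha₀) ha₀, h, mul_comm]
  let f : ↥A → ↥(Fx F q) := fun u => ⟨(u : UT F q).a / u₀.a, hratio _ u.2⟩
  have hfib : ∀ y : ↥(Fx F q), Nat.card {u : ↥A // f u = y} ≤ q := by
    intro y
    by_cases he : ∃ u, f u = y
    · obtain ⟨u₁, hu₁⟩ := he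
      have ha : ∀ u, f u = y → (u : UT F q).a = (u₁ : UT F q).a := fun u hu => by
        have h := congrArg Subtype.val (hu.trans hu₁.symm)
        exact (div_left_inj' ha₀).1 h
      refine (Nat.card_le_card_of_injective
        (fun u : {u : ↥A // f u = y} => (⟨((u₁ : UT F q)⁻¹ * (u.1 : UT F q)).b, hcen _ ?_⟩ : ↥(Fx F q)))
        (fun u v h => ?_)).trans_eq hFx
      · show (u₁ : UT F q).a + (u.1 : UT F q).a = 0
        rw [ha _ u.2]; exact CharTwo.add_self_eq_zero _
      · have e : (u₁ : UT F q)⁻¹ * (u.1 : UT F q) = (u₁ : UT F q)⁻¹ * (v.1 : UT F q) := by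
          refine UT.ext ?_ (congrArg Subtype.val h)
          show (u₁ : UT F q).a + (u.1 : UT F q).a = (u₁ : UT F q).a + (v.1 : UT F q).a
          rw [ha _ u.2, ha _ v.2]
        exact Subtype.ext (Subtype.ext (mul_left_cancel e))
    · haveI : IsEmpty {u : ↥A // f u = y} := ⟨fun u => he ⟨u.1, u.2⟩⟩
      simp
  haveI := Fintype.ofFinite ↥(Fx F q)
  calc Nat.card ↥A = ∑ y : ↥(Fx F q), Nat.card {u : ↥A // f u = y} := by
        rw [← Nat.card_sigma, Nat.card_congr (Equiv.sigmaFiberEquiv f)]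
    _ ≤ ∑ _y : ↥(Fx F q), q := Finset.sum_le_sum fun y _ => hfib y
    _ = q * q := by rw [Finset.sum_const, Finset.card_univ, ← Nat.card_eq_fintype_card, hFx, smul_eq_mul]

omit [CharP F 2] hF in
/-- No abelian subgroup of index two. -/
theorem ufour_no_abelian (h16 : Fintype.card F = 16) (P : Sylow 2 (Cfsg.PSU 3 F 4)) {S : Type*} [Group S]
    (e : S ≃* ↥(P : Subgroup (Cfsg.PSU 3 F 4))) (A : Subgroup S) (hA : ∀ x ∈ A, ∀ y ∈ A, x * y = y * x)
    (hi : A.index = 2) : False := by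
  haveI : Fact (Fintype.card F = 4 ^ 2) := ⟨by rw [h16]; norm_num⟩
  haveI : CharP F 2 := charP_two (m := 4) (by rw [h16]; norm_num)
  obtain ⟨i⟩ := sylow_psu (F := F) (q := 4) (n := 2) (by norm_num) one_le_two P
  set j := e.trans i.symm
  set B := A.map j.toMonoidHom with hB
  have hBc : ∀ x ∈ B, ∀ y ∈ B, x * y = y * x := by
    rintro _ ⟨x, hx, rfl⟩ _ ⟨y, hy, rfl⟩
    rw [← map_mul, ← map_mul, hA x hx y hy]
  have h1 := ut_abelian_card_le B hBc
  have hidx : B.index = 2 := (index_map_equiv A j).trans hi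
  have h2 := B.card_mul_index
  rw [hidx, UT.card] at h2
  omega

end Cfsg.Agent.Fus.TwoModFour
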