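import Cfsg.Agent.Lib.Fus.TwoModFour.AbRank
import Cfsg.Agent.Lib.Fus.TwoModFour.AbelEight
import Cfsg.Agent.Lib.Fus.TwoModFour.UFour
import Cfsg.Agent.Lib.Transfer.MaxClass
import Cfsg.Agent.S0516
import Cfsg.Agent.S4594

/-!
# The shape of the Sylow 2-subgroup when `T` is abelian
-/

set_option autoImplicit false
set_option linter.unusedSectionVars false
set_option linter.style.haveILetI false

namespace Cfsg.Agent.Fus.TwoModFour

open MulAction Subgroup
open scoped Pointwise
open Cfsg.Agent.Perm.TwoStab (pairStab Fx mem_Fx mem_pairStab)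

universe u v

variable {G : Type u} [Group G] [Finite G] {Ω : Type v} [Fintype Ω] [MulAction G Ω] [FaithfulSMul G Ω]
  [IsSimpleGroup G]

/-- An involution of the Sylow subgroup outside `T` and one inside. -/
theorem exists_involutions (h : Deg G Ω) {a b : Ω} {T : Subgroup G} {S : Sylow 2 G} (F : Frame a b T S) :
    (∃ w ∈ (S : Subgroup G), w ∉ T ∧ orderOf w = 2) ∧ ∃ t ∈ T, orderOf t = 2 := by
  haveI : Fact (Nat.Prime 2) := ⟨Nat.prime_two⟩
  obtain ⟨x, hx⟩ := exists_prime_orderOf_dvd_card' (G := G) 2 (by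
    rw [h.card_stab a]
    exact dvd_mul_of_dvd_left (by have := h.mod; omega) _)
  obtain ⟨g, hg, hgT⟩ := F.exists_conj_outside h hx
  obtain ⟨k, hk⟩ := F.exists_conj_inside h hx
  exact ⟨⟨_, hg, hgT, (MulEquiv.orderOf_eq (MulAut.conj g) x).trans hx⟩,
    ⟨_, hk, (MulEquiv.orderOf_eq (MulAut.conj k) x).trans hx⟩⟩

/-- An abelian Sylow 2-subgroup is a four group. -/
theorem four_of_abelian (hna : ¬ IsMulCommutative G) (h : Deg G Ω) {a b : Ω} {T : Subgroup G} {S : Sylow 2 G}
    (F : Frame a b T S) (hc : IsMulCommutative ↥(S : Subgroup G)) :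
    ∃ k : ℕ, 2 ≤ k ∧ Nonempty ((S : Subgroup G) ≃* DihedralGroup k) := by
  classical
  haveI : Fact (Nat.Prime 2) := ⟨Nat.prime_two⟩
  obtain ⟨⟨w, hw, hwT, hw2⟩, t, ht, ht2⟩ := exists_involutions h F
  have hcard := h.card_sylow F.ne F.syl S
  suffices h4 : Nat.card ↥(S : Subgroup G) = 4 by
    haveI : IsKleinFour ↥(S : Subgroup G) := by
      refine ⟨h4, ?_⟩
      have hsub : ({1, t, w, t * w} : Set G) ⊆ ((S : Subgroup G) : Set G) := by
        rintro _ (rfl | rfl | rfl | rfl)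
        exacts [one_mem _, F.le ht, hw, mul_mem (F.le ht) hw]
      have ht1 : t ≠ 1 := fun e => by rw [e, orderOf_one] at ht2; omega
      have hw1 : w ≠ 1 := fun e => hwT (e ▸ one_mem T)
      have htw : t ≠ w := fun e => hwT (e ▸ ht)
      have htw1 : t * w ≠ 1 := fun e => hwT (eq_inv_of_mul_eq_one_right e ▸ inv_mem ht)
      have heq : ({1, t, w, t * w} : Set G) = ((S : Subgroup G) : Set G) := by
        refine Set.eq_of_subset_of_ncard_le hsub ?_ (Set.toFinite _)
        rw [Set.ncard_insert_of_notMem (by simp [Ne.symm ht1, Ne.symm hw1, Ne.symm htw1]) (Set.toFinite _),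
          Set.ncard_insert_of_notMem (by simp [htw, hw1]) (Set.toFinite _),
          Set.ncard_insert_of_notMem (by simp [ht1]) (Set.toFinite _), Set.ncard_singleton,
          ← Nat.card_coe_set_eq]
        exact h4.le
      have hsq : ∀ x ∈ (S : Subgroup G), x * x = 1 := by
        intro x hx
        have hx' : x ∈ ({1, t, w, t * w} : Set G) := heq.ge hx
        rcases hx' with rfl | rfl | rfl | rfl
        · exact one_mul 1
        · exact mul_self_of_orderOf ht2
        · exact mul_self_of_orderOf hw2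
        · have hcm : w * t = t * w :=
            congrArg Subtype.val (hc.is_comm.comm (⟨w, hw⟩ : ↥(S : Subgroup G)) ⟨t, F.le ht⟩)
          rw [mul_assoc, ← mul_assoc w, hcm, mul_assoc t w w, mul_self_of_orderOf hw2, mul_one,
            mul_self_of_orderOf ht2]
      have hd : Monoid.exponent ↥(S : Subgroup G) ∣ 2 := Monoid.exponent_dvd_of_forall_pow_eq_one fun x =>
        Subtype.ext (by rw [SubgroupClass.coe_pow, pow_two]; exact hsq x x.2)
      rcases (Nat.dvd_prime Nat.prime_two).1 hd with h' | h'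
      · exfalso
        haveI := Monoid.exp_eq_one_iff.1 h'
        rw [Nat.card_unique] at h4
        omega
      · exact h'
    exact ⟨2, le_rfl, IsKleinFour.nonempty_mulEquiv⟩
  have h2 : 2 ∣ Nat.card G := (hw2 ▸ orderOf_dvd_natCard w)
  rcases Invol.AbelTwo.trichotomy hna h2 S hc with ⟨F₀, i, j, m, hm, hF, ⟨e⟩⟩ | ⟨F₀, i, j, hodd, -, h8, ⟨e⟩⟩ |
    ⟨h8, hE, hR⟩
  · -- characteristic two
    haveI : CharP F₀ 2 := Recog.SU3Two.charP_two hF
    let e' := e.trans (Invol.GW.SLTwoEquivPSL (F := F₀)).symm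
    let Q := S.mapSurjective (f := e'.toMonoidHom) e'.surjective
    have hq : Nat.card ↥(S : Subgroup G) = Fintype.card F₀ := by
      rw [← Block.AbTwo.SLTwo.card_sylow Q]
      exact (card_map_of_injective (f := e'.toMonoidHom) e'.injective).symm
    rcases hm.eq_or_lt with rfl | hm3
    · rw [hq, hF]; norm_num
    exfalso
    have hT4 : 4 ≤ Nat.card ↥T := by
      have : 2 ^ 3 ≤ 2 ^ m := Nat.pow_le_pow_right two_pos hm3
      omega
    have hE : ∀ x ∈ (S : Subgroup G), x * x = 1 := fun x hx => e'.injective (by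
      rw [map_mul, map_one]
      exact Block.AbTwo.SLTwo.sylow_sq Q (e' x) ⟨x, hx, rfl⟩)
    refine no_semiregular h F hT4 hE fun t ht ht1 => ?_
    have hto : orderOf t = 2 := orderOf_eq_prime (by rw [pow_two, hE t ht]) ht1
    have hle : (S : Subgroup G) ≤ centralizer ({t} : Set G) := fun x hx => mem_centralizer_singleton_iff.2
      (congrArg Subtype.val (hc.is_comm.comm (⟨x, hx⟩ : ↥(S : Subgroup G)) ⟨t, ht⟩))
    refine (eq_of_le_of_card_ge hle ?_).symm
    rw [hq, ← Invol.GW.SLTwo_card_centralizer (F := F₀) (v := e' t) ((MulEquiv.orderOf_eq e' t).trans hto)]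
    refine Nat.card_le_card_of_injective
      (fun x : ↥(centralizer ({t} : Set G)) => (⟨e' x, mem_centralizer_singleton_iff.2 (by
        rw [← map_mul, ← map_mul, mem_centralizer_singleton_iff.1 x.2])⟩ :
        ↥(centralizer ({e' t} : Set (Matrix.SpecialLinearGroup (Fin 2) F₀)))))
      fun x y hxy => Subtype.ext (e'.injective (congrArg Subtype.val hxy))
  · -- `q ≡ 3, 5 mod 8`
    have h1 := Invol.GW.card_PSLTwo hodd
    rw [← Nat.card_congr e.toEquiv] at h1
    obtain ⟨k, hk⟩ : ∃ k, Nat.card ↥(S : Subgroup G) = 2 ^ k := IsPGroup.iff_card.1 S.isPGroup'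
    have hdvd : Nat.card ↥(S : Subgroup G) ∣ Nat.card G := card_subgroup_dvd_card _
    obtain ⟨r, hr⟩ : ∃ r, Fintype.card F₀ = 8 * r + 3 ∨ Fintype.card F₀ = 8 * r + 5 :=
      ⟨Fintype.card F₀ / 8, by omega⟩
    have h4n : ¬ 8 ∣ Nat.card G := by
      intro h8'
      obtain ⟨c, hc'⟩ := h8'
      rw [hc'] at h1
      rcases hr with hr | hr <;> rw [hr] at h1
      · rw [show 8 * r + 3 - 1 = 2 * (4 * r + 1) by omega] at h1
        have h2' : 2 * c = (8 * r + 3) * ((4 * r + 1) * (2 * r + 1)) := by linarith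
        have h3 : Odd ((8 * r + 3) * ((4 * r + 1) * (2 * r + 1))) :=
          Odd.mul ⟨4 * r + 1, by ring⟩ (Odd.mul ⟨2 * r, by ring⟩ ⟨r, rfl⟩)
        rw [← h2', Nat.odd_iff] at h3
        omega
      · rw [show 8 * r + 5 - 1 = 4 * (2 * r + 1) by omega] at h1
        have h2' : 2 * c = (8 * r + 5) * ((2 * r + 1) * (4 * r + 3)) := by linarith
        have h3 : Odd ((8 * r + 5) * ((2 * r + 1) * (4 * r + 3))) :=
          Odd.mul ⟨4 * r + 2, by ring⟩ (Odd.mul ⟨r, rfl⟩ ⟨2 * r + 1, by ring⟩)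
        rw [← h2', Nat.odd_iff] at h3
        omega
    have hT2 : 2 ≤ Nat.card ↥T := Nat.le_of_dvd Nat.card_pos (ht2 ▸ Subgroup.orderOf_dvd_natCard T ht)
    rcases Nat.lt_or_ge k 3 with hk3 | hk3
    · have : 2 ^ k ≤ 2 ^ 2 := Nat.pow_le_pow_right two_pos (by omega)
      omega
    · exact absurd (((hk ▸ pow_dvd_pow 2 hk3 : 2 ^ 3 ∣ Nat.card ↥(S : Subgroup G))).trans hdvd) h4n
  · exact (no_eight hna h F h8 hE hR).elim

/-- The three possible shapes when `T` is abelian. -/
theorem shape_of_abelian (hna : ¬ IsMulCommutative G) (h : Deg G Ω) {a b : Ω} {T : Subgroup G} {S : Sylow 2 G}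
    (F : Frame a b T S) (hT : ∀ x ∈ T, ∀ y ∈ T, x * y = y * x) :
    (∃ k : ℕ, 2 ≤ k ∧ Nonempty ((S : Subgroup G) ≃* DihedralGroup k)) ∨
      Cfsg.IsQuasiDihedral (S : Subgroup G) ∨ Cfsg.IsWreathed (S : Subgroup G) := by
  classical
  haveI : Fact (Nat.Prime 2) := ⟨Nat.prime_two⟩
  obtain ⟨⟨w, hw, hwT, hw2⟩, t₀, ht₀, ht₀2⟩ := exists_involutions h F
  have hw2' := mul_self_of_orderOf hw2
  have hTi := F.relIndex h
  by_cases hbig : ∃ x ∈ T, ∃ y ∈ T, x * (w * x * w⁻¹)⁻¹ ≠ 1 ∧ y * (w * y * w⁻¹)⁻¹ ≠ 1 ∧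
      x * (w * x * w⁻¹)⁻¹ ≠ y * (w * y * w⁻¹)⁻¹
  · -- rank at most two
    have D : AB S T w := ⟨F.le, hT, hTi, hw, hwT, hw2', hbig⟩
    have hrank := rank_le_two hna D fun t _ ht => F.exists_conj_outside h ht
    letI : Fintype (GaloisField 2 4) := Fintype.ofFinite _
    have h16 : Fintype.card (GaloisField 2 4) = 16 := by
      rw [← Nat.card_eq_fintype_card, GaloisField.card 2 4 (by norm_num)]; norm_num
    obtain ⟨P⟩ : Nonempty (Sylow 2 (Cfsg.PSU 3 (GaloisField 2 4) 4)) := inferInstance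
    rcases Cfsg.Agent.S0516.result hna hrank S h16 P with h' | h' | h' | ⟨⟨e⟩⟩
    · exact Or.inl h'
    · exact Or.inr (Or.inl h')
    · exact Or.inr (Or.inr h')
    · exfalso
      refine ufour_no_abelian h16 P e (T.subgroupOf (S : Subgroup G)) (fun x hx y hy => Subtype.ext ?_) hTi
      exact hT x hx y hy
  push Not at hbig
  by_cases hcomm : ∀ x ∈ T, x * (w * x * w⁻¹)⁻¹ = 1
  · refine Or.inl (four_of_abelian hna h F ⟨⟨fun p q => Subtype.ext ?_⟩⟩)
    have hwc : ∀ x ∈ T, w * x = x * w := fun x hx => by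
      have h1 := mul_inv_eq_one.1 (hcomm x hx)
      exact (eq_mul_inv_iff_mul_eq.1 h1).symm
    have hdec : ∀ s ∈ (S : Subgroup G), ∃ x ∈ T, s = x ∨ s = x * w := by
      intro s hs
      by_cases hsT : s ∈ T
      · exact ⟨s, hsT, Or.inl rfl⟩
      · refine ⟨s * w, ?_, Or.inr (by rw [mul_assoc, hw2', mul_one])⟩
        simpa [mem_subgroupOf] using (Subgroup.mul_mem_iff_of_index_two (H := T.subgroupOf (S : Subgroup G)) hTi
          (a := ⟨s, hs⟩) (b := ⟨w, hw⟩)).2 (iff_of_false (by simpa [mem_subgroupOf] using hsT)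
            (by simpa [mem_subgroupOf] using hwT))
    have hcomm' : ∀ x ∈ T, Commute w x := hwc
    obtain ⟨x, hx, hp⟩ := hdec p p.2
    obtain ⟨y, hy, hq⟩ := hdec q q.2
    show Commute (p : G) q
    have hxy : Commute x y := hT x hx y hy
    rcases hp with hp | hp <;> rcases hq with hq | hq <;> rw [hp, hq]
    · exact hxy
    · exact hxy.mul_right (hcomm' x hx).symm
    · exact hxy.mul_left (hcomm' y hy)
    · exact (hxy.mul_right (hcomm' x hx).symm).mul_left ((hcomm' y hy).mul_right (Commute.refl w))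
  push Not at hcomm
  obtain ⟨x₀, hx₀, hx₀1⟩ := hcomm
  -- the centre has index four
  set Z : Subgroup G := T ⊓ centralizer ({w} : Set G) with hZdef
  have hdl : ∀ x ∈ T, x * (w * x * w⁻¹)⁻¹ = 1 → x ∈ Z := fun x hx h1 =>
    ⟨hx, mem_centralizer_singleton_iff.2 (eq_mul_inv_iff_mul_eq.1 (mul_inv_eq_one.1 h1))⟩
  have hdiff : ∀ x ∈ T, x ∉ Z → x₀⁻¹ * x ∈ Z := by
    intro x hx hxZ
    have h1 := hbig x₀ hx₀ x hx hx₀1 (fun e => hxZ (hdl x hx e))
    refine hdl _ (mul_mem (inv_mem hx₀) hx) ?_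
    have hc1 : w * x * w⁻¹ ∈ T := F.normal_mem h hw hx
    have hc0 : w * x₀ * w⁻¹ ∈ T := F.normal_mem h hw hx₀
    calc x₀⁻¹ * x * (w * (x₀⁻¹ * x) * w⁻¹)⁻¹
        = x₀⁻¹ * (x * (w * x * w⁻¹)⁻¹) * (w * x₀ * w⁻¹) := by group
      _ = x₀⁻¹ * (x₀ * (w * x₀ * w⁻¹)⁻¹) * (w * x₀ * w⁻¹) := by rw [h1]
      _ = 1 := by group
  have hx₀Z : x₀ ∉ Z := fun hm => hx₀1 (by
    rw [← mem_centralizer_singleton_iff.1 hm.2]; group)
  have hZT : Z.relIndex T = 2 := by
    refine index_eq_two_iff.2 ⟨⟨x₀⁻¹, inv_mem hx₀⟩, fun x => ?_⟩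
    by_cases hx : (x : G) ∈ Z
    · refine Or.inr ⟨hx, fun hm => hx₀Z ?_⟩
      have h1 : x₀⁻¹ ∈ Z := (mul_mem_cancel_left hx).1 hm
      simpa using inv_mem h1
    · refine Or.inl ⟨?_, hx⟩
      show (x : G) * x₀⁻¹ ∈ Z
      rw [hT x x.2 x₀⁻¹ (inv_mem hx₀)]
      exact hdiff x x.2 hx
  have hcentre : center ↥(S : Subgroup G) = Z.subgroupOf (S : Subgroup G) := by
    ext ⟨z, hz⟩
    rw [mem_subgroupOf, Subgroup.mem_center_iff]
    constructor
    · intro hcz
      have hzw : z * w = w * z := (congrArg Subtype.val (hcz ⟨w, hw⟩)).symm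
      refine ⟨?_, mem_centralizer_singleton_iff.2 hzw⟩
      by_contra hzT
      have hzw' : z * w ∈ T := by
        simpa [mem_subgroupOf] using (Subgroup.mul_mem_iff_of_index_two (H := T.subgroupOf (S : Subgroup G)) hTi
          (a := ⟨z, hz⟩) (b := ⟨w, hw⟩)).2 (iff_of_false (by simpa [mem_subgroupOf] using hzT)
            (by simpa [mem_subgroupOf] using hwT))
      refine hx₀1 ?_
      have h1 : x₀ * z = z * x₀ := congrArg Subtype.val (hcz ⟨x₀, F.le hx₀⟩)
      have h2 : x₀ * (z * w) = (z * w) * x₀ := hT x₀ hx₀ _ hzw'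
      rw [← mul_assoc, h1, mul_assoc, mul_assoc] at h2
      rw [← mul_left_cancel h2]; group
    · rintro ⟨hzT, hzw⟩ ⟨s, hs⟩
      refine Subtype.ext ?_
      show s * z = z * s
      by_cases hsT : s ∈ T
      · exact hT s hsT z hzT
      · have hsw : s * w ∈ T := by
          simpa [mem_subgroupOf] using (Subgroup.mul_mem_iff_of_index_two (H := T.subgroupOf (S : Subgroup G)) hTi
            (a := ⟨s, hs⟩) (b := ⟨w, hw⟩)).2 (iff_of_false (by simpa [mem_subgroupOf] using hsT)
              (by simpa [mem_subgroupOf] using hwT))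
        have e : s = s * w * w := by rw [mul_assoc, hw2', mul_one]
        rw [e, mul_assoc (s * w), ← mem_centralizer_singleton_iff.1 hzw, ← mul_assoc, hT _ hsw z hzT, mul_assoc]
  have hidx : (center ↥(S : Subgroup G)).index = 4 := by
    rw [hcentre]
    show Z.relIndex (S : Subgroup G) = 4
    rw [← relIndex_mul_relIndex Z T (S : Subgroup G) inf_le_left F.le, hZT, hTi]
  have hSna : ¬ IsMulCommutative ↥(S : Subgroup G) := fun hc => hx₀1 (by
    have h1 : w * x₀ = x₀ * w := congrArg Subtype.val (hc.is_comm.comm (⟨w, hw⟩ : ↥(S : Subgroup G)) ⟨x₀, F.le hx₀⟩)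
    rw [h1]; group)
  have hperf : Group.IsPerfect G := ⟨((inferInstance : (commutator G).Normal).eq_bot_or_eq_top).resolve_left
    fun h' => hna ⟨⟨fun p q => commutatorElement_eq_one_iff_mul_comm.1 (by
      have := commutator_mem_commutator (mem_top p) (mem_top q)
      rwa [← _root_.commutator_def, h', mem_bot] at this)⟩⟩⟩
  have hquasi : Cfsg.IsQuasisimple G := by
    refine ⟨hperf, ?_⟩
    exact ((QuotientGroup.quotientMulEquivOfEq (Transfer.CentralFour.center_eq_bot hna)).trans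
      QuotientGroup.quotientBot).isSimpleGroup
  obtain ⟨h8, -⟩ := Cfsg.Agent.S4594.result hquasi S hSna hidx
  -- a group of order eight with two involutions
  have hcne : commutator ↥(S : Subgroup G) ≠ ⊥ := fun hb => hSna ⟨⟨fun p q =>
    commutatorElement_eq_one_iff_mul_comm.1 (by
      have := commutator_mem_commutator (mem_top p) (mem_top q)
      rwa [← _root_.commutator_def, hb, mem_bot] at this)⟩⟩
  have hcle : commutator ↥(S : Subgroup G) ≤ center ↥(S : Subgroup G) := by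
    haveI : IsMulCommutative (↥(S : Subgroup G) ⧸ center ↥(S : Subgroup G)) :=
      ⟨⟨IsPGroup.commutative_of_card_eq_prime_sq (p := 2) (by rw [← Subgroup.index, hidx]; norm_num)⟩⟩
    exact Subgroup.Normal.quotient_commutative_iff_commutator_le.1 ⟨⟨fun p q => mul_comm' p q⟩⟩
  have hcc : Nat.card ↥(center ↥(S : Subgroup G)) = 2 := by
    have h1 := (center ↥(S : Subgroup G)).card_mul_index
    rw [hidx, h8] at h1
    omega
  have hcomm2 : Nat.card ↥(commutator ↥(S : Subgroup G)) = 2 := by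
    have h1 := card_le_of_le hcle
    have h2 : 1 < Nat.card ↥(commutator ↥(S : Subgroup G)) := (one_lt_card_iff_ne_bot _).2 hcne
    omega
  have hc4 : (commutator ↥(S : Subgroup G)).index = 4 := by
    have h1 := (commutator ↥(S : Subgroup G)).card_mul_index
    rw [hcomm2, h8] at h1
    omega
  rcases Transfer.MaxClass.classify S.isPGroup' hc4 hcne with ⟨k, hk⟩ | ⟨k, hk, -⟩ | ⟨k, ⟨e⟩⟩
  · exact Or.inl ⟨_, le_trans (by norm_num) (Nat.pow_le_pow_right two_pos (Nat.le_add_left 2 k)), hk⟩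
  · exfalso
    rw [h8] at hk
    have : 2 ^ 4 ≤ 2 ^ (k + 4) := Nat.pow_le_pow_right two_pos (by omega)
    omega
  · exfalso
    haveI : NeZero (2 ^ (k + 1)) := ⟨by positivity⟩
    have hq : ∀ p : ↥(S : Subgroup G), orderOf p = 2 → e p = QuaternionGroup.a (2 ^ (k + 1) : ℕ) := fun p hp => by
      have h2 : orderOf (e p) = 2 := (MulEquiv.orderOf_eq e p).trans hp
      rcases hcase : e p with i | i
      · rw [hcase] at h2
        have h3 := pow_orderOf_eq_one (QuaternionGroup.a i)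
        rw [h2] at h3
        rw [pow_two, QuaternionGroup.a_mul_a, QuaternionGroup.one_def, QuaternionGroup.a.injEq] at h3
        refine congrArg QuaternionGroup.a ?_
        have hi : i ≠ 0 := fun h0 => by
          rw [h0, ← QuaternionGroup.one_def, orderOf_one] at h2; omega
        have hlt := ZMod.val_lt i
        have hdvd : 2 * 2 ^ (k + 1) ∣ i.val + i.val := by
          rw [← ZMod.natCast_eq_zero_iff, Nat.cast_add, ZMod.natCast_zmod_val, h3]
        have hpos : 0 < i.val := Nat.pos_of_ne_zero fun h0 => hi ((ZMod.val_eq_zero i).1 h0)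
        obtain ⟨c, hc⟩ := hdvd
        have hc1 : c = 1 := by
          rcases c with _ | _ | c
          · omega
          · rfl
          · have : 2 * 2 ^ (k + 1) * 2 ≤ 2 * 2 ^ (k + 1) * (c + 1 + 1) := Nat.mul_le_mul_left _ (by omega)
            omega
        rw [← ZMod.natCast_zmod_val i]
        congr 1
        rw [hc1] at hc; omega
      · rw [hcase, QuaternionGroup.orderOf_xa] at h2
        omega
    have h1 := hq ⟨w, hw⟩ (by rw [Subgroup.orderOf_mk]; exact hw2)
    have h2 := hq ⟨t₀, F.le ht₀⟩ (by rw [Subgroup.orderOf_mk]; exact ht₀2)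
    have e1 : w = t₀ := congrArg Subtype.val (e.injective (h1.trans h2.symm))
    exact hwT (e1 ▸ ht₀)

end Cfsg.Agent.Fus.TwoModFour
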