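import Cfsg.Agent.Lib.Perm.TwoStab.Basic
import Cfsg.Agent.Lib.Grp.Coprime
import Cfsg.Agent.Lib.Grp.Cores

/-!
# Doubly transitive groups of degree 2 mod 4: first facts

A Sylow 2-subgroup `T` of a two-point stabiliser has index two in a Sylow 2-subgroup of the group, and an
involution moving `c` to `d` normalises a Sylow 2-subgroup of the stabiliser of `c, d`.
-/

set_option autoImplicit false
set_option linter.unusedSectionVars false
set_option linter.style.haveILetI false

namespace Cfsg.Agent.Fus.TwoModFour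

open MulAction Subgroup
open scoped Pointwise
open Cfsg.Agent.Perm.TwoStab (pairStab Fx mem_Fx mem_pairStab offPairs card_offPairs card_eq_pairs)
open Cfsg.Agent.Grp (IsSylowIn)

universe u v

variable {G : Type u} [Group G] [Finite G] {Ω : Type v} [Fintype Ω] [MulAction G Ω]

/-- Doubly transitive of degree 2 mod 4, more than two points. -/
structure Deg (G : Type u) [Group G] (Ω : Type v) [Fintype Ω] [MulAction G Ω] : Prop where
  two : IsMultiplyPretransitive G Ω 2
  mod : Fintype.card Ω % 4 = 2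
  gt : 2 < Fintype.card Ω

theorem Deg.move (h : Deg G Ω) {a b c d : Ω} (hab : a ≠ b) (hcd : c ≠ d) :
    ∃ g : G, g • a = c ∧ g • b = d :=
  is_two_pretransitive_iff.1 h.two hab hcd

theorem Deg.exists_ne (h : Deg G Ω) (c : Ω) : ∃ d : Ω, c ≠ d := by
  obtain ⟨x, hx⟩ := Fintype.exists_ne_of_one_lt_card (by have := h.gt; omega) c
  exact ⟨x, hx.symm⟩

/-- The order of the group. -/
theorem Deg.card_eq (h : Deg G Ω) {a b : Ω} (hab : a ≠ b) :
    Nat.card G = Fintype.card Ω * (Fintype.card Ω - 1) * Nat.card ↥(pairStab G a b) := by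
  have h1 := card_eq_pairs (⊤ : Subgroup G) (offPairs (Set.univ : Set Ω)) (a := a) (b := b)
    ⟨hab, trivial, trivial⟩
    (fun g _ => ⟨fun e => hab (by simpa using congrArg (g⁻¹ • ·) e), trivial, trivial⟩)
    (fun p hp => by
      obtain ⟨g, hga, hgb⟩ := h.move hab hp.1
      exact ⟨g, trivial, Prod.ext hga hgb⟩)
  rw [Subgroup.card_top, card_offPairs, Nat.card_congr (Equiv.Set.univ Ω), top_inf_eq] at h1
  rw [← Nat.card_eq_fintype_card]
  exact h1

theorem factorization_two_of_mod {m : ℕ} (hm : m % 4 = 2) : m.factorization 2 = 1 := by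
  obtain ⟨k, rfl⟩ : ∃ k, m = 2 * k := ⟨m / 2, by omega⟩
  rw [Nat.factorization_mul (by norm_num) (by omega), Finsupp.add_apply,
    Nat.Prime.factorization_self Nat.prime_two, Nat.factorization_eq_zero_of_not_dvd (by omega)]

theorem Deg.factorization_eq (h : Deg G Ω) {a b : Ω} (hab : a ≠ b) :
    (Nat.card G).factorization 2 = (Nat.card ↥(pairStab G a b)).factorization 2 + 1 := by
  have := h.mod
  have := h.gt
  rw [h.card_eq hab, Nat.factorization_mul (Nat.mul_ne_zero (by omega) (by omega)) Nat.card_pos.ne',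
    Nat.factorization_mul (by omega) (by omega), Finsupp.add_apply, Finsupp.add_apply,
    factorization_two_of_mod h.mod,
    Nat.factorization_eq_zero_of_not_dvd (n := Fintype.card Ω - 1) (by omega), add_zero, add_comm]

/-- A Sylow 2-subgroup of a two-point stabiliser has index two in one of the group. -/
theorem Deg.card_sylow (h : Deg G Ω) {a b : Ω} (hab : a ≠ b) {T : Subgroup G}
    (hT : IsSylowIn 2 T (pairStab G a b)) (S : Sylow 2 G) :
    Nat.card ↥(S : Subgroup G) = 2 * Nat.card ↥T := by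
  haveI : Fact (Nat.Prime 2) := ⟨Nat.prime_two⟩
  rw [S.card_eq_multiplicity, hT.card, h.factorization_eq hab, pow_succ']

theorem smul_pairStab (g : G) (a b : Ω) :
    MulAut.conj g • pairStab G a b = pairStab G (g • a) (g • b) := by
  ext x
  rw [Subgroup.mem_pointwise_smul_iff_inv_smul_mem, mem_pairStab, mem_pairStab, ← map_inv, MulAut.smul_def,
    MulAut.conj_apply, inv_inv]
  simp only [mul_smul, inv_smul_eq_iff]

theorem sylowIn_smul {a b : Ω} {T : Subgroup G} (g : G) (hT : IsSylowIn 2 T (pairStab G a b)) :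
    IsSylowIn 2 (MulAut.conj g • T) (pairStab G (g • a) (g • b)) := by
  rw [← smul_pairStab]
  refine ⟨Subgroup.pointwise_smul_le_pointwise_smul_iff.mpr hT.1, hT.2.1.map _, ?_⟩
  rw [Grp.relIndex_smul]; exact hT.2.2

/-- Every Sylow 2-subgroup of a two-point stabiliser is a conjugate of a given one. -/
theorem Deg.exists_conj (h : Deg G Ω) {a b c d : Ω} (hab : a ≠ b) (hcd : c ≠ d) {T T' : Subgroup G}
    (hT : IsSylowIn 2 T (pairStab G a b)) (hT' : IsSylowIn 2 T' (pairStab G c d)) :
    ∃ g : G, g • a = c ∧ g • b = d ∧ MulAut.conj g • T = T' := by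
  haveI : Fact (Nat.Prime 2) := ⟨Nat.prime_two⟩
  obtain ⟨g, hga, hgb⟩ := h.move hab hcd
  have hT1 := sylowIn_smul g hT
  rw [hga, hgb] at hT1
  obtain ⟨k, hk, e⟩ := hT1.conj hT'
  refine ⟨k * g, ?_, ?_, ?_⟩
  · rw [mul_smul, hga]; exact (mem_pairStab.1 hk).1
  · rw [mul_smul, hgb]; exact (mem_pairStab.1 hk).2
  · rw [map_mul, mul_smul, e]

/-- A 2-subgroup of a two-point stabiliser lies in a Sylow 2-subgroup of it. -/
theorem exists_sylowIn_ge (c d : Ω) {P : Subgroup G} (hP : IsPGroup 2 P) (hle : P ≤ pairStab G c d) :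
    ∃ T : Subgroup G, IsSylowIn 2 T (pairStab G c d) ∧ P ≤ T := by
  haveI : Fact (Nat.Prime 2) := ⟨Nat.prime_two⟩
  obtain ⟨Q, hQ⟩ := (hP.comap_subtype (K := pairStab G c d)).exists_le_sylow
  exact ⟨_, Grp.isSylowIn_iff.2 ⟨Q, rfl⟩, fun x hx => ⟨⟨x, hle hx⟩, hQ hx, rfl⟩⟩

theorem mul_self_of_orderOf {G : Type*} [Group G] {t : G} (ht : orderOf t = 2) : t * t = 1 := by
  rw [← pow_two, ← ht, pow_orderOf_eq_one]

theorem isPGroup_zpowers_of_orderOf {t : G} (ht : orderOf t = 2) : IsPGroup 2 ↥(zpowers t) :=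
  IsPGroup.of_card (n := 1) (by rw [Nat.card_zpowers, ht, pow_one])

theorem swap_normalizes_pairStab {c d : Ω} {t : G} (ht : orderOf t = 2) (htc : t • c = d) :
    zpowers t ≤ normalizer ((pairStab G c d : Subgroup G) : Set G) := by
  have htd : t • d = c := by rw [← htc, ← mul_smul, mul_self_of_orderOf ht, one_smul]
  refine zpowers_le.2 (mem_normalizer_iff.2 fun x => ?_)
  have hinv : t⁻¹ = t := inv_eq_of_mul_eq_one_right (mul_self_of_orderOf ht)
  rw [hinv, mem_pairStab, mem_pairStab, mul_smul, mul_smul, mul_smul, mul_smul, htc, htd]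
  constructor
  · rintro ⟨h1, h2⟩
    exact ⟨by rw [h2, htd], by rw [h1, htc]⟩
  · rintro ⟨h1, h2⟩
    exact ⟨MulAction.injective t (h2.trans htc.symm), MulAction.injective t (h1.trans htd.symm)⟩

/-- An involution swapping two points normalises a Sylow 2-subgroup of their stabiliser; it lies outside it,
and together they give a Sylow 2-subgroup of the group. -/
theorem Deg.exists_swapped_sylow (h : Deg G Ω) {c d : Ω} (hcd : c ≠ d) {t : G} (ht : orderOf t = 2)
    (htc : t • c = d) :
    ∃ T : Subgroup G, ∃ S : Sylow 2 G, IsSylowIn 2 T (pairStab G c d) ∧ T ≤ (S : Subgroup G) ∧ t ∈ (S : Subgroup G) ∧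
      t ∉ T ∧ T.relIndex (S : Subgroup G) = 2 ∧ (∀ x ∈ (S : Subgroup G), ∀ y ∈ T, x * y * x⁻¹ ∈ T) ∧
      T = pairStab G c d ⊓ (S : Subgroup G) := by
  haveI : Fact (Nat.Prime 2) := ⟨Nat.prime_two⟩
  set P := pairStab G c d
  set R := P ⊔ zpowers t with hR
  haveI hPn : (P.subgroupOf R).Normal :=
    normal_subgroupOf_of_le_normalizer (sup_le le_normalizer (swap_normalizes_pairStab ht htc))
  obtain ⟨U, hU⟩ := ((isPGroup_zpowers_of_orderOf ht).comap_subtype (K := R)).exists_le_sylow
  obtain ⟨S, hS⟩ := (U.isPGroup'.map R.subtype).exists_le_sylow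
  have htS : t ∈ (S : Subgroup G) :=
    hS ⟨⟨t, mem_sup_right (mem_zpowers t)⟩, hU (mem_zpowers t), rfl⟩
  have hUX : IsSylowIn 2 ((U : Subgroup R).map R.subtype) R := Grp.isSylowIn_iff.2 ⟨U, rfl⟩
  -- the trace of the Sylow subgroup on `P`
  have hT : IsSylowIn 2 (P ⊓ (S : Subgroup G)) P := by
    refine ⟨inf_le_left, S.isPGroup'.to_le inf_le_right, ?_⟩
    have h1 := Grp.sylow_inf_normal_relIndex U (P.subgroupOf R)
    rw [inf_relIndex_left]
    intro hdvd
    refine h1 ?_
    have hcalc : (U : Subgroup R).relIndex (P.subgroupOf R) = ((U : Subgroup R).map R.subtype).relIndex P := by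
      rw [← Subgroup.relIndex_map_map_of_injective _ _ (subtype_injective R), subgroupOf_map_subtype,
        inf_eq_left.2 le_sup_left]
    rw [hcalc]
    exact hdvd.trans (relIndex_dvd_of_le_left P hS)
  have htT : t ∉ P ⊓ (S : Subgroup G) := fun hm => hcd (by rw [← (mem_pairStab.1 hm.1).1, htc])
  have hidx : (P ⊓ (S : Subgroup G)).relIndex (S : Subgroup G) = 2 := by
    have h1 := h.card_sylow hcd hT S
    have h2 := Grp.card_mul_relIndex (inf_le_right : P ⊓ (S : Subgroup G) ≤ (S : Subgroup G))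
    rw [h1, mul_comm 2] at h2
    exact Nat.eq_of_mul_eq_mul_left Nat.card_pos h2
  refine ⟨P ⊓ (S : Subgroup G), S, hT, inf_le_right, htS, htT, hidx, fun x hx y hy => ?_, rfl⟩
  haveI : ((P ⊓ (S : Subgroup G)).subgroupOf (S : Subgroup G)).Normal := Subgroup.normal_of_index_eq_two hidx
  exact this.conj_mem ⟨y, hy.2⟩ hy ⟨x, hx⟩

/-- A 2-group acting freely on an invariant set has order dividing its size. -/
theorem free_dvd {Q : Subgroup G} (P : Set Ω) (hP : ∀ q ∈ Q, ∀ c ∈ P, q • c ∈ P)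
    (hfree : ∀ q ∈ Q, ∀ c ∈ P, q • c = c → q = 1) : Nat.card ↥Q ∣ Nat.card ↥P := by
  letI : MulAction ↥Q ↥P :=
    { smul := fun q c => ⟨(q : G) • (c : Ω), hP q q.2 c c.2⟩
      one_smul := fun c => Subtype.ext (one_smul G (c : Ω))
      mul_smul := fun q r c => Subtype.ext (mul_smul (q : G) (r : G) (c : Ω)) }
  have hstab : ∀ c : ↥P, stabilizer ↥Q c = ⊥ := fun c => by
    refine (eq_bot_iff_forall _).2 fun q hq => Subtype.ext (hfree q q.2 c c.2 ?_)
    exact congrArg Subtype.val (mem_stabilizer_iff.1 hq)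
  classical
  haveI := Fintype.ofFinite ↥Q
  rw [Nat.card_congr (MulAction.selfEquivSigmaOrbits ↥Q ↥P), Nat.card_sigma]
  refine Finset.dvd_sum fun o _ => ?_
  rw [Nat.card_coe_set_eq, ← index_stabilizer, hstab, index_bot]

/-- An involution fixes an even number of points of an invariant set of even size. -/
theorem even_fixed {t : G} (ht : t * t = 1) (P : Set Ω) (hP : ∀ c ∈ P, t • c ∈ P) (he : 2 ∣ Nat.card ↥P) :
    2 ∣ Nat.card ↥(P ∩ Fx Ω t) := by
  by_cases ht1 : t = 1
  · subst ht1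
    rwa [show P ∩ Fx Ω (1 : G) = P from Set.inter_eq_left.2 fun c _ => one_smul G c]
  have hinv : t⁻¹ = t := inv_eq_of_mul_eq_one_right ht
  have hpow : ∀ q ∈ zpowers t, q = 1 ∨ q = t := by
    intro q hq
    obtain ⟨i, rfl⟩ := mem_zpowers_iff.1 hq
    rcases Int.even_or_odd i with ⟨j, rfl⟩ | ⟨j, rfl⟩
    · left
      rw [← two_mul, _root_.zpow_mul, zpow_two, ht, _root_.one_zpow]
    · right
      rw [zpow_add_one, _root_.zpow_mul, zpow_two, ht, _root_.one_zpow, one_mul]
  letI : MulAction ↥(zpowers t) ↥P :=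
    { smul := fun q c => ⟨(q : G) • (c : Ω), by
        rcases hpow q q.2 with e | e <;> rw [e]
        · rw [one_smul]; exact c.2
        · exact hP c c.2⟩
      one_smul := fun c => Subtype.ext (one_smul G (c : Ω))
      mul_smul := fun q r c => Subtype.ext (mul_smul (q : G) (r : G) (c : Ω)) }
  haveI : Fact (Nat.Prime 2) := ⟨Nat.prime_two⟩
  have h1 := (isPGroup_zpowers_of_orderOf (orderOf_eq_prime (by rw [pow_two, ht]) ht1)).card_modEq_card_fixedPoints ↥P
  have h2 : Nat.card ↥(fixedPoints ↥(zpowers t) ↥P) = Nat.card ↥(P ∩ Fx Ω t) := Nat.card_congr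
    { toFun := fun c => ⟨(c.1 : Ω), c.1.2, congrArg Subtype.val (c.2 ⟨t, mem_zpowers t⟩)⟩
      invFun := fun c => ⟨⟨(c : Ω), c.2.1⟩, fun q => Subtype.ext (by
        rcases hpow q q.2 with e | e
        · show (q : G) • (c : Ω) = c
          rw [e, one_smul]
        · show (q : G) • (c : Ω) = c
          rw [e]; exact c.2.2)⟩
      left_inv := fun c => rfl
      right_inv := fun c => rfl }
  rw [h2] at h1
  unfold Nat.ModEq at h1
  omega

end Cfsg.Agent.Fus.TwoModFour
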