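import Cfsg.Agent.Lib.Fus.TwoModFour.Basic

/-!
# Simple doubly transitive groups of degree 2 mod 4

Involutions are even permutations, so they fix 2 mod 4 points; hence every class of involutions meets a
Sylow 2-subgroup `T` of a two-point stabiliser and also the complement of `T` in a Sylow 2-subgroup of the
group containing it.
-/

set_option autoImplicit false
set_option linter.unusedSectionVars false
set_option linter.style.haveILetI false

namespace Cfsg.Agent.Fus.TwoModFour

open MulAction Subgroup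
open scoped Pointwise
open Cfsg.Agent.Perm.TwoStab (pairStab Fx mem_Fx mem_pairStab)
open Cfsg.Agent.Grp (IsSylowIn)

universe u v

variable {G : Type u} [Group G] [Finite G] {Ω : Type v} [Fintype Ω] [MulAction G Ω] [FaithfulSMul G Ω]

/-- The group is not commutative. -/
theorem Deg.not_comm (h : Deg G Ω) : ¬ IsMulCommutative G := by
  intro hc
  obtain ⟨a, b, hab⟩ := Fintype.exists_pair_of_one_lt_card (show 1 < Fintype.card Ω by have := h.gt; omega)
  obtain ⟨c, hca, hcb⟩ : ∃ c : Ω, c ≠ a ∧ c ≠ b := by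
    by_contra hno
    push Not at hno
    classical
    have hsub : (Finset.univ : Finset Ω) ⊆ {a, b} := fun c _ => by
      by_cases hca : c = a
      · simp [hca]
      · simp [hno c hca]
    have hle : (Finset.univ : Finset Ω).card ≤ ({a, b} : Finset Ω).card := Finset.card_le_card hsub
    rw [Finset.card_univ] at hle
    have := (Finset.card_le_two (a := a) (b := b))
    have := h.gt
    omega
  obtain ⟨g, hga, hgb⟩ := h.move hab hca.symm
  have hg1 : g = 1 := eq_of_smul_eq_smul fun ω : Ω => by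
    rw [one_smul]
    rcases eq_or_ne ω a with rfl | hω
    · exact hga
    obtain ⟨k, hka, -⟩ := h.move hab hω
    rw [← hka, ← mul_smul, hc.is_comm.comm g k, mul_smul, hga]
  rw [hg1, one_smul] at hgb
  exact hcb hgb.symm

variable [IsSimpleGroup G]

/-- All elements act as even permutations. -/
theorem Deg.sign_eq_one (h : Deg G Ω) [DecidableEq Ω] (g : G) :
    Equiv.Perm.sign (MulAction.toPermHom G Ω g) = 1 := by
  let φ : G →* ℤˣ := Equiv.Perm.sign.comp (MulAction.toPermHom G Ω)
  rcases (φ.normal_ker).eq_bot_or_eq_top with hk | hk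
  · refine absurd ⟨⟨fun x y => ?_⟩⟩ h.not_comm
    exact (MonoidHom.ker_eq_bot_iff φ).1 hk (by rw [map_mul, map_mul, mul_comm])
  · exact MonoidHom.mem_ker.1 (hk ▸ Subgroup.mem_top g : g ∈ φ.ker)

/-- An involution fixes 2 mod 4 points. -/
theorem Deg.fixed_mod (h : Deg G Ω) {t : G} (ht : orderOf t = 2) : Nat.card ↥(Fx Ω t) % 4 = 2 := by
  classical
  have hs := h.sign_eq_one t
  have hsq : MulAction.toPermHom G Ω t ^ 2 = 1 := by rw [← map_pow, ← ht, pow_orderOf_eq_one, map_one]
  rw [Equiv.Perm.sign_of_pow_two_eq_one hsq] at hs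
  have hf : Fintype.card (Function.fixedPoints ⇑(MulAction.toPermHom G Ω t)) = Nat.card ↥(Fx Ω t) := by
    rw [← Nat.card_eq_fintype_card]
    rfl
  rw [hf] at hs
  have he : Even ((Fintype.card Ω - Nat.card ↥(Fx Ω t)) / 2) := by
    by_contra hne
    rw [Nat.not_even_iff_odd] at hne
    rw [hne.neg_one_pow] at hs
    exact absurd hs (by decide)
  have h2 := even_fixed (mul_self_of_orderOf ht) (Set.univ : Set Ω) (fun _ _ => trivial) (by
    rw [Nat.card_congr (Equiv.Set.univ Ω), Nat.card_eq_fintype_card]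
    have := h.mod
    omega)
  rw [Set.univ_inter] at h2
  have hle : Nat.card ↥(Fx Ω t) ≤ Fintype.card Ω := by
    rw [← Nat.card_eq_fintype_card]
    exact Nat.card_le_card_of_injective _ Subtype.val_injective
  have := h.mod
  rw [Nat.even_iff] at he
  omega

/-- An involution fixes two points. -/
theorem Deg.exists_fixed_pair (h : Deg G Ω) {t : G} (ht : orderOf t = 2) :
    ∃ c d : Ω, c ≠ d ∧ t • c = c ∧ t • d = d := by
  have h2 := h.fixed_mod ht
  rw [Nat.card_coe_set_eq] at h2
  obtain ⟨c, hc, d, hd, hne⟩ := (Set.one_lt_ncard (hs := Set.toFinite (Fx Ω t))).1 (by omega)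
  exact ⟨c, d, hne, hc, hd⟩

/-- A Sylow 2-subgroup of a two-point stabiliser inside one of the group. -/
structure Frame (a b : Ω) (T : Subgroup G) (S : Sylow 2 G) : Prop where
  ne : a ≠ b
  syl : IsSylowIn 2 T (pairStab G a b)
  le : T ≤ (S : Subgroup G)

theorem Deg.exists_frame (h : Deg G Ω) : ∃ (a b : Ω) (T : Subgroup G) (S : Sylow 2 G), Frame a b T S := by
  haveI : Fact (Nat.Prime 2) := ⟨Nat.prime_two⟩
  obtain ⟨a, b, hab⟩ := Fintype.exists_pair_of_one_lt_card (show 1 < Fintype.card Ω by have := h.gt; omega)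
  obtain ⟨T, hT⟩ := Grp.exists_isSylowIn 2 (pairStab G a b)
  obtain ⟨S, hS⟩ := hT.2.1.exists_le_sylow
  exact ⟨a, b, T, S, hab, hT, hS⟩

namespace Frame

variable {a b : Ω} {T : Subgroup G} {S : Sylow 2 G}

theorem relIndex (F : Frame a b T S) (h : Deg G Ω) : T.relIndex (S : Subgroup G) = 2 := by
  have h1 := Grp.card_mul_relIndex F.le
  rw [h.card_sylow F.ne F.syl S, mul_comm 2] at h1
  exact Nat.eq_of_mul_eq_mul_left Nat.card_pos h1

theorem normal_mem (F : Frame a b T S) (h : Deg G Ω) {x y : G} (hx : x ∈ (S : Subgroup G)) (hy : y ∈ T) :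
    x * y * x⁻¹ ∈ T := by
  haveI : (T.subgroupOf (S : Subgroup G)).Normal := Subgroup.normal_of_index_eq_two (F.relIndex h)
  exact this.conj_mem ⟨y, F.le hy⟩ hy ⟨x, hx⟩

theorem le_normalizer (F : Frame a b T S) (h : Deg G Ω) : (S : Subgroup G) ≤ normalizer (T : Set G) :=
  fun x hx => mem_normalizer_iff.2 fun y => ⟨fun hy => F.normal_mem h hx hy, fun hy => by
    have := F.normal_mem h (inv_mem hx) hy
    simpa [mul_assoc] using this⟩

/-- An element conjugate into the Sylow subgroup outside `T`. -/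
theorem exists_conj_outside (F : Frame a b T S) (h : Deg G Ω) {t : G} (ht : orderOf t = 2) :
    ∃ g : G, g * t * g⁻¹ ∈ (S : Subgroup G) ∧ g * t * g⁻¹ ∉ T := by
  haveI : Fact (Nat.Prime 2) := ⟨Nat.prime_two⟩
  obtain ⟨c, hc⟩ : ∃ c : Ω, t • c ≠ c := by
    by_contra hno
    push Not at hno
    have h1 : t = 1 := eq_of_smul_eq_smul fun c : Ω => by rw [hno c, one_smul]
    rw [h1, orderOf_one] at ht
    omega
  obtain ⟨T', S', hT', hTS', htS, htT, -, hnorm, -⟩ := h.exists_swapped_sylow (Ne.symm hc) ht rfl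
  obtain ⟨g, -, -, e⟩ := h.exists_conj (Ne.symm hc) F.ne hT' F.syl
  have hgS : MulAut.conj g • (S' : Subgroup G) ≤ normalizer (T : Set G) := by
    intro x hx
    rw [← e]
    obtain ⟨z, hz, rfl⟩ := (Subgroup.mem_smul_pointwise_iff_exists _ _ _).1 hx
    have hzn : z ∈ normalizer (T' : Set G) := mem_normalizer_iff.2 fun y => ⟨fun hy => hnorm z hz y hy, fun hy => by
      have := hnorm z⁻¹ (inv_mem hz) _ hy
      simpa [mul_assoc] using this⟩
    rw [Grp.mem_normalizer_iff_smul] at hzn ⊢
    rw [MulAut.smul_def, MulAut.conj_apply, ← mul_smul, ← map_mul, inv_mul_cancel_right, map_mul, mul_smul, hzn]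
  obtain ⟨k, hkN, hk⟩ := (Grp.isSylowIn_iff.2 ⟨((g • S' : Sylow 2 G)).subtype hgS, by
      rw [Sylow.coe_subtype, subgroupOf_map_subtype, Sylow.coe_subgroup_smul]
      exact inf_eq_left.2 hgS⟩ :
      IsSylowIn 2 (MulAut.conj g • (S' : Subgroup G)) (normalizer (T : Set G))).conj
    (Grp.isSylowIn_iff.2 ⟨S.subtype (F.le_normalizer h), by
      rw [Sylow.coe_subtype, subgroupOf_map_subtype, inf_eq_left.2 (F.le_normalizer h)]⟩)
  refine ⟨k * g, ?_, fun hm => htT ?_⟩
  · rw [← hk]
    have := Subgroup.smul_mem_pointwise_smul t (MulAut.conj (k * g)) (S' : Subgroup G) htS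
    rw [map_mul, mul_smul, mul_smul] at this
    convert this using 1
    simp [MulAut.smul_def, mul_assoc]
  · have hkT : MulAut.conj k • T = T := (Grp.mem_normalizer_iff_smul.1 hkN)
    rw [← hkT, ← e, ← mul_smul, ← map_mul, Subgroup.mem_pointwise_smul_iff_inv_smul_mem, ← map_inv,
      MulAut.smul_def, MulAut.conj_apply, inv_inv] at hm
    simpa [mul_assoc] using hm

/-- An element conjugate into `T`. -/
theorem exists_conj_inside (F : Frame a b T S) (h : Deg G Ω) {t : G} (ht : orderOf t = 2) :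
    ∃ g : G, g * t * g⁻¹ ∈ T := by
  obtain ⟨c, d, hcd, hc, hd⟩ := h.exists_fixed_pair ht
  obtain ⟨T', hT', hle⟩ := exists_sylowIn_ge c d (isPGroup_zpowers_of_orderOf ht) (zpowers_le.2 ⟨hc, hd⟩)
  obtain ⟨g, -, -, e⟩ := h.exists_conj hcd F.ne hT' F.syl
  exact ⟨g, e ▸ Subgroup.smul_mem_pointwise_smul t (MulAut.conj g) T' (hle (mem_zpowers t))⟩

end Frame

end Cfsg.Agent.Fus.TwoModFour
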