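import Mathlib.GroupTheory.SpecificGroups.Alternating
import Mathlib.GroupTheory.SpecificGroups.Dihedral
import Mathlib.LinearAlgebra.Matrix.ProjectiveSpecialLinearGroup
import Cfsg.Prelude.Def_Classical
import Cfsg.Prelude.Def_CaseTheorems
import Cfsg.Agent.Lib.Fus.TwoModFour.Simple

/-!
# Interface of the identification step for doubly transitive groups of degree `2 mod 4`
-/

set_option autoImplicit false

open MulAction Subgroup

namespace Cfsg.Agent.Fus.TwoModFour

universe u v

/-- The conclusion about the simple doubly transitive group. -/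
def Concl (G : Type u) [Group G] (Ω : Type v) [Fintype Ω] : Prop :=
  (Fintype.card Ω = 6 ∧ Nonempty (G ≃* ↥(alternatingGroup (Fin 6)))) ∨
    (∃ (F : Type) (_ : Field F) (_ : Fintype F), 4 ≤ Fintype.card F ∧ Fintype.card Ω = Fintype.card F + 1 ∧
      Nonempty (G ≃* Matrix.ProjectiveSpecialLinearGroup (Fin 2) F)) ∨
    (∃ (F : Type) (_ : Field F) (_ : Fintype F) (q : ℕ), Fintype.card F = q ^ 2 ∧ 2 < q ∧
      Fintype.card Ω = q ^ 3 + 1 ∧ Nonempty (G ≃* Cfsg.PSU 3 F q))

/-- A simple group in this situation with dihedral, quasi-dihedral, or wreathed Sylow `2`-subgroups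
(the last with abelian two-point Sylow subgroup) is one of the listed groups. -/
def IdentStmt : Prop :=
  ∀ (G : Type u) [Group G] [Finite G] [IsSimpleGroup G] (Ω : Type v) [Fintype Ω] [MulAction G Ω]
    [FaithfulSMul G Ω], Deg G Ω →
    ∀ (a b : Ω) (T : Subgroup G) (S : Sylow 2 G), Frame a b T S →
      ((∃ k : ℕ, 2 ≤ k ∧ Nonempty ((S : Subgroup G) ≃* DihedralGroup k)) ∨
        Cfsg.IsQuasiDihedral (S : Subgroup G) ∨
        (Cfsg.IsWreathed (S : Subgroup G) ∧ ∀ x ∈ T, ∀ y ∈ T, x * y = y * x)) →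
      Concl G Ω

end Cfsg.Agent.Fus.TwoModFour
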