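import Cfsg.Agent.Lib.Fus.TwoModFour.Basic
import Cfsg.Agent.Lib.Transfer.MaxClass
import Cfsg.Agent.Lib.Grp.Frattini

/-!
# An involution fixing all points fixed in the two-point Sylow subgroup

If `u` fixes every point fixed by a non-identity element of a Sylow 2-subgroup of a two-point stabiliser,
then the involution `u` has a centraliser of order four in a Sylow 2-subgroup of the group, which is
therefore of order four or of maximal class.
-/

set_option autoImplicit false
set_option linter.unusedSectionVars false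
set_option linter.style.haveILetI false

namespace Cfsg.Agent.Fus.TwoModFour

open MulAction Subgroup
open scoped Pointwise
open Cfsg.Agent.Perm.TwoStab (pairStab Fx mem_Fx mem_pairStab)
open Cfsg.Agent.Grp (IsSylowIn)

universe u v

variable {G : Type u} [Group G] [Finite G] {Ω : Type v} [Fintype Ω] [MulAction G Ω]

/-- `x` fixes every point fixed by a non-identity element of the Sylow 2-subgroup `T` of the stabiliser
of `c` and `d`. -/
structure Spec (c d : Ω) (T : Subgroup G) (x : G) : Prop where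
  ne : c ≠ d
  syl : IsSylowIn 2 T (pairStab G c d)
  mem : x ∈ T
  ord : orderOf x = 2
  top : ∀ y ∈ T, y ≠ 1 → ∀ ω : Ω, y • ω = ω → x • ω = ω

theorem Spec.ne_one {c d : Ω} {T : Subgroup G} {x : G} (s : Spec c d T x) : x ≠ 1 := fun e => by
  have := s.ord
  rw [e, orderOf_one] at this
  omega

theorem Spec.subset {c d : Ω} {T : Subgroup G} {x : G} (s : Spec c d T x) {y : G} (hy : y ∈ T)
    (hy1 : y ≠ 1) : Fx Ω y ⊆ Fx Ω x := fun ω hω => s.top y hy hy1 ω hω

theorem Spec.fst {c d : Ω} {T : Subgroup G} {x : G} (s : Spec c d T x) : x • c = c :=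
  (mem_pairStab.1 (s.syl.1 s.mem)).1

theorem Spec.snd {c d : Ω} {T : Subgroup G} {x : G} (s : Spec c d T x) : x • d = d :=
  (mem_pairStab.1 (s.syl.1 s.mem)).2

theorem Spec.unique {c d : Ω} {T : Subgroup G} {x y : G} (s : Spec c d T x) (s' : Spec c d T y) :
    Fx Ω x = Fx Ω y :=
  Set.Subset.antisymm (s'.subset s.mem s.ne_one) (s.subset s'.mem s'.ne_one)

theorem card_Fx_conj (g x : G) : Nat.card ↥(Fx Ω (g * x * g⁻¹)) = Nat.card ↥(Fx Ω x) :=
  Nat.card_congr
    { toFun := fun ω => ⟨g⁻¹ • (ω : Ω), by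
        have h := mem_Fx.1 ω.2
        rw [mem_Fx]
        nth_rewrite 2 [← h]
        rw [mul_smul, mul_smul, inv_smul_smul]⟩
      invFun := fun ω => ⟨g • (ω : Ω), by
        rw [mem_Fx, mul_smul, mul_smul, inv_smul_smul, mem_Fx.1 ω.2]⟩
      left_inv := fun ω => Subtype.ext (smul_inv_smul g (ω : Ω))
      right_inv := fun ω => Subtype.ext (inv_smul_smul g (ω : Ω)) }

theorem Spec.conj {c d : Ω} {T : Subgroup G} {x : G} (s : Spec c d T x) (g : G) :
    Spec (g • c) (g • d) (MulAut.conj g • T) (g * x * g⁻¹) where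
  ne := fun e => s.ne (smul_left_cancel g e)
  syl := sylowIn_smul g s.syl
  mem := Subgroup.smul_mem_pointwise_smul x (MulAut.conj g) T s.mem
  ord := by
    rw [show g * x * g⁻¹ = (MulAut.conj g).toMonoidHom x from rfl,
      orderOf_injective (MulAut.conj g).toMonoidHom (MulAut.conj g).injective, s.ord]
  top := by
    intro y hy hy1 ω hω
    rw [Subgroup.mem_pointwise_smul_iff_inv_smul_mem, ← map_inv, MulAut.smul_def, MulAut.conj_apply,
      inv_inv] at hy
    have h := s.top _ hy (fun e => hy1 (by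
      have := congrArg (fun z => g * z * g⁻¹) e
      simpa [mul_assoc] using this)) (g⁻¹ • ω) (by rw [mul_smul, mul_smul, smul_inv_smul, hω])
    rw [mul_smul, mul_smul, h, smul_inv_smul]

theorem Spec.exists_other (h : Deg G Ω) {a b c d : Ω} {T T' : Subgroup G} {x : G} (s : Spec a b T x)
    (hcd : c ≠ d) (hT' : IsSylowIn 2 T' (pairStab G c d)) :
    ∃ y, Spec c d T' y ∧ Nat.card ↥(Fx Ω y) = Nat.card ↥(Fx Ω x) := by
  obtain ⟨g, hga, hgb, e⟩ := h.exists_conj s.ne hcd s.syl hT'
  refine ⟨g * x * g⁻¹, ?_, card_Fx_conj g x⟩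
  have := s.conj g
  rwa [hga, hgb, e] at this

theorem Spec.card_eq (h : Deg G Ω) {a b c d : Ω} {T T' : Subgroup G} {x y : G} (s : Spec a b T x)
    (s' : Spec c d T' y) : Nat.card ↥(Fx Ω x) = Nat.card ↥(Fx Ω y) := by
  obtain ⟨z, sz, hz⟩ := s.exists_other h s'.ne s'.syl
  rw [← hz, sz.unique s']

/-- The points fixed by two commuting special involutions. -/
theorem Spec.disjoint (h : Deg G Ω) {a b c d : Ω} {T T' : Subgroup G} {x y : G} (s : Spec a b T x)
    (s' : Spec c d T' y) (hxy : x * y = y * x) (hne : Fx Ω x ≠ Fx Ω y) (ω : Ω) (hx : x • ω = ω) :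
    y • ω ≠ ω := by
  intro hy
  haveI : Fact (Nat.Prime 2) := ⟨Nat.prime_two⟩
  -- a second common fixed point
  have hn : 2 ∣ Nat.card ↥(Set.univ : Set Ω) := by
    rw [Nat.card_congr (Equiv.Set.univ Ω), Nat.card_eq_fintype_card]
    have := h.mod
    omega
  have hfx : 2 ∣ Nat.card ↥(Fx Ω x) := by
    have := even_fixed (mul_self_of_orderOf s.ord) (Set.univ : Set Ω) (fun _ _ => trivial) hn
    rwa [Set.univ_inter] at this
  have hinv : ∀ e ∈ Fx Ω x, y • e ∈ Fx Ω x := fun e he => by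
    rw [mem_Fx, ← mul_smul, hxy, mul_smul, mem_Fx.1 he]
  have h2 := even_fixed (mul_self_of_orderOf s'.ord) (Fx Ω x) hinv hfx
  obtain ⟨e, he, hne'⟩ : ∃ e, e ∈ Fx Ω x ∩ Fx Ω y ∧ ω ≠ e := by
    by_contra hno
    push Not at hno
    have : Fx Ω x ∩ Fx Ω y = {ω} := Set.eq_singleton_iff_unique_mem.2 ⟨⟨hx, hy⟩, fun e he => (hno e he).symm⟩
    rw [this, Nat.card_coe_set_eq, Set.ncard_singleton] at h2
    omega
  -- both lie in one Sylow subgroup of the stabiliser
  let P : Subgroup G := closure {x, y}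
  have hcx : x ∈ centralizer ({x, y} : Set G) := mem_centralizer_iff.2 (by
    rintro z (rfl | rfl)
    · rfl
    · exact hxy.symm)
  have hcy : y ∈ centralizer ({x, y} : Set G) := mem_centralizer_iff.2 (by
    rintro z (rfl | rfl)
    · exact hxy
    · rfl)
  have hPle : P ≤ pairStab G ω e := (closure_le _).2 (by
    rintro z (rfl | rfl)
    · exact ⟨hx, he.1⟩
    · exact ⟨hy, he.2⟩)
  have hP : IsPGroup 2 ↥P := by
    have hcomm : ∀ p q : ↥P, p * q = q * p := fun p q => Subtype.ext (by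
      have h1 : P ≤ centralizer ({x, y} : Set G) := (closure_le _).2 (by
        rintro z (rfl | rfl)
        exacts [hcx, hcy])
      have h2 : P ≤ centralizer (P : Set G) := (closure_le _).2 fun z hz =>
        mem_centralizer_iff.2 fun w hw => (mem_centralizer_iff.1 (h1 hw) z hz).symm
      exact (mem_centralizer_iff.1 (h2 q.2) p p.2))
    have hsq : ∀ z ∈ P, z * z = 1 := fun z hz => by
      induction hz using closure_induction with
      | mem z hz =>
        rcases hz with rfl | rfl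
        exacts [mul_self_of_orderOf s.ord, mul_self_of_orderOf s'.ord]
      | one => exact one_mul _
      | mul z w hz hw ihz ihw =>
        show z * w * (z * w) = 1
        rw [mul_assoc, ← mul_assoc w, show w * z = z * w from congrArg Subtype.val (hcomm ⟨w, hw⟩ ⟨z, hz⟩),
          mul_assoc z w w, ihw, mul_one, ihz]
      | inv z hz ih =>
        show z⁻¹ * z⁻¹ = 1
        rw [← mul_inv_rev, ih, inv_one]
    exact fun p => ⟨1, Subtype.ext (by rw [pow_one, pow_two]; exact hsq p p.2)⟩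
  obtain ⟨T₁, hT₁, hle⟩ := exists_sylowIn_ge ω e hP hPle
  obtain ⟨z, sz, hz⟩ := s.exists_other h hne' hT₁
  have e1 : Fx Ω x = Fx Ω z := by
    refine Set.eq_of_subset_of_ncard_le (sz.subset (hle (subset_closure (Or.inl rfl))) s.ne_one) ?_ (Set.toFinite _)
    rw [← Nat.card_coe_set_eq, ← Nat.card_coe_set_eq, hz]
  have e2 : Fx Ω y = Fx Ω z := by
    refine Set.eq_of_subset_of_ncard_le (sz.subset (hle (subset_closure (Or.inr rfl))) s'.ne_one) ?_ (Set.toFinite _)
    rw [← Nat.card_coe_set_eq, ← Nat.card_coe_set_eq, hz, s.card_eq h s']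
  exact hne (e1.trans e2.symm)

/-- The Sylow 2-subgroup has order four or is of maximal class. -/
def MaxShape (S : Type*) [Group S] : Prop :=
  Nat.card S = 4 ∨ ((commutator S).index = 4 ∧ commutator S ≠ ⊥)

theorem maxShape_congr {S S' : Type*} [Group S] [Group S'] (e : S ≃* S') (h : MaxShape S) : MaxShape S' := by
  have hc : (commutator S).map e.toMonoidHom = commutator S' := by
    rw [_root_.commutator_def, Subgroup.map_commutator, Subgroup.map_top_of_surjective _ e.surjective, _root_.commutator_def]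
  rcases h with h | ⟨h1, h2⟩
  · exact Or.inl (by rw [← Nat.card_congr e.toEquiv, h])
  · refine Or.inr ⟨?_, fun h0 => h2 ?_⟩
    · rw [← hc, Subgroup.index_map_of_bijective e.bijective, h1]
    · rw [← hc, Subgroup.map_eq_bot_iff_of_injective _ e.injective] at h0
      exact h0

/-- An involution with a centraliser of order four in a 2-group. -/
theorem maxShape_of_centralizer {S : Type*} [Group S] [Finite S] (hS : IsPGroup 2 S) (t : S)
    (hC : Nat.card ↥(centralizer ({t} : Set S)) = 4) : MaxShape S := by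
  haveI : Fact (Nat.Prime 2) := ⟨Nat.prime_two⟩
  obtain ⟨m, hm⟩ := IsPGroup.iff_card.1 hS
  have hle : 4 ≤ Nat.card S := hC ▸ Subgroup.card_le_card_group _
  rcases Nat.lt_or_ge m 3 with h3 | h3
  · left
    have h2 : 2 ^ m ≤ 2 ^ 2 := Nat.pow_le_pow_right two_pos (by omega)
    rw [hm] at hle ⊢
    omega
  right
  have hAA : centralizer ((centralizer ({t} : Set S) : Subgroup S) : Set S) = centralizer ({t} : Set S) := by
    refine le_antisymm (fun g hg => mem_centralizer_singleton_iff.2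
      (mem_centralizer_iff.1 hg t (mem_centralizer_singleton_iff.2 rfl)).symm) fun g hg => ?_
    refine mem_centralizer_iff.2 fun k hk => ?_
    exact congrArg Subtype.val ((IsPGroup.commGroupOfCardEqPrimeSq (p := 2) (G := ↥(centralizer ({t} : Set S))) hC).mul_comm
      ⟨k, hk⟩ ⟨g, hg⟩)
  exact Transfer.MaxClass.index_four_of_class h3 hm
    (Transfer.MaxClass.class_of_selfCentralizing m hm _ hC hAA)

variable [FaithfulSMul G Ω]

/-- The Sylow 2-subgroups of the group have order four or maximal class. -/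
theorem Spec.maxShape (h : Deg G Ω) {a b : Ω} {T : Subgroup G} {x : G} (s : Spec a b T x) (S₀ : Sylow 2 G) :
    MaxShape ↥(S₀ : Subgroup G) := by
  classical
  haveI : Fact (Nat.Prime 2) := ⟨Nat.prime_two⟩
  obtain ⟨c, hc⟩ : ∃ c : Ω, x • c ≠ c := by
    by_contra hno
    push Not at hno
    exact s.ne_one (eq_of_smul_eq_smul fun c : Ω => by rw [hno c, one_smul])
  obtain ⟨T', S, hT', hTS, hxS, hxT, hidx, hnorm, -⟩ := h.exists_swapped_sylow (Ne.symm hc) s.ord rfl
  obtain ⟨y, sy, -⟩ := s.exists_other h (Ne.symm hc) hT'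
  have hxx := mul_self_of_orderOf s.ord
  have hxi : x⁻¹ = x := inv_eq_of_mul_eq_one_right hxx
  -- the part fixing `Fx y` pointwise
  let R : Subgroup G :=
    { carrier := {g | g ∈ T' ∧ ∀ ω ∈ Fx Ω y, g • ω = ω}
      one_mem' := ⟨one_mem _, fun ω _ => one_smul G ω⟩
      mul_mem' := fun {p q} hp hq => ⟨mul_mem hp.1 hq.1, fun ω hω => by rw [mul_smul, hq.2 ω hω, hp.2 ω hω]⟩
      inv_mem' := fun {p} hp => ⟨inv_mem hp.1, fun ω hω => by rw [inv_smul_eq_iff, hp.2 ω hω]⟩ }
  have hinvY : ∀ g ∈ (S : Subgroup G), ∀ ω ∈ Fx Ω y, g • ω ∈ Fx Ω y := fun g hg ω hω => by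
    refine sy.subset (hnorm g hg y sy.mem) (fun e => sy.ne_one ?_) ?_
    · have := congrArg (fun z => g⁻¹ * z * g) e
      simpa [mul_assoc] using this
    · rw [mem_Fx, mul_smul, mul_smul, inv_smul_smul, mem_Fx.1 hω]
  haveI : Group.IsNilpotent ↥(S : Subgroup G) := S.isPGroup'.isNilpotent
  have hRn : (R.subgroupOf (S : Subgroup G)).Normal := ⟨fun r hr g => by
    refine ⟨hnorm g g.2 _ hr.1, fun ω hω => ?_⟩
    have h1 : (r : G) • ((g : G)⁻¹ • ω) = (g : G)⁻¹ • ω := hr.2 _ (hinvY _ (inv_mem g.2) ω hω)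
    show ((g : G) * (r : G) * (g : G)⁻¹) • ω = ω
    rw [mul_smul, mul_smul, h1, smul_inv_smul]⟩
  have hRne : R.subgroupOf (S : Subgroup G) ≠ ⊥ := fun e => sy.ne_one (by
    have : (⟨y, hTS sy.mem⟩ : ↥(S : Subgroup G)) ∈ R.subgroupOf (S : Subgroup G) :=
      ⟨sy.mem, fun ω hω => hω⟩
    rw [e, Subgroup.mem_bot] at this
    exact congrArg Subtype.val this)
  obtain ⟨⟨r, hr⟩, hr1⟩ : ∃ z : ↥(R.subgroupOf (S : Subgroup G) ⊓ center ↥(S : Subgroup G)), orderOf z = 2 := by
    refine exists_prime_orderOf_dvd_card' 2 ?_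
    obtain ⟨k, hk⟩ := IsPGroup.iff_card.1 (S.isPGroup'.to_subgroup (R.subgroupOf (S : Subgroup G) ⊓ center ↥(S : Subgroup G)))
    have hne := Grp.inf_center_ne_bot (R.subgroupOf (S : Subgroup G)) hRne
    rw [hk]
    rcases k with _ | k
    · exact absurd (Subgroup.card_eq_one.1 (by rw [hk, pow_zero])) hne
    · exact dvd_pow_self 2 k.succ_ne_zero
  rw [Subgroup.orderOf_mk, ← Subgroup.orderOf_coe] at hr1
  obtain ⟨⟨hrR, hrF⟩, hrZ⟩ := hr
  set y' : G := (r : G)
  have sy' : Spec c (x • c) T' y' :=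
    ⟨Ne.symm hc, hT', hrR, hr1, fun g hg hg1 ω hω => hrF ω (sy.subset hg hg1 hω)⟩
  have hcomm : ∀ g ∈ (S : Subgroup G), g * y' = y' * g := fun g hg =>
    congrArg Subtype.val (Subgroup.mem_center_iff.1 hrZ ⟨g, hg⟩)
  have hdis : ∀ ω, x • ω = ω → y' • ω ≠ ω := s.disjoint h sy' (hcomm x hxS) (fun e => hc (by
    have : c ∈ Fx Ω y' := sy'.fst
    rw [← e] at this
    exact this))
  -- the centraliser of `x` in `T'`
  let C : Subgroup G := T' ⊓ centralizer ({x} : Set G)
  have hyC : y' ∈ C := ⟨hrR, mem_centralizer_singleton_iff.2 (hcomm x hxS).symm⟩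
  have hCdvd : Nat.card ↥C ∣ Nat.card ↥(Fx Ω x) := by
    refine free_dvd _ (fun q hq ω hω => ?_) fun q hq ω hω hqω => ?_
    · rw [mem_Fx, ← mul_smul, ← mem_centralizer_singleton_iff.1 hq.2, mul_smul, mem_Fx.1 hω]
    · by_contra hq1
      exact hdis ω hω (sy'.top q hq.1 hq1 ω hqω)
  have hsemi : Nat.card ↥T' ∣ Fintype.card Ω - Nat.card ↥(Fx Ω y') := by
    have hd : Nat.card ↥T' ∣ Nat.card ↥((Fx Ω y')ᶜ) := by
      refine free_dvd _ (fun q hq ω hω hω' => ?_) fun q hq ω hω hqω => ?_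
      · refine hω ?_
        have h1 : y' • q • ω = q • ω := hω'
        rw [← mul_smul, ← hcomm q (hTS hq), mul_smul] at h1
        exact MulAction.injective q h1
      · by_contra hq1
        exact hω (sy'.top q hq hq1 ω hqω)
    rw [← Nat.card_eq_fintype_card]
    rwa [Nat.card_coe_set_eq ((Fx Ω y')ᶜ), Set.ncard_compl, ← Nat.card_coe_set_eq (Fx Ω y')] at hd
  have hC2 : Nat.card ↥C = 2 := by
    obtain ⟨k, hk⟩ := IsPGroup.iff_card.1 (hT'.2.1.to_le (inf_le_left : C ≤ T'))
    have h2 : 2 ≤ Nat.card ↥C := by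
      haveI : Nontrivial ↥C := ⟨⟨⟨y', hyC⟩, 1, fun e => sy'.ne_one (congrArg Subtype.val e)⟩⟩
      exact Finite.one_lt_card
    by_contra hne
    have h4 : 4 ∣ Nat.card ↥C := by
      rw [hk] at h2 hne ⊢
      rcases k with _ | _ | k
      · simp at h2
      · simp at hne
      · exact ⟨2 ^ k, by ring⟩
    have hCT := (h4.trans (Subgroup.card_dvd_of_le (inf_le_left : C ≤ T'))).trans hsemi
    rw [← s.card_eq h sy'] at hCT
    have hf := h4.trans hCdvd
    have hle : Nat.card ↥(Fx Ω x) ≤ Fintype.card Ω := by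
      rw [← Nat.card_eq_fintype_card]
      exact Nat.card_le_card_of_injective _ Subtype.val_injective
    have := h.mod
    omega
  -- the centraliser of `x` in `S`
  have hC4 : Nat.card ↥(centralizer ({(⟨x, hxS⟩ : ↥(S : Subgroup G))} : Set ↥(S : Subgroup G))) = 4 := by
    set D := centralizer ({(⟨x, hxS⟩ : ↥(S : Subgroup G))} : Set ↥(S : Subgroup G))
    have hDle : C ≤ D.map (S : Subgroup G).subtype := fun q hq =>
      ⟨⟨q, hTS hq.1⟩, mem_centralizer_singleton_iff.2 (Subtype.ext (mem_centralizer_singleton_iff.1 hq.2)), rfl⟩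
    have hrel : C.relIndex (D.map (S : Subgroup G).subtype) = 2 := by
      have hxD : x ∈ D.map (S : Subgroup G).subtype := ⟨⟨x, hxS⟩, mem_centralizer_singleton_iff.2 rfl, rfl⟩
      rw [Subgroup.relIndex_eq_two_iff]
      refine ⟨x, hxD, fun q hq => ?_⟩
      obtain ⟨q', hq', rfl⟩ := hq
      have hqc : (q' : G) * x = x * q' := congrArg Subtype.val (mem_centralizer_singleton_iff.1 hq')
      have hTidx : (q' : G) * x ∈ T' ↔ (q' : G) ∉ T' := by
        have hh := Subgroup.mul_mem_iff_of_index_two (H := T'.subgroupOf (S : Subgroup G)) hidx (a := q') (b := ⟨x, hxS⟩)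
        simp only [mem_subgroupOf, Subgroup.coe_mul] at hh
        rw [hh]
        exact ⟨fun hiff hq => hxT (hiff.1 hq), fun hq => iff_of_false hq hxT⟩
      have hcx : (q' : G) * x ∈ centralizer ({x} : Set G) ∧ (q' : G) ∈ centralizer ({x} : Set G) := by
        refine ⟨mem_centralizer_singleton_iff.2 ?_, mem_centralizer_singleton_iff.2 hqc⟩
        rw [mul_assoc, ← mul_assoc x, ← hqc, mul_assoc]
      show Xor' ((q' : G) * x ∈ C) ((q' : G) ∈ C)
      by_cases hq : (q' : G) ∈ T'
      · exact Or.inr ⟨⟨hq, hcx.2⟩, fun hm => (hTidx.1 hm.1) hq⟩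
      · exact Or.inl ⟨⟨hTidx.2 hq, hcx.1⟩, fun hm => hq hm.1⟩
    have := Grp.card_mul_relIndex hDle
    rw [hC2, hrel, Subgroup.card_map_of_injective (subtype_injective _)] at this
    omega
  exact maxShape_congr (S.equiv S₀) (maxShape_of_centralizer S.isPGroup' ⟨x, hxS⟩ hC4)

end Cfsg.Agent.Fus.TwoModFour
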