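import Cfsg.Agent.S3401
import Cfsg.Agent.Lib.Fus.TwoModFour.AbelCases
import Cfsg.Agent.Lib.Fus.TwoModFour.IdentDefs
import Cfsg.Agent.Lib.Fus.TwoModFour.MaxCase

/-!
# Assembly: the shape of the Sylow 2-subgroup of the minimal normal subgroup
-/

set_option autoImplicit false
set_option linter.unusedSectionVars false
set_option linter.style.haveILetI false

namespace Cfsg.Agent.Fus.TwoModFour

open MulAction Subgroup
open scoped Pointwise
open Cfsg.Agent.Perm.TwoStab (pairStab Fx mem_Fx mem_pairStab)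
open Cfsg.Agent.Grp (IsSylowIn)

universe u v

/-- A normal noncyclic subgroup of a 2-group of maximal class has order four or is of maximal class. -/
theorem maxShape_normal {S : Type u} [Group S] [Finite S] (hS : IsPGroup 2 S) (h4 : (commutator S).index = 4)
    (hne : commutator S ≠ ⊥) (N : Subgroup S) [N.Normal] (hcyc : ¬ IsCyclic ↥N) : MaxShape ↥N := by
  classical
  haveI : Fact (Nat.Prime 2) := ⟨Nat.prime_two⟩
  obtain ⟨k, a, x, ha, hidx, hx, hfix, -⟩ := Transfer.MaxClass.shape hS h4 hne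
  set A := zpowers a with hA
  haveI : A.Normal := Subgroup.normal_of_index_eq_two hidx
  set z := a ^ 2 ^ (k + 1) with hz
  have hz2 : orderOf z = 2 := by
    rw [hz, orderOf_pow' a (pow_ne_zero _ two_ne_zero), ha, show 2 ^ (k + 2) = 2 ^ (k + 1) * 2 from pow_succ 2 (k + 1),
      Nat.gcd_mul_right_left, Nat.mul_div_cancel_left _ (by positivity)]
  have hzA : z ∈ A := pow_mem (mem_zpowers a) _
  -- conjugation by elements outside the cyclic subgroup
  have hout : ∀ y, y ∉ A → ∀ u ∈ A, y * u * y⁻¹ = x * u * x⁻¹ := by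
    intro y hy u hu
    have hyx : x⁻¹ * y ∈ A := (Subgroup.mul_mem_iff_of_index_two hidx).2 (iff_of_false (by simpa using hx) hy)
    have hc : x⁻¹ * y * u = u * (x⁻¹ * y) := by
      obtain ⟨i, hi⟩ := mem_zpowers_iff.1 hyx
      obtain ⟨j, hj⟩ := mem_zpowers_iff.1 hu
      rw [← hi, ← hj]
      exact Commute.zpow_zpow_self a i j
    calc y * u * y⁻¹ = x * (x⁻¹ * y * u) * (x⁻¹ * y)⁻¹ * x⁻¹ := by group
      _ = x * u * x⁻¹ := by rw [hc]; group
  have hfix' : ∀ y, y ∉ A → ∀ u ∈ A, y * u = u * y → u = 1 ∨ u = z := fun y hy u hu h =>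
    hfix u hu (by rw [← hout y hy u hu, mul_inv_eq_iff_eq_mul]; exact h)
  have hzc : ∀ y : S, y * z = z * y := by
    intro y
    by_cases hy : y ∈ A
    · obtain ⟨i, rfl⟩ := mem_zpowers_iff.1 hy
      exact ((Commute.refl a).zpow_left i).pow_right _
    · have h1 : y * z * y⁻¹ ∈ A := (inferInstance : A.Normal).conj_mem z hzA y
      obtain ⟨i, hi⟩ := mem_zpowers_iff.1 h1
      -- the only involution of the cyclic subgroup
      haveI : IsCyclic ↥A := Subgroup.isCyclic_zpowers a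
      haveI := Fintype.ofFinite ↥A
      have h2 : orderOf (y * z * y⁻¹) = 2 := (MulEquiv.orderOf_eq (MulAut.conj y) z).trans hz2
      have hcard : (Finset.univ.filter fun u : ↥A => u ^ 2 = 1).card ≤ 2 := IsCyclic.card_pow_eq_one_le (by norm_num)
      by_contra hne'
      have h3 : ({(1 : ↥A), ⟨z, hzA⟩, ⟨y * z * y⁻¹, h1⟩} : Finset ↥A) ⊆
          Finset.univ.filter fun u : ↥A => u ^ 2 = 1 := by
        intro u hu
        simp only [Finset.mem_insert, Finset.mem_singleton] at hu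
        rw [Finset.mem_filter]
        refine ⟨Finset.mem_univ _, Subtype.ext ?_⟩
        rcases hu with rfl | rfl | rfl
        · simp
        · simp only [SubgroupClass.coe_pow]; exact orderOf_dvd_iff_pow_eq_one.1 (dvd_of_eq hz2)
        · simp only [SubgroupClass.coe_pow]; exact orderOf_dvd_iff_pow_eq_one.1 (dvd_of_eq h2)
      have e1 : (1 : ↥A) ≠ ⟨z, hzA⟩ := fun e => by
        rw [← show (1 : S) = z from congrArg Subtype.val e, orderOf_one] at hz2; omega
      have e2 : (1 : ↥A) ≠ ⟨y * z * y⁻¹, h1⟩ := fun e => by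
        rw [← show (1 : S) = y * z * y⁻¹ from congrArg Subtype.val e, orderOf_one] at h2; omega
      have e3 : (⟨z, hzA⟩ : ↥A) ≠ ⟨y * z * y⁻¹, h1⟩ := fun e => hne' (by
        have e' : z = y * z * y⁻¹ := congrArg Subtype.val e
        calc y * z = (y * z * y⁻¹) * y := by group
          _ = z * y := by rw [← e'])
      have h4' := Finset.card_le_card h3
      rw [Finset.card_insert_of_notMem (by simp [e1, e2]), Finset.card_pair e3] at h4'
      omega
  have hNne : N ≠ ⊥ := fun e => hcyc (e ▸ inferInstance)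
  haveI : Group.IsNilpotent S := hS.isNilpotent
  have hzN : z ∈ N := by
    obtain ⟨c, hc, hc1⟩ := (N ⊓ center S).bot_or_exists_ne_one.resolve_left (Grp.inf_center_ne_bot N hNne)
    have hcA : c ∈ A := by
      by_contra hcA
      rcases hfix' c hcA a (mem_zpowers a) (Subgroup.mem_center_iff.1 hc.2 a).symm with e | e
      · rw [e, orderOf_one] at ha
        exact absurd ha.symm (one_lt_pow₀ one_lt_two (by omega)).ne'
      · have h1 : orderOf a = 2 := by rw [e, hz2]
        have h3 : 2 ^ 2 ≤ 2 ^ (k + 2) := Nat.pow_le_pow_right two_pos (by omega)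
        omega
    rcases hfix' x hx c hcA (Subgroup.mem_center_iff.1 hc.2 x) with e | e
    · exact absurd e hc1
    · exact e ▸ hc.1
  obtain ⟨y, hyN, hyA⟩ : ∃ y ∈ N, y ∉ A := SetLike.not_le_iff_exists.1 fun hle =>
    hcyc (Subgroup.isCyclic_of_le hle)
  refine maxShape_of_centralizer (hS.to_subgroup N) ⟨y, hyN⟩ ?_
  set C := centralizer ({(⟨y, hyN⟩ : ↥N)} : Set ↥N)
  have hmem : ∀ c : ↥N, c ∈ C ↔ (c : S) * y = y * c := fun c =>
    mem_centralizer_singleton_iff.trans ⟨fun h => congrArg Subtype.val h, fun h => Subtype.ext h⟩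
  have h1 : (C : Set ↥N) = {1, ⟨z, hzN⟩, ⟨y, hyN⟩, ⟨z, hzN⟩ * ⟨y, hyN⟩} := by
    ext ⟨c, hc⟩
    simp only [SetLike.mem_coe, hmem, Set.mem_insert_iff, Set.mem_singleton_iff, Subtype.ext_iff,
      MulMemClass.coe_mul, OneMemClass.coe_one]
    constructor
    · intro h
      by_cases hcA : c ∈ A
      · rcases hfix' y hyA c hcA h.symm with e | e
        · exact Or.inl e
        · exact Or.inr (Or.inl e)
      · have hm : c * y⁻¹ ∈ A := (Subgroup.mul_mem_iff_of_index_two hidx).2 (iff_of_false hcA (by simpa using hyA))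
        have h' : y * (c * y⁻¹) = c * y⁻¹ * y := by
          rw [← mul_assoc, ← h, mul_inv_cancel_right, inv_mul_cancel_right]
        rcases hfix' y hyA _ hm h' with e | e
        · exact Or.inr (Or.inr (Or.inl (mul_inv_eq_one.1 e)))
        · exact Or.inr (Or.inr (Or.inr (mul_inv_eq_iff_eq_mul.1 e)))
    · rintro (rfl | rfl | rfl | rfl)
      · rw [one_mul, mul_one]
      · exact (hzc y).symm
      · rfl
      · rw [← mul_assoc y, hzc y, mul_assoc]
  have hy1 : y ≠ 1 := fun e => hyA (e ▸ one_mem A)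
  have hz1 : z ≠ 1 := fun e => by rw [e, orderOf_one] at hz2; omega
  have hyz : y ≠ z := fun e => hyA (e ▸ hzA)
  have hzy : z * y ≠ 1 := fun e => hyA (eq_inv_of_mul_eq_one_right e ▸ inv_mem hzA)
  change Nat.card ↥(C : Set ↥N) = 4
  rw [h1, Nat.card_coe_set_eq,
    Set.ncard_insert_of_notMem (by simp [Subtype.ext_iff, Ne.symm hz1, Ne.symm hy1, Ne.symm hzy]) (Set.toFinite _),
    Set.ncard_insert_of_notMem (by simp [Subtype.ext_iff, Ne.symm hyz, hy1]) (Set.toFinite _),
    Set.ncard_insert_of_notMem (by simp [Subtype.ext_iff, hz1]) (Set.toFinite _), Set.ncard_singleton]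

section Simple

variable {G : Type u} [Group G] [Finite G] {Ω : Type v} [Fintype Ω] [MulAction G Ω] [FaithfulSMul G Ω]
  [IsSimpleGroup G]

/-- The Sylow subgroup of order four or of maximal class is dihedral or quasi-dihedral. -/
theorem shape_of_maxShape (hna : ¬ IsMulCommutative G) (h : Deg G Ω) {a b : Ω} {T : Subgroup G} {S : Sylow 2 G}
    (F : Frame a b T S) (hm : MaxShape ↥(S : Subgroup G)) :
    (∃ k : ℕ, 2 ≤ k ∧ Nonempty ((S : Subgroup G) ≃* DihedralGroup k)) ∨
      Cfsg.IsQuasiDihedral (S : Subgroup G) := by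
  haveI : Fact (Nat.Prime 2) := ⟨Nat.prime_two⟩
  rcases hm with h4 | ⟨h4, hne⟩
  · exact Or.inl (four_of_abelian hna h F (IsPGroup.isMulCommutative_of_card_eq_prime_sq (p := 2) h4))
  obtain ⟨⟨w, hw, hwT, hw2⟩, t₀, ht₀, ht₀2⟩ := exists_involutions h F
  rcases Transfer.MaxClass.classify S.isPGroup' h4 hne with ⟨k, hk⟩ | ⟨k, hk, p, q, hp, hq, hpq⟩ | ⟨k, ⟨e⟩⟩
  · exact Or.inl ⟨_, le_trans (by norm_num) (Nat.pow_le_pow_right two_pos (Nat.le_add_left 2 k)), hk⟩
  · exact Or.inr ⟨k + 3, by omega, hk, p, q, hp, hq, hpq⟩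
  · exfalso
    haveI : NeZero (2 ^ (k + 1)) := ⟨by positivity⟩
    have hq : ∀ p : ↥(S : Subgroup G), orderOf p = 2 → e p = QuaternionGroup.a (2 ^ (k + 1) : ℕ) := fun p hp => by
      have h2 : orderOf (e p) = 2 := (MulEquiv.orderOf_eq e p).trans hp
      rcases hcase : e p with i | i
      · rw [hcase] at h2
        have h3 := pow_orderOf_eq_one (QuaternionGroup.a i)
        rw [h2] at h3
        rw [pow_two, QuaternionGroup.a_mul_a, QuaternionGroup.one_def, QuaternionGroup.a.injEq] at h3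
        refine congrArg QuaternionGroup.a ?_
        have hi : i ≠ 0 := fun h0 => by
          rw [h0, ← QuaternionGroup.one_def, orderOf_one] at h2; omega
        have hlt := ZMod.val_lt i
        have hdvd : 2 * 2 ^ (k + 1) ∣ i.val + i.val := by
          rw [← ZMod.natCast_eq_zero_iff, Nat.cast_add, ZMod.natCast_zmod_val, h3]
        have hpos : 0 < i.val := Nat.pos_of_ne_zero fun h0 => hi ((ZMod.val_eq_zero i).1 h0)
        obtain ⟨c, hc⟩ := hdvd
        have hc1 : c = 1 := by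
          rcases c with _ | _ | c
          · omega
          · rfl
          · have : 2 * 2 ^ (k + 1) * 2 ≤ 2 * 2 ^ (k + 1) * (c + 1 + 1) := Nat.mul_le_mul_left _ (by omega)
            omega
        rw [← ZMod.natCast_zmod_val i]
        congr 1
        rw [hc1] at hc; omega
      · rw [hcase, QuaternionGroup.orderOf_xa] at h2
        omega
    have h1 := hq ⟨w, hw⟩ (by rw [Subgroup.orderOf_mk]; exact hw2)
    have h2 := hq ⟨t₀, F.le ht₀⟩ (by rw [Subgroup.orderOf_mk]; exact ht₀2)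
    have e1 : w = t₀ := congrArg Subtype.val (e.injective (h1.trans h2.symm))
    exact hwT (e1 ▸ ht₀)

end Simple

variable {G : Type u} [Group G] [Finite G] {Ω : Type v} [Fintype Ω] [MulAction G Ω] [FaithfulSMul G Ω]

/-- The theorem, given the identification. -/
theorem main (hId : IdentStmt.{u, v}) (h2 : IsMultiplyPretransitive G Ω 2) (hn : Fintype.card Ω % 4 = 2)
    (hn2 : 2 < Fintype.card Ω) (a b : Ω) (hab : a ≠ b) (T : Sylow 2 ↥(stabilizer G a ⊓ stabilizer G b))
    (hT : IsMulCommutative ↥(T : Subgroup ↥(stabilizer G a ⊓ stabilizer G b)) ∨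
      ∃ u ∈ (T : Subgroup ↥(stabilizer G a ⊓ stabilizer G b)), orderOf u = 2 ∧
        ∀ x ∈ (T : Subgroup ↥(stabilizer G a ⊓ stabilizer G b)), x ≠ 1 → ∀ ω : Ω, (x : G) • ω = ω →
          (u : G) • ω = ω) :
    ∃ M : Subgroup G, M.Normal ∧ M ≠ ⊥ ∧ (∀ N : Subgroup G, N.Normal → N ≠ ⊥ → M ≤ N) ∧
      IsMultiplyPretransitive ↥M Ω 2 ∧ Concl ↥M Ω := by
  classical
  haveI : Fact (Nat.Prime 2) := ⟨Nat.prime_two⟩
  obtain ⟨M, hMn, hM1, hmin, hsimp, hM2, -⟩ := Cfsg.Agent.S3401.result h2 hn hn2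
  refine ⟨M, hMn, hM1, hmin, hM2, ?_⟩
  haveI := hMn
  haveI := hsimp
  haveI : FaithfulSMul ↥M Ω :=
    ⟨fun {p q} h => Subtype.ext (eq_of_smul_eq_smul (α := Ω) fun ω => h ω)⟩
  have hD : Deg G Ω := ⟨h2, hn, hn2⟩
  have hDM : Deg ↥M Ω := ⟨hM2, hn, hn2⟩
  have hna : ¬ IsMulCommutative ↥M := hDM.not_comm
  obtain ⟨a', b', T', S', F⟩ := hDM.exists_frame
  refine hId ↥M Ω hDM a' b' T' S' F ?_
  set T₁ : Subgroup G := (T : Subgroup ↥(stabilizer G a ⊓ stabilizer G b)).map (Subgroup.subtype _) with hT₁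
  have hsyl : IsSylowIn 2 T₁ (pairStab G a b) := Grp.isSylowIn_iff.2 ⟨T, rfl⟩
  rcases hT with hc | ⟨u, hu, hu2, htop⟩
  · -- `T` abelian
    have habT : ∀ p ∈ T', ∀ q ∈ T', p * q = q * p := by
      intro p hp q hq
      set P : Subgroup G := T'.map M.subtype
      have hPle : P ≤ pairStab G a' b' := by
        rintro _ ⟨r, hr, rfl⟩; exact F.syl.1 hr
      obtain ⟨T₂, hT₂, hle⟩ := exists_sylowIn_ge a' b' (F.syl.2.1.map M.subtype) hPle
      obtain ⟨g, -, -, e⟩ := hD.exists_conj hab F.ne hsyl hT₂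
      obtain ⟨p₁, hp₁, ep⟩ := (Subgroup.mem_smul_pointwise_iff_exists _ _ _).1 (e ▸ hle ⟨p, hp, rfl⟩)
      obtain ⟨q₁, hq₁, eq'⟩ := (Subgroup.mem_smul_pointwise_iff_exists _ _ _).1 (e ▸ hle ⟨q, hq, rfl⟩)
      obtain ⟨p₂, hp₂, rfl⟩ := hp₁
      obtain ⟨q₂, hq₂, rfl⟩ := hq₁
      have h1 : (p₂ : G) * q₂ = q₂ * p₂ :=
        congrArg (fun r : ↥(T : Subgroup ↥(stabilizer G a ⊓ stabilizer G b)) => ((r : ↥(stabilizer G a ⊓ stabilizer G b)) : G))
          (hc.is_comm.comm ⟨p₂, hp₂⟩ ⟨q₂, hq₂⟩)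
      refine Subtype.ext ?_
      show M.subtype p * M.subtype q = M.subtype q * M.subtype p
      rw [← ep, ← eq', ← smul_mul', ← smul_mul']
      exact congrArg _ h1
    rcases shape_of_abelian hna hDM F habT with h' | h' | h'
    · exact Or.inl h'
    · exact Or.inr (Or.inl h')
    · exact Or.inr (Or.inr ⟨h', habT⟩)
  · -- the special involution
    have hspec : Spec a b T₁ (u : G) :=
      { ne := hab
        syl := hsyl
        mem := ⟨u, hu, rfl⟩
        ord := by rw [Subgroup.orderOf_coe]; exact hu2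
        top := by
          rintro _ ⟨y, hy, rfl⟩ hy1 ω hω
          exact htop y hy (fun e => hy1 (by rw [e]; rfl)) ω hω }
    set P : Subgroup G := (S' : Subgroup ↥M).map M.subtype
    obtain ⟨S, hS⟩ := (S'.isPGroup'.map M.subtype).exists_le_sylow
    set N := M.subgroupOf (S : Subgroup G)
    haveI : N.Normal := hMn.subgroupOf _
    have hSM : ((S : Subgroup G).subgroupOf M) = (S' : Subgroup ↥M) :=
      S'.3 S.isPGroup'.comap_subtype fun x hx => hS ⟨x, hx, rfl⟩
    have hmem : ∀ x : ↥M, x ∈ (S' : Subgroup ↥M) ↔ (x : G) ∈ (S : Subgroup G) := fun x => by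
      rw [← hSM]; rfl
    let e : ↥(S' : Subgroup ↥M) ≃* ↥N :=
      { toFun := fun x => ⟨⟨((x : ↥M) : G), (hmem _).1 x.2⟩, (x : ↥M).2⟩
        invFun := fun x => ⟨⟨((x : ↥(S : Subgroup G)) : G), x.2⟩, (hmem _).2 (x : ↥(S : Subgroup G)).2⟩
        left_inv := fun x => rfl
        right_inv := fun x => rfl
        map_mul' := fun x y => rfl }
    obtain ⟨⟨w, hw, hwT, hw2⟩, t₀, ht₀, ht₀2⟩ := exists_involutions hDM F
    have hcyc : ¬ IsCyclic ↥(S' : Subgroup ↥M) := fun hc => by
      haveI := hc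
      haveI := Fintype.ofFinite ↥(S' : Subgroup ↥M)
      have hle : (Finset.univ.filter fun p : ↥(S' : Subgroup ↥M) => p ^ 2 = 1).card ≤ 2 :=
        IsCyclic.card_pow_eq_one_le (by norm_num)
      have h3 : ({1, ⟨w, hw⟩, ⟨t₀, F.le ht₀⟩} : Finset ↥(S' : Subgroup ↥M)) ⊆
          Finset.univ.filter fun p : ↥(S' : Subgroup ↥M) => p ^ 2 = 1 := by
        intro p hp
        simp only [Finset.mem_insert, Finset.mem_singleton] at hp
        rw [Finset.mem_filter]
        refine ⟨Finset.mem_univ _, Subtype.ext ?_⟩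
        rcases hp with rfl | rfl | rfl
        · simp
        · simp only [SubgroupClass.coe_pow]; exact orderOf_dvd_iff_pow_eq_one.1 (dvd_of_eq hw2)
        · simp only [SubgroupClass.coe_pow]; exact orderOf_dvd_iff_pow_eq_one.1 (dvd_of_eq ht₀2)
      have e1 : (1 : ↥(S' : Subgroup ↥M)) ≠ ⟨w, hw⟩ := fun e => hwT (by
        rw [← show (1 : ↥M) = w from congrArg Subtype.val e]; exact one_mem T')
      have e2 : (1 : ↥(S' : Subgroup ↥M)) ≠ ⟨t₀, F.le ht₀⟩ := fun e => by
        rw [← show (1 : ↥M) = t₀ from congrArg Subtype.val e, orderOf_one] at ht₀2; omega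
      have e3 : (⟨w, hw⟩ : ↥(S' : Subgroup ↥M)) ≠ ⟨t₀, F.le ht₀⟩ := fun e => hwT (by
        rw [show w = t₀ from congrArg Subtype.val e]; exact ht₀)
      have h4' := Finset.card_le_card h3
      rw [Finset.card_insert_of_notMem (by simp [e1, e2]), Finset.card_pair e3] at h4'
      omega
    have hm : MaxShape ↥(S' : Subgroup ↥M) := by
      refine maxShape_congr e.symm ?_
      rcases hspec.maxShape hD S with h4 | ⟨h4, hne⟩
      · refine Or.inl (le_antisymm (h4 ▸ Subgroup.card_le_card_group N) ?_)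
        rw [← Nat.card_congr e.toEquiv, hDM.card_sylow F.ne F.syl S']
        have : 2 ≤ Nat.card ↥T' := Nat.le_of_dvd Nat.card_pos (ht₀2 ▸ Subgroup.orderOf_dvd_natCard _ ht₀)
        omega
      · exact maxShape_normal S.isPGroup' h4 hne N fun hc => hcyc (isCyclic_of_surjective e.symm.toMonoidHom e.symm.surjective)
    rcases shape_of_maxShape hna hDM F hm with h' | h'
    · exact Or.inl h'
    · exact Or.inr (Or.inl h')

end Cfsg.Agent.Fus.TwoModFour
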