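import Cfsg.Agent.Lib.Invol.GW.Consumers.Dihedral
import Cfsg.Agent.Lib.Classical.DicksonMaxFacts
import Cfsg.Agent.S0799

/-!
# Subgroups of `L₂(q)` of index 2 mod 4 and order a multiple of the index less one

By Dickson's list the index is `q + 1`, or `q = 9` and the index is 6.
-/

set_option autoImplicit false
set_option linter.style.haveILetI false

namespace Cfsg.Agent.Fus.TwoModFour

open Subgroup

/-! ### Arithmetic -/

/-- The stabiliser in a Borel subgroup. -/
theorem borel_degree {q h n : ℕ} (hq : 5 ≤ q) (hhn : 2 * (h * n) = q * ((q - 1) * (q + 1)))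
    (hd : n - 1 ∣ h) (hb : 2 * h ∣ q * (q - 1)) (hn : 2 < n) : n = q + 1 := by
  obtain ⟨r, rfl⟩ : ∃ r, q = r + 1 := ⟨q - 1, by omega⟩
  rw [Nat.add_sub_cancel] at hhn hb
  obtain ⟨k, hk⟩ := hb
  obtain ⟨m, hm⟩ := hd
  have h0 : 0 < h := Nat.pos_of_ne_zero fun e => by
    subst e
    rw [zero_mul, mul_zero] at hhn
    rcases Nat.mul_eq_zero.1 hhn.symm with e | e
    · omega
    · rcases Nat.mul_eq_zero.1 e with e | e <;> omega
  have hn' : n = k * (r + 2) := by
    refine Nat.eq_of_mul_eq_mul_left (Nat.mul_pos two_pos h0) ?_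
    calc 2 * h * n = (r + 1) * r * (r + 2) := by rw [mul_assoc, hhn]; ring
      _ = 2 * h * (k * (r + 2)) := by rw [hk]; ring
  rcases Nat.lt_or_ge k 2 with hk2 | hk2
  · interval_cases k <;> omega
  exfalso
  obtain ⟨j, rfl⟩ : ∃ j, k = j + 2 := ⟨k - 2, by omega⟩
  have hn1 : n - 1 = (j + 2) * (r + 1) + (j + 1) := by
    rw [hn', show (j + 2) * (r + 2) = (j + 2) * (r + 1) + (j + 1) + 1 by ring, Nat.add_sub_cancel]
  rw [hn1] at hm
  subst hm
  have hexp : (r + 1) * r = (r + 1) * (2 * m * (j + 2) * (j + 2)) + 2 * m * (j + 1) * (j + 2) := by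
    rw [hk]; ring
  have hdvd : r + 1 ∣ 2 * m * (j + 1) * (j + 2) :=
    (Nat.dvd_add_right (dvd_mul_right _ _)).1 (hexp ▸ dvd_mul_right _ _)
  have hm0 : 0 < m := Nat.pos_of_ne_zero fun e => by simp [e] at h0
  have hpos : 0 < 2 * m * (j + 1) * (j + 2) := by positivity
  have hle := Nat.le_of_dvd hpos hdvd
  have h2 : (r + 1) * (2 * m * (j + 2) * (j + 2)) ≤ (r + 1) * r := by omega
  have h3 := Nat.le_of_mul_le_mul_left h2 (Nat.succ_pos r)
  have h4 : 2 * m * (j + 1) * (j + 2) ≤ 2 * m * (j + 2) * (j + 2) :=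
    Nat.mul_le_mul_right _ (Nat.mul_le_mul_left _ (by omega))
  omega

/-- A stabiliser of order at most `q + 1` is too small. -/
theorem small_degree {q h n : ℕ} (hq : 5 ≤ q) (hhn : 2 * (h * n) = q * ((q - 1) * (q + 1)))
    (hd : n - 1 ∣ h) (h0 : 0 < h) (hle : h ≤ q + 1) : False := by
  have hn : n ≤ q + 2 := by have := Nat.le_of_dvd h0 hd; omega
  obtain ⟨r, rfl⟩ : ∃ r, q = r + 1 := ⟨q - 1, by omega⟩
  rw [Nat.add_sub_cancel] at hhn
  have h1 : (r + 2) * ((r + 1) * r) ≤ (r + 2) * (2 * (r + 3)) := by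
    calc (r + 2) * ((r + 1) * r) = 2 * (h * n) := by rw [hhn]; ring
      _ ≤ 2 * ((r + 2) * (r + 3)) := Nat.mul_le_mul_left 2 (Nat.mul_le_mul hle hn)
      _ = _ := by ring
  have h2 := Nat.le_of_mul_le_mul_left h1 (by omega)
  nlinarith

theorem exceptional_degree : ∀ n : Fin 62, 2 < (n : ℕ) → (n : ℕ) % 4 = 2 →
    ((n : ℕ) - 1 ∣ 12 → False) ∧ ((n : ℕ) - 1 ∣ 24 → False) ∧ ((n : ℕ) - 1 ∣ 60 → (n : ℕ) = 6) := by
  decide +kernel

/-- The normaliser of a Sylow subgroup in the defining characteristic. -/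
theorem card_borel_sylow {F : Type} [Field F] [Fintype F] (p : ℕ) [Fact p.Prime] [CharP F p]
    (hodd : Odd (Fintype.card F)) (Q : Sylow p (Matrix.ProjectiveSpecialLinearGroup (Fin 2) F)) :
    2 * Nat.card (normalizer ((Q : Subgroup (Matrix.ProjectiveSpecialLinearGroup (Fin 2) F)) :
        Set (Matrix.ProjectiveSpecialLinearGroup (Fin 2) F))) = Fintype.card F * (Fintype.card F - 1) := by
  classical
  obtain ⟨f, hpp, hf⟩ := FiniteField.card F p
  set q := Fintype.card F with hq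
  set L := Matrix.ProjectiveSpecialLinearGroup (Fin 2) F
  have hL : 2 * Nat.card L = q * ((q - 1) * (q + 1)) := Invol.GW.card_PSLTwo hodd
  have hq2 : q % 2 = 1 := Nat.odd_iff.1 hodd
  have hp2 : p ≠ 2 := fun e => by
    rw [hf, e] at hodd
    exact (Nat.not_even_iff_odd.2 hodd) (Nat.even_pow.2 ⟨even_two, f.ne_zero⟩)
  obtain ⟨a, ha⟩ := exists_prime_orderOf_dvd_card' (G := L) p (by
    have h2 : p ∣ 2 * Nat.card L := by
      rw [hL, hf]
      exact (dvd_pow_self p f.ne_zero).mul_right _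
    exact ((Nat.coprime_primes (Fact.out (p := p.Prime)) Nat.prime_two).2 hp2).dvd_of_dvd_mul_left h2)
  obtain ⟨hap, ha1⟩ := orderOf_eq_prime_iff.1 ha
  have hT := Dickson.card_tor_uni p ha1 hap
  have hTp : IsPGroup p ↥(Dickson.tor a) := IsPGroup.of_card (n := (f : ℕ)) (by rw [hT, ← hq, hf])
  obtain ⟨R, hR⟩ := hTp.exists_le_sylow
  have hR' : (R : Subgroup L) = Dickson.tor a := by
    refine (eq_of_le_of_card_ge hR ?_).symm
    obtain ⟨r, hr⟩ := IsPGroup.iff_card.1 R.isPGroup'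
    have h2 : Nat.card (R : Subgroup L) ∣ q * ((q - 1) * (q + 1)) := by
      rw [← hL]
      exact (card_subgroup_dvd_card _).trans (dvd_mul_left _ _)
    have hcop : (p ^ r).Coprime ((q - 1) * (q + 1)) := by
      refine Nat.Coprime.pow_left r (((Fact.out (p := p.Prime)).coprime_iff_not_dvd).2 fun hdv => ?_)
      have hpq : p ∣ q := by rw [hf]; exact dvd_pow_self p f.ne_zero
      rcases (Fact.out (p := p.Prime)).dvd_mul.1 hdv with h' | h'
      · have := Nat.dvd_sub hpq h'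
        rw [Nat.sub_sub_self (by omega : 1 ≤ q)] at this
        have := Nat.le_of_dvd one_pos this
        have := (Fact.out (p := p.Prime)).two_le
        omega
      · have := (Nat.dvd_add_right hpq).1 h'
        have := Nat.le_of_dvd one_pos this
        have := (Fact.out (p := p.Prime)).two_le
        omega
    rw [hT, ← hq]
    exact Nat.le_of_dvd (by omega) (hr ▸ hcop.dvd_of_dvd_mul_right (hr ▸ h2))
  obtain ⟨g, rfl⟩ := MulAction.exists_smul_eq L R Q
  have hb := Dickson.card_borel p ha1 hap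
  rcases Dickson.del_cases F with ⟨-, he⟩ | ⟨hdel, -⟩
  · exact absurd he (Nat.not_even_iff_odd.2 hodd)
  rw [hdel, ← hR', mul_comm] at hb
  rw [Sylow.coe_subgroup_smul, Subgroup.pointwise_smul_def,
    show (MulDistribMulAction.toMonoidEnd _ _ (MulAut.conj g) : L →* L) = (MulAut.conj g).toMonoidHom from rfl,
    ← map_equiv_normalizer_eq, card_map_of_injective (MulAut.conj g).injective]
  exact hb

/-- Index 2 mod 4 and order a multiple of the index less one: the index is `q + 1`, or `q = 9` with index 6. -/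
theorem psl_two_index {F : Type} [Field F] [Fintype F] (hodd : Odd (Fintype.card F)) (h5 : 5 ≤ Fintype.card F)
    (H : Subgroup (Matrix.ProjectiveSpecialLinearGroup (Fin 2) F)) (hf : H.index % 4 = 2) (hf2 : 2 < H.index)
    (hd : H.index - 1 ∣ Nat.card H) :
    H.index = Fintype.card F + 1 ∨ (Fintype.card F = 9 ∧ H.index = 6) := by
  classical
  obtain ⟨p, hp⟩ := CharP.exists F
  haveI : Fact p.Prime := ⟨CharP.char_is_prime F p⟩
  set q := Fintype.card F with hq
  set n := H.index with hn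
  set k := Nat.card ↥H with hk
  have hcard : 2 * (k * n) = q * ((q - 1) * (q + 1)) := by
    rw [hk, hn, card_mul_index]; exact Invol.GW.card_PSLTwo hodd
  have hk0 : 0 < k := Nat.card_pos
  have hq5 : 5 ≤ q := h5
  have exc : k = 12 ∨ k = 24 ∨ k = 60 → n = q + 1 ∨ (q = 9 ∧ n = 6) := fun hk' => by
    have hn62 : n < 62 := by
      have := Nat.le_of_dvd hk0 hd
      omega
    obtain ⟨e1, e2, e3⟩ := exceptional_degree ⟨n, hn62⟩ hf2 hf
    rcases hk' with e' | e' | e'
    · exact (e1 (e' ▸ hd)).elim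
    · exact (e2 (e' ▸ hd)).elim
    · have hn6 : n = 6 := e3 (e' ▸ hd)
      refine Or.inr ⟨?_, hn6⟩
      rw [hn6, e'] at hcard
      have hle : q < 11 := by
        by_contra hcon
        have : 11 * (10 * 12) ≤ q * ((q - 1) * (q + 1)) :=
          Nat.mul_le_mul (by omega) (Nat.mul_le_mul (by omega) (by omega))
        omega
      interval_cases q <;> omega
  rcases Cfsg.Agent.S0799.result hq.symm p H with ⟨j, hj, hshape⟩ | ⟨Q, L, hL, ⟨i⟩⟩ | ⟨⟨i⟩⟩ | ⟨⟨i⟩⟩ | ⟨⟨i⟩⟩ |
    ⟨F₀, j1, j2, m, hm, hiso⟩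
  · exfalso
    have hgcd : Nat.gcd 2 (q - 1) = 2 := Nat.gcd_eq_left (by have := Nat.odd_iff.1 hodd; omega)
    rw [hgcd] at hj
    refine small_degree hq5 hcard hd hk0 ?_
    have hj2 : 2 * j ≤ q + 1 := by
      rcases hj with hj | hj <;> have := Nat.le_of_dvd (by omega) hj <;> omega
    rw [hk]
    rcases hshape with ⟨-, hc⟩ | ⟨⟨i⟩⟩
    · omega
    · rw [Nat.card_congr i.toEquiv, DihedralGroup.nat_card]; exact hj2
  · refine Or.inl (borel_degree hq5 hcard hd ?_ hf2)
    rw [← card_borel_sylow p hodd Q, hk, Nat.card_congr i.toEquiv]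
    exact Nat.mul_dvd_mul_left 2 (card_dvd_of_le hL)
  · exact exc (Or.inl (by rw [hk, Nat.card_congr i.toEquiv, nat_card_alternatingGroup, Nat.card_fin]; rfl))
  · exact exc (Or.inr (Or.inl (by rw [hk, Nat.card_congr i.toEquiv, Nat.card_perm, Nat.card_fin]; rfl)))
  · exact exc (Or.inr (Or.inr (by
      rw [hk, Nat.card_congr i.toEquiv, nat_card_alternatingGroup, Nat.card_fin]; rfl)))
  · exfalso
    letI := j1; letI := j2
    set q₀ := Fintype.card F₀ with hq0
    have hq01 : 1 < q₀ := Fintype.one_lt_card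
    have hm0 : m ≠ 0 := fun e' => by rw [e', pow_zero] at hm; omega
    have hq0odd : q₀ % 2 = 1 := by
      by_contra hcon
      have : Even (q₀ ^ m) := (Nat.even_iff.2 (by omega)).pow_of_ne_zero hm0
      rw [hm] at this
      exact (Nat.not_even_iff_odd.2 hodd) this
    have hk0' : k * 2 = q₀ * ((q₀ - 1) * (q₀ + 1)) ∨ k = q₀ * ((q₀ - 1) * (q₀ + 1)) := by
      rcases hiso with ⟨⟨i⟩⟩ | ⟨⟨i⟩⟩ <;> rw [hk, Nat.card_congr i.toEquiv]
      · left
        rw [mul_comm, Invol.GW.card_PSLTwo (Nat.odd_iff.2 hq0odd)]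
      · exact Or.inr (Dickson.card_pgl F₀)
    obtain ⟨r, hr⟩ : ∃ r, q₀ = r + 1 := ⟨q₀ - 1, by omega⟩
    rcases Nat.lt_or_ge m 2 with hm2 | hm2
    · have : m = 1 := by omega
      subst this
      rw [pow_one] at hm
      rw [hm] at hk0'
      rcases hk0' with e0 | e0 <;> rw [← e0] at hcard <;> nlinarith
    rcases hm2.eq_or_lt with rfl | hm3
    · have hsq : q₀ ^ 2 = q := hm
      have e2 : q * ((q - 1) * (q + 1)) = (q₀ * ((q₀ - 1) * (q₀ + 1))) * (q₀ * (q₀ * q₀ + 1)) := by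
        rw [← hsq, hr, Nat.add_sub_cancel, show (r + 1) ^ 2 - 1 = r * (r + 2) by
          rw [Nat.sub_eq_iff_eq_add (Nat.one_le_pow _ _ (by omega))]; ring]
        ring
      rcases hk0' with e0 | e0
      · rw [e2, ← e0] at hcard
        have h2 : n = q₀ * (q₀ * q₀ + 1) := Nat.eq_of_mul_eq_mul_left (Nat.mul_pos hk0 two_pos)
          (by linarith)
        have h4 := Nat.le_of_dvd hk0 hd
        have h5 : 2 * n ≤ q₀ * ((q₀ - 1) * (q₀ + 1)) + 2 := by omega
        rw [h2, hr, Nat.add_sub_cancel] at h5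
        nlinarith
      · rw [e2, ← e0] at hcard
        have h2 : 2 * n = q₀ * (q₀ * q₀ + 1) := Nat.eq_of_mul_eq_mul_left hk0 (by linarith)
        obtain ⟨s, hs⟩ : ∃ s, q₀ = 2 * s + 1 := ⟨q₀ / 2, by omega⟩
        rw [hs, show (2 * s + 1) * ((2 * s + 1) * (2 * s + 1) + 1) =
          2 + 4 * (2 * s * s * s + 3 * s * s + 2 * s) by ring] at h2
        omega
    · have h3' : q₀ ^ 3 ≤ q := hm ▸ Nat.pow_le_pow_right (by omega) hm3
      have hkq : k ≤ q := by
        have : q₀ * ((q₀ - 1) * (q₀ + 1)) ≤ q₀ ^ 3 := by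
          rw [hr, Nat.add_sub_cancel]; ring_nf; omega
        rcases hk0' with e0 | e0 <;> omega
      exact small_degree hq5 hcard hd hk0 (by omega)

/-- The same subgroups have order divisible by `q`, apart from `q = 9` and index 6. -/
theorem psl_two_degree {F : Type} [Field F] [Fintype F] (hodd : Odd (Fintype.card F)) (h5 : 5 ≤ Fintype.card F)
    (H : Subgroup (Matrix.ProjectiveSpecialLinearGroup (Fin 2) F)) (hf : H.index % 4 = 2) (hf2 : 2 < H.index)
    (hd : H.index - 1 ∣ Nat.card H) :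
    Fintype.card F ∣ Nat.card H ∨ (Fintype.card F = 9 ∧ H.index = 6) := by
  rcases psl_two_index hodd h5 H hf hf2 hd with e | e
  · refine Or.inl ?_
    have h1 : H.index - 1 = Fintype.card F := by omega
    exact h1 ▸ hd
  · exact Or.inr e

end Cfsg.Agent.Fus.TwoModFour
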