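import Cfsg.Agent.Lib.Fus.TwoModFour.IdentRoot
import Cfsg.Agent.Lib.Fus.TwoModFour.IdentDegree
import Cfsg.Agent.Lib.Invol.PSLThreeCentralizer

/-!
# The involution centraliser of a central quotient of a subgroup of `SL₃`

`Γ ≤ SL(3, F)` maps onto `G` with central kernel of odd order; the centraliser of `s = θ(-1)` consists, in a
suitable basis, of blocks which are scalar multiples of matrices over the subfield `F₀`.
-/

set_option autoImplicit false
set_option linter.unusedSectionVars false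
set_option linter.style.haveILetI false

namespace Cfsg.Agent.Fus.TwoModFour

open Matrix MulAction Subgroup
open Cfsg.Agent.Grp.SL2 (up)

universe u v w

section Lift

variable {Γ : Type w} [Group Γ] [Finite Γ] {G : Type u} [Group G] (π : Γ →* G)

/-- Commuting with an involution is detected modulo a central kernel of odd order. -/
theorem commute_of_map (hker : π.ker ≤ Subgroup.center Γ) (hoddker : Odd (Nat.card π.ker)) {s g : Γ}
    (hs : s * s = 1) (hg : π g * π s = π s * π g) : g * s = s * g := by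
  set k : Γ := g * s * g⁻¹ * s⁻¹ with hkd
  have hkk : k ∈ π.ker := by
    rw [MonoidHom.mem_ker, hkd, map_mul, map_mul, map_mul, map_inv, map_inv, hg]
    group
  have hgs : g * s * g⁻¹ = k * s := by rw [hkd]; group
  have hk2 : k * k = 1 := by
    have e : (k * s) * (k * s) = 1 := by
      rw [← hgs, show g * s * g⁻¹ * (g * s * g⁻¹) = g * (s * s) * g⁻¹ by group, hs, mul_one, mul_inv_cancel]
    calc k * k = k * k * (s * s) := by rw [hs, mul_one]
      _ = k * (k * s) * s := by group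
      _ = k * (s * k) * s := by rw [mem_center_iff.1 (hker hkk) s]
      _ = 1 := by rw [← e]; group
  have hk1 : k = 1 := orderOf_eq_one_iff.1 (Nat.eq_one_of_dvd_coprimes (Nat.coprime_two_left.2 hoddker)
    (orderOf_dvd_of_pow_eq_one (by rw [pow_two, hk2])) (π.ker.orderOf_dvd_natCard hkk))
  rw [hk1, one_mul] at hgs
  exact mul_inv_eq_iff_eq_mul.1 hgs

/-- An involution stays one modulo a kernel of odd order. -/
theorem orderOf_map_two (hoddker : Odd (Nat.card π.ker)) {s : Γ} (hs : s * s = 1) (h1 : s ≠ 1) :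
    orderOf (π s) = 2 := by
  refine orderOf_eq_prime (by rw [pow_two, ← map_mul, hs, map_one]) fun e => h1 ?_
  exact orderOf_eq_one_iff.1 (Nat.eq_one_of_dvd_coprimes (Nat.coprime_two_left.2 hoddker)
    (orderOf_dvd_of_pow_eq_one (by rw [pow_two, hs])) (π.ker.orderOf_dvd_natCard e))

end Lift

variable {G : Type u} [Group G] [Finite G] {Ω : Type v} [Fintype Ω] [MulAction G Ω] [FaithfulSMul G Ω]
  [IsSimpleGroup G]

/-- A root group of the normal `SL₂(q)` fixes a point. -/
theorem Deg.cover_root (h : Deg G Ω) (h2 : ∀ z : G, orderOf z = 2 → Two Ω z)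
    {F : Type} [Field F] {F₀ : Type} [Field F₀] [Fintype F₀]
    (hodd : Odd (Fintype.card F₀)) (h5 : 5 ≤ Fintype.card F₀) (i : F₀ →+* F) (h2F : (2 : F) ≠ 0)
    {Γ : Type w} [Group Γ] [Finite Γ] (π : Γ →* G) (hπ : Function.Surjective π)
    (hker : π.ker ≤ Subgroup.center Γ) (hoddker : Odd (Nat.card π.ker))
    (ι : Γ →* Matrix.SpecialLinearGroup (Fin 3) F) (hι : Function.Injective ι)
    (P : Matrix.SpecialLinearGroup (Fin 3) F) (θ : Matrix.SpecialLinearGroup (Fin 2) F₀ →* Γ)
    (hθ : ∀ A, ι (θ A) = P * Invol.Psl3C.blkHom (Matrix.GeneralLinearGroup.map i (Matrix.SpecialLinearGroup.toGL A)) * P⁻¹)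
    (hrat : ∀ (c : Γ) (A : GL (Fin 2) F), c * θ (-1) = θ (-1) * c → Invol.Psl3C.blkHom A = P⁻¹ * ι c * P →
      ∃ (a : F) (B : GL (Fin 2) F₀), a ≠ 0 ∧
        (A : Matrix (Fin 2) (Fin 2) F) = a • (B : Matrix (Fin 2) (Fin 2) F₀).map i)
    (hnine : Fintype.card F₀ = 9 → ∃ c : Γ, c * θ (-1) = θ (-1) * c ∧ c ^ 16 = 1 ∧
      c ^ 4 * θ (up 1) = θ (up (-1)) * c ^ 4) :
    ∃ a : Ω, ∀ x : F₀, π (θ (up x)) • a = a := by
  classical
  have hneg : Matrix.GeneralLinearGroup.map i
      (Matrix.SpecialLinearGroup.toGL (-1 : Matrix.SpecialLinearGroup (Fin 2) F₀)) = -1 := by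
    refine Units.ext (Matrix.ext fun a b => ?_)
    fin_cases a <;> fin_cases b <;> simp
  have hblkneg : Invol.Psl3C.blkHom (-1 : GL (Fin 2) F) = Invol.Psl3C.dInv := by
    refine Subtype.ext (Matrix.ext fun a b => ?_)
    rw [Invol.Psl3C.coe_blkHom]
    fin_cases a <;> fin_cases b <;> simp [Invol.Psl3C.dInv, Matrix.det_neg]
  set s := θ (-1) with hs
  have hιs : ι s = P * Invol.Psl3C.dInv * P⁻¹ := by rw [hs, hθ, hneg, hblkneg]
  have hss : s * s = 1 := by rw [hs, ← map_mul, neg_one_mul, neg_neg, map_one]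
  have hs1 : s ≠ 1 := fun e => by
    have h1 := hιs
    rw [e, map_one, eq_comm, mul_inv_eq_one] at h1
    have h3 : Invol.Psl3C.dInv (F := F) = 1 := mul_left_cancel (a := P) (by rw [mul_one]; exact h1)
    have := congrFun (congrFun (congrArg Subtype.val h3) 0) 0
    simp [Invol.Psl3C.dInv] at this
    exact h2F (by linear_combination -this)
  have hz : orderOf (π s) = 2 := orderOf_map_two π hoddker hss hs1
  set CΓ : Subgroup Γ := centralizer ({s} : Set Γ) with hCΓ
  have hblk : ∀ c : CΓ, ∃ (a : F) (B : GL (Fin 2) F₀) (A : GL (Fin 2) F), a ≠ 0 ∧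
      (A : Matrix (Fin 2) (Fin 2) F) = a • (B : Matrix (Fin 2) (Fin 2) F₀).map i ∧
      ι (c : Γ) = P * Invol.Psl3C.blkHom A * P⁻¹ := by
    intro c
    have hc := mem_centralizer_singleton_iff.1 c.2
    obtain ⟨A, hA⟩ := Invol.Psl3C.exists_blk_of_commute h2F (g := P⁻¹ * ι (c : Γ) * P) (by
      have e := congrArg ι hc
      rw [map_mul, map_mul, hιs] at e
      calc P⁻¹ * ι (c : Γ) * P * Invol.Psl3C.dInv = P⁻¹ * (ι (c : Γ) * (P * Invol.Psl3C.dInv * P⁻¹)) * P := by group
        _ = P⁻¹ * ((P * Invol.Psl3C.dInv * P⁻¹) * ι (c : Γ)) * P := by rw [e]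
        _ = _ := by group)
    obtain ⟨a, B, ha, e⟩ := hrat c A hc hA
    exact ⟨a, B, A, ha, e, by rw [hA]; group⟩
  choose a B A ha hAB hιc using hblk
  -- two choices differ by a scalar
  have huniq : ∀ (r r' : F) (X Y : GL (Fin 2) F₀), r ≠ 0 → r' ≠ 0 →
      r • (X : Matrix (Fin 2) (Fin 2) F₀).map i = r' • (Y : Matrix (Fin 2) (Fin 2) F₀).map i →
      X⁻¹ * Y ∈ Subgroup.center (GL (Fin 2) F₀) := by
    intro r r' X Y hr hr' e
    obtain ⟨Z, hZ⟩ : ∃ Z : GL (Fin 2) F₀, Z = X⁻¹ * Y := ⟨_, rfl⟩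
    rw [← hZ]
    have hY : (Y : Matrix (Fin 2) (Fin 2) F₀) = (X : Matrix (Fin 2) (Fin 2) F₀) * (Z : GL (Fin 2) F₀) := by
      rw [hZ, ← Units.val_mul, mul_inv_cancel_left]
    have hXi : ((Matrix.GeneralLinearGroup.map i X⁻¹ : GL (Fin 2) F) : Matrix (Fin 2) (Fin 2) F) *
        (X : Matrix (Fin 2) (Fin 2) F₀).map i = 1 := by
      rw [show (X : Matrix (Fin 2) (Fin 2) F₀).map i =
        ((Matrix.GeneralLinearGroup.map i X : GL (Fin 2) F) : Matrix (Fin 2) (Fin 2) F) from rfl,
        ← Units.val_mul, ← map_mul, inv_mul_cancel, map_one, Units.val_one]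
    have hZi : ((Z : GL (Fin 2) F₀) : Matrix (Fin 2) (Fin 2) F₀).map i = (r / r') • (1 : Matrix (Fin 2) (Fin 2) F) := by
      have h1 := congrArg (fun M => ((Matrix.GeneralLinearGroup.map i X⁻¹ : GL (Fin 2) F) :
        Matrix (Fin 2) (Fin 2) F) * M) e
      simp only [mul_smul_comm, hXi] at h1
      rw [hY, Matrix.map_mul, ← mul_assoc, hXi, one_mul] at h1
      rw [div_eq_inv_mul, ← smul_smul, h1, smul_smul, inv_mul_cancel₀ hr', one_smul]
    have hoff : (Z : Matrix (Fin 2) (Fin 2) F₀) 0 1 = 0 ∧ (Z : Matrix (Fin 2) (Fin 2) F₀) 1 0 = 0 ∧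
        (Z : Matrix (Fin 2) (Fin 2) F₀) 0 0 = (Z : Matrix (Fin 2) (Fin 2) F₀) 1 1 := by
      refine ⟨i.injective ?_, i.injective ?_, i.injective ?_⟩
      · have := congrFun (congrFun hZi 0) 1
        simpa using this
      · have := congrFun (congrFun hZi 1) 0
        simpa using this
      · have h0 := congrFun (congrFun hZi 0) 0
        have h1 := congrFun (congrFun hZi 1) 1
        simp at h0 h1
        rw [h0, h1]
    refine mem_center_iff.2 fun g => Units.ext (Matrix.ext fun p q => ?_)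
    rw [Units.val_mul, Units.val_mul, Matrix.mul_apply, Matrix.mul_apply, Fin.sum_univ_two, Fin.sum_univ_two]
    obtain ⟨o1, o2, o3⟩ := hoff
    fin_cases p <;> fin_cases q <;> simp [o1, o2, o3, mul_comm]
  let χ : CΓ →* GL (Fin 2) F₀ ⧸ Subgroup.center (GL (Fin 2) F₀) :=
    MonoidHom.mk' (fun c => QuotientGroup.mk (B c)) fun c d => by
      rw [← QuotientGroup.mk_mul, QuotientGroup.eq]
      have e1 : Invol.Psl3C.blkHom (A (c * d)) = Invol.Psl3C.blkHom (A c * A d) := by
        have e := hιc (c * d)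
        rw [Subgroup.coe_mul, map_mul, hιc c, hιc d] at e
        rw [map_mul]
        calc Invol.Psl3C.blkHom (A (c * d)) = P⁻¹ * (P * Invol.Psl3C.blkHom (A (c * d)) * P⁻¹) * P := by group
          _ = _ := by rw [← e]; group
      have e2 := congrArg (fun X : GL (Fin 2) F => (X : Matrix (Fin 2) (Fin 2) F)) (Invol.Psl3C.blkHom_injective e1)
      simp only [Units.val_mul, hAB, smul_mul_assoc, mul_smul_comm, smul_smul, ← Matrix.map_mul] at e2
      exact huniq _ _ _ _ (ha _) (mul_ne_zero (ha d) (ha c)) (by rw [Units.val_mul]; exact e2)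
  -- conjugation
  have hconj : ∀ (c : CΓ) (X : Matrix.SpecialLinearGroup (Fin 2) F₀), ∃ X' : Matrix.SpecialLinearGroup (Fin 2) F₀,
      (Matrix.SpecialLinearGroup.toGL X' : GL (Fin 2) F₀) = B c * Matrix.SpecialLinearGroup.toGL X * (B c)⁻¹ ∧
      θ X' = (c : Γ) * θ X * (c : Γ)⁻¹ := by
    intro c X
    have hd : ((B c * Matrix.SpecialLinearGroup.toGL X * (B c)⁻¹ : GL (Fin 2) F₀) :
        Matrix (Fin 2) (Fin 2) F₀).det = 1 := by
      rw [Units.val_mul, Units.val_mul, Matrix.det_mul, Matrix.det_mul, mul_right_comm, ← Matrix.det_mul,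
        ← Units.val_mul, mul_inv_cancel, Units.val_one, Matrix.det_one, one_mul]
      exact X.2
    let X' : Matrix.SpecialLinearGroup (Fin 2) F₀ := ⟨_, hd⟩
    refine ⟨X', Units.ext rfl, hι ?_⟩
    rw [map_mul, map_mul, map_inv, hθ, hθ, eq_mul_inv_iff_mul_eq, hιc c]
    have key : Matrix.GeneralLinearGroup.map i (Matrix.SpecialLinearGroup.toGL X') * A c =
        A c * Matrix.GeneralLinearGroup.map i (Matrix.SpecialLinearGroup.toGL X) := by
      refine Units.ext ?_
      rw [Units.val_mul, Units.val_mul, hAB, mul_smul_comm, smul_mul_assoc]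
      refine congrArg (a c • ·) ?_
      show ((B c * Matrix.SpecialLinearGroup.toGL X * (B c)⁻¹ : GL (Fin 2) F₀) :
        Matrix (Fin 2) (Fin 2) F₀).map i * (B c : Matrix (Fin 2) (Fin 2) F₀).map i =
        (B c : Matrix (Fin 2) (Fin 2) F₀).map i * (Matrix.SpecialLinearGroup.toGL X : GL (Fin 2) F₀).1.map i
      rw [← Matrix.map_mul, ← Matrix.map_mul, ← Units.val_mul, inv_mul_cancel_right, Units.val_mul]
    have key' := congrArg Invol.Psl3C.blkHom key
    rw [map_mul, map_mul] at key'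
    calc _ = P * (Invol.Psl3C.blkHom (Matrix.GeneralLinearGroup.map i (Matrix.SpecialLinearGroup.toGL X')) * Invol.Psl3C.blkHom (A c)) * P⁻¹ := by group
      _ = _ := by rw [key']; group
  -- the centraliser in `G`
  let f : CΓ →* ↥(centralizer ({π s} : Set G)) := (π.comp CΓ.subtype).codRestrict _ fun c =>
    mem_centralizer_singleton_iff.2 (by
      rw [MonoidHom.comp_apply, ← map_mul, ← map_mul]
      exact congrArg π (mem_centralizer_singleton_iff.1 c.2))
  have hf : Function.Surjective f := by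
    rintro ⟨y, hy⟩
    obtain ⟨g, rfl⟩ := hπ y
    exact ⟨⟨g, mem_centralizer_singleton_iff.2
      (commute_of_map π hker hoddker hss (mem_centralizer_singleton_iff.1 hy))⟩, rfl⟩
  refine h.root_fixed (fun F' _ _ => psl_two_degree) hodd h5 hz (h2 _ hz) (π.comp θ) rfl ?_ ?_ ?_
  · intro c hc X
    obtain ⟨g, rfl⟩ := hπ c
    obtain ⟨X', -, e⟩ := hconj ⟨g, mem_centralizer_singleton_iff.2 (commute_of_map π hker hoddker hss hc)⟩ X
    exact ⟨X', by rw [MonoidHom.comp_apply, e, map_mul, map_mul, map_inv, MonoidHom.comp_apply]⟩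
  · have hle : χ.ker ≤ ((centralizer ((π.comp θ).range : Set G)).subgroupOf (centralizer ({π s} : Set G))).comap f := by
      intro c hc
      rw [mem_comap, mem_subgroupOf, mem_centralizer_iff]
      rintro _ ⟨X, rfl⟩
      obtain ⟨X', e1, e2⟩ := hconj c X
      have hB : B c ∈ Subgroup.center (GL (Fin 2) F₀) := (QuotientGroup.eq_one_iff _).1 hc
      rw [← mem_center_iff.1 hB, mul_inv_cancel_right] at e1
      have e3 : X' = X := Matrix.SpecialLinearGroup.toGL_injective e1
      rw [e3] at e2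
      show π (θ X) * π (c : Γ) = π (c : Γ) * π (θ X)
      rw [← map_mul, ← map_mul]
      exact congrArg π (eq_mul_inv_iff_mul_eq.1 e2)
    have h1 := index_dvd_of_le hle
    rw [index_comap_of_surjective _ hf, index_ker] at h1
    refine h1.trans ((card_subgroup_dvd_card χ.range).trans ?_)
    rw [show Nat.card (GL (Fin 2) F₀ ⧸ Subgroup.center (GL (Fin 2) F₀)) = _ from Dickson.card_pgl F₀]
  · intro h9
    obtain ⟨c, hc, hc16, hc4⟩ := hnine h9
    refine ⟨π c, by rw [← map_mul, ← map_mul, hc], by rw [← map_pow, hc16, map_one], ?_⟩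
    rw [MonoidHom.comp_apply, MonoidHom.comp_apply, mul_inv_eq_iff_eq_mul, ← map_pow, ← map_mul, ← map_mul, hc4]

end Cfsg.Agent.Fus.TwoModFour
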