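import Cfsg.Agent.Lib.Fus.TwoModFour.IdentDefs
import Cfsg.Agent.Lib.Invol.AbgConsumers.RankTwo
import Cfsg.Agent.Lib.Fus.TwoModFour.IdentDegree

/-!
# Simple doubly transitive groups of degree 2 mod 4 with dihedral Sylow 2-subgroups

By Gorenstein–Walter the group is `L₂(q)` or `A₇`.  A point stabiliser of `L₂(q)` is in Dickson's list and
its order is a multiple of `n - 1`: this leaves `n = q + 1`, and `n = 6` for `q = 9`.  `A₇` and `M₁₁` have no
doubly transitive representation of such degree.
-/

set_option autoImplicit false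
set_option linter.unusedSectionVars false
set_option linter.style.haveILetI false

namespace Cfsg.Agent.Fus.TwoModFour

open MulAction Subgroup
open Cfsg.Agent.Perm.TwoStab (pairStab mem_pairStab)

universe u v

/-! ### Arithmetic -/

theorem alt_seven_degree : ∀ m ∈ Nat.divisors 2520, m % 4 = 2 → 2 < m → m * (m - 1) ∣ 2520 → m = 6 ∨ m = 10 := by
  decide +kernel

theorem mathieu_degree : ∀ m ∈ Nat.divisors 7920, m % 4 = 2 → 2 < m → m * (m - 1) ∣ 7920 → m = 6 ∨ m = 10 := by
  decide +kernel

/-! ### The representation -/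

variable {G : Type u} [Group G] [Finite G] {Ω : Type v} [Fintype Ω] [MulAction G Ω] [FaithfulSMul G Ω]

omit [FaithfulSMul G Ω] in
theorem Deg.index_stabilizer (h : Deg G Ω) (a : Ω) : (stabilizer G a).index = Fintype.card Ω := by
  haveI := h.two
  haveI : IsPretransitive G Ω := isPretransitive_of_is_two_pretransitive
  rw [MulAction.index_stabilizer, orbit_eq_univ, Set.ncard_univ, Nat.card_eq_fintype_card]

omit [FaithfulSMul G Ω] in
theorem Deg.card_stabilizer (h : Deg G Ω) {a b : Ω} (hab : a ≠ b) :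
    Nat.card ↥(stabilizer G a) = (Fintype.card Ω - 1) * Nat.card ↥(pairStab G a b) := by
  have h1 := card_mul_index (stabilizer G a)
  rw [h.index_stabilizer a, h.card_eq hab, mul_comm] at h1
  refine Nat.eq_of_mul_eq_mul_left (show 0 < Fintype.card Ω by have := h.gt; omega) ?_
  rw [h1, mul_assoc]

theorem card_dvd_factorial : Nat.card G ∣ (Fintype.card Ω).factorial := by
  classical
  have h := card_dvd_of_injective (MulAction.toPermHom G Ω) MulAction.toPerm_injective
  rwa [Nat.card_perm, Nat.card_eq_fintype_card (α := Ω)] at h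

/-- No group of order 7920. -/
theorem Deg.card_ne_7920 (h : Deg G Ω) : Nat.card G ≠ 7920 := by
  intro hG
  obtain ⟨a, b, hab⟩ := Fintype.exists_pair_of_one_lt_card (show 1 < Fintype.card Ω by have := h.gt; omega)
  have hd : Fintype.card Ω * (Fintype.card Ω - 1) ∣ 7920 := hG ▸ Dvd.intro _ (h.card_eq hab).symm
  have hf := card_dvd_factorial (G := G) (Ω := Ω)
  rw [hG] at hf
  rcases mathieu_degree _ (Nat.mem_divisors.2 ⟨(dvd_mul_right _ _).trans hd, by norm_num⟩) h.mod h.gt hd
    with e | e <;> rw [e] at hf <;> norm_num [Nat.factorial] at hf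

/-- An involution of seven letters commutes with no element of order seven. -/
theorem no_commute_seven (σ τ : Equiv.Perm (Fin 7)) (hσ : orderOf σ = 7) (hτ : orderOf τ = 2)
    (hc : σ * τ = τ * σ) : False := by
  haveI : Fact (Nat.Prime 2) := ⟨Nat.prime_two⟩
  haveI : Fact (Nat.Prime 7) := ⟨by norm_num⟩
  obtain ⟨i, hi⟩ : ∃ i, τ i = i := by
    by_contra hno
    push Not at hno
    have hsup : τ.support = Finset.univ := Finset.eq_univ_of_forall fun i => Equiv.Perm.mem_support.2 (hno i)
    have h2 := Equiv.Perm.two_dvd_card_support (σ := τ) (by rw [← hτ, pow_orderOf_eq_one])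
    rw [hsup, Finset.card_univ, Fintype.card_fin] at h2
    omega
  have hcyc : σ.IsCycle := Equiv.Perm.isCycle_of_prime_order'' (by norm_num) (by rw [hσ, Fintype.card_fin])
  have hsup : σ.support = Finset.univ := Finset.eq_univ_of_card _ (by
    rw [← hcyc.orderOf, hσ, Fintype.card_fin])
  have hτ1 : τ = 1 := Equiv.ext fun j => by
    obtain ⟨m, rfl⟩ := hcyc.exists_zpow_eq (x := i) (y := j)
      (by rw [← Equiv.Perm.mem_support, hsup]; exact Finset.mem_univ _)
      (by rw [← Equiv.Perm.mem_support, hsup]; exact Finset.mem_univ _)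
    have hcm : Commute (σ ^ m) τ := Commute.zpow_left hc m
    rw [← Equiv.Perm.mul_apply, ← hcm.eq, Equiv.Perm.mul_apply, hi]
    rfl
  rw [hτ1, orderOf_one] at hτ
  omega

/-- In a group of order 28 an element of order seven commutes with an involution. -/
theorem exists_commute_twenty_eight {X : Type*} [Group X] [Finite X] (hX : Nat.card X = 28) :
    ∃ x y : X, orderOf x = 7 ∧ orderOf y = 2 ∧ Commute x y := by
  haveI : Fact (Nat.Prime 7) := ⟨by norm_num⟩
  haveI : Fact (Nat.Prime 2) := ⟨Nat.prime_two⟩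
  obtain ⟨R⟩ : Nonempty (Sylow 7 X) := inferInstance
  have hR : Nat.card (R : Subgroup X) = 7 := by
    rw [R.card_eq_multiplicity, hX, show (28 : ℕ) = 7 * 4 by norm_num,
      Nat.factorization_mul (by norm_num) (by norm_num), Finsupp.add_apply,
      Nat.Prime.factorization_self (by norm_num),
      Nat.factorization_eq_zero_of_not_dvd (by norm_num : ¬ 7 ∣ 4), add_zero, pow_one]
  have h1 : Nat.card (Sylow 7 X) ∣ 4 := by
    have h := R.card_dvd_index
    have h2 := card_mul_index (R : Subgroup X)
    rw [hR, hX] at h2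
    rwa [show (R : Subgroup X).index = 4 by omega] at h
  have h2 : Nat.card (Sylow 7 X) = 1 := by
    have hle := Nat.le_of_dvd (by norm_num) h1
    have hmod := card_sylow_modEq_one 7 X
    unfold Nat.ModEq at hmod
    interval_cases Nat.card (Sylow 7 X) <;> omega
  haveI : Subsingleton (Sylow 7 X) := (Nat.card_eq_one_iff_unique.1 h2).1
  haveI : (R : Subgroup X).Normal := Sylow.normal_of_subsingleton R
  haveI : IsCyclic (R : Subgroup X) := isCyclic_of_prime_card hR
  let f : X →* MulAut (R : Subgroup X) := MulAut.conjNormal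
  have hdiv : 2 ∣ Nat.card f.ker := by
    have h3 : Nat.card f.range ∣ 6 := by
      refine (card_subgroup_dvd_card _).trans ?_
      rw [IsCyclic.card_mulAut, hR, Nat.totient_prime (by norm_num)]
    have h4 := card_mul_index f.ker
    rw [index_ker, hX] at h4
    have h5 : 28 ∣ Nat.card f.ker * 6 := h4 ▸ Nat.mul_dvd_mul_left _ h3
    omega
  obtain ⟨y, hy⟩ := exists_prime_orderOf_dvd_card' 2 hdiv
  obtain ⟨x, hx⟩ := exists_prime_orderOf_dvd_card' (G := (R : Subgroup X)) 7 (by rw [hR])
  refine ⟨x, y, (Subgroup.orderOf_coe x).trans hx, (Subgroup.orderOf_coe y).trans hy, ?_⟩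
  have h6 : (y : X) * x * (y : X)⁻¹ = x := congrArg Subtype.val (DFunLike.congr_fun y.2 x)
  exact (mul_inv_eq_iff_eq_mul.1 h6).symm

/-- `A₇` does not occur. -/
theorem Deg.not_alt_seven (h : Deg G Ω) : ¬ Nonempty (G ≃* ↥(alternatingGroup (Fin 7))) := by
  rintro ⟨e⟩
  have hG : Nat.card G = 2520 := by
    rw [Nat.card_congr e.toEquiv, nat_card_alternatingGroup, Nat.card_fin]; rfl
  obtain ⟨a, b, hab⟩ := Fintype.exists_pair_of_one_lt_card (show 1 < Fintype.card Ω by have := h.gt; omega)
  have heq := h.card_eq hab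
  rw [hG] at heq
  have hd : Fintype.card Ω * (Fintype.card Ω - 1) ∣ 2520 := Dvd.intro _ heq.symm
  rcases alt_seven_degree _ (Nat.mem_divisors.2 ⟨(dvd_mul_right _ _).trans hd, by norm_num⟩) h.mod h.gt hd
    with hn | hn
  · have hf := card_dvd_factorial (G := G) (Ω := Ω)
    rw [hG, hn] at hf
    norm_num [Nat.factorial] at hf
  rw [hn] at heq
  obtain ⟨x, y, hx, hy, hc⟩ := exists_commute_twenty_eight (X := ↥(pairStab G a b)) (by omega)
  let φ : G →* Equiv.Perm (Fin 7) := (alternatingGroup (Fin 7)).subtype.comp e.toMonoidHom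
  have hφ : Function.Injective φ := (subtype_injective _).comp e.injective
  exact no_commute_seven (φ x) (φ y)
    (by rw [orderOf_injective φ hφ, Subgroup.orderOf_coe, hx])
    (by rw [orderOf_injective φ hφ, Subgroup.orderOf_coe, hy])
    (by rw [← map_mul, ← map_mul, ← Subgroup.coe_mul, hc.eq, Subgroup.coe_mul])

/-- A simple group of order 360 on six points is `A₆`. -/
theorem Deg.alt_six [IsSimpleGroup G] (h : Deg G Ω) (hn : Fintype.card Ω = 6) (hG : Nat.card G = 360) :
    Nonempty (G ≃* ↥(alternatingGroup (Fin 6))) := by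
  classical
  let g : Equiv.Perm Ω ≃* Equiv.Perm (Fin 6) := Equiv.permCongrHom (Fintype.equivFinOfCardEq hn)
  let ψ : G →* ↥(alternatingGroup (Fin 6)) := (g.toMonoidHom.comp (MulAction.toPermHom G Ω)).codRestrict _
    fun x => Equiv.Perm.mem_alternatingGroup.2 ((Equiv.Perm.sign_permCongr _ _).trans (h.sign_eq_one x))
  have hψ : Function.Injective ψ := fun x y hxy =>
    MulAction.toPerm_injective (g.injective (congrArg Subtype.val hxy))
  exact ⟨MulEquiv.ofBijective ψ ((Nat.bijective_iff_injective_and_card ψ).2 ⟨hψ, by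
    rw [hG, nat_card_alternatingGroup, Nat.card_fin]; rfl⟩)⟩

/-- `L₂(q)`, `q` odd: the degree is `q + 1`, or `q = 9` and the group is `A₆` on six points. -/
theorem Deg.linear [IsSimpleGroup G] (h : Deg G Ω) {F : Type} [Field F] [Fintype F]
    (hodd : Odd (Fintype.card F)) (h3 : 3 < Fintype.card F)
    (e : G ≃* Matrix.ProjectiveSpecialLinearGroup (Fin 2) F) : Concl G Ω := by
  classical
  obtain ⟨a, b, hab⟩ := Fintype.exists_pair_of_one_lt_card (show 1 < Fintype.card Ω by have := h.gt; omega)
  set X := stabilizer G a with hX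
  set H := X.map e.toMonoidHom with hH
  have hcX : Nat.card H = Nat.card X := card_map_of_injective e.injective
  have hindex : H.index = Fintype.card Ω := by
    rw [hH, Subgroup.index_map_of_bijective e.bijective, hX, h.index_stabilizer a]
  rcases psl_two_index hodd (by have := Nat.odd_iff.1 hodd; omega) H (hindex ▸ h.mod) (hindex ▸ h.gt)
      (by rw [hindex, hcX]; exact Dvd.intro _ (h.card_stabilizer hab).symm) with e1 | ⟨e1, e2⟩
  · exact Or.inr (Or.inl ⟨F, inferInstance, inferInstance, by omega, hindex ▸ e1, ⟨e⟩⟩)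
  · rw [hindex] at e2
    refine Or.inl ⟨e2, h.alt_six e2 ?_⟩
    have hc := Invol.GW.card_PSLTwo hodd
    rw [← Nat.card_congr e.toEquiv, e1] at hc
    norm_num at hc
    omega

/-- The dihedral branch. -/
theorem Deg.dihedral [IsSimpleGroup G] (h : Deg G Ω) (S : Sylow 2 G) {k : ℕ} (hk : 2 ≤ k)
    (hS : Nonempty ((S : Subgroup G) ≃* DihedralGroup k)) : Concl G Ω := by
  rcases Invol.AbgConsumers.dihedral_cases h.not_comm S k hk hS with ⟨F, i1, i2, ho, h3, ⟨e⟩⟩ | hA
  · letI := i1; letI := i2
    exact h.linear ho h3 e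
  · exact absurd hA h.not_alt_seven

/-- `M₁₁` does not occur. -/
theorem Deg.not_isM11 (h : Deg G Ω) : ¬ Cfsg.IsM11 G := fun hM => h.card_ne_7920 hM.2

end Cfsg.Agent.Fus.TwoModFour
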