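import Cfsg.Agent.Lib.Fus.TwoModFour.AbelBinary
import Cfsg.Agent.Lib.Classical.AschBasic
import Cfsg.Agent.Lib.Classical.SLThree.Basic
import Cfsg.Agent.Lib.Classical.SUThree.Full
import Cfsg.Agent.Lib.Transfer.PSUThreeIndex.Borel
import Cfsg.Agent.Lib.Invol.PSLThreeCentralizer
import Cfsg.Agent.Lib.Grp.SL2Basic

/-!
# The point stabiliser in `L₃(q)` and `U₃(q)` when it contains a root group

The preimage of a point stabiliser is maximal.  It is not irreducible, so it is the stabiliser of a subspace; unless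
this is an isotropic point the stabiliser contains the centraliser of an involution and has odd index.
-/

set_option autoImplicit false
set_option linter.unusedSectionVars false
set_option linter.style.haveILetI false

namespace Cfsg.Agent.Fus.TwoModFour

open MulAction Subgroup Matrix
open Cfsg.Agent.Classical
open Cfsg.Agent.Classical.SLThree (Indep indep_of_not_mem cross_dot_left cross_dot_right)
open Cfsg.Agent.Classical.Asch (Irr irr_iff)

universe u v

variable {G : Type u} [Group G] [Finite G] {Ω : Type v} [Fintype Ω] [MulAction G Ω]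

/-- The preimage of a point stabiliser is maximal. -/
theorem Deg.comap_stab (h : Deg G Ω) {X : Type*} [Group X] (π : X →* G) (hπ : Function.Surjective π) (a : Ω) :
    IsCoatom ((stabilizer G a).comap π) ∧ ((stabilizer G a).comap π).index = Fintype.card Ω := by
  haveI : IsMultiplyPretransitive G Ω 2 := h.two
  haveI : IsPretransitive G Ω := isPretransitive_of_is_two_pretransitive
  haveI : Nontrivial Ω := Fintype.one_lt_card_iff_nontrivial.1 (by have := h.gt; omega)
  haveI : IsPreprimitive G Ω := isPreprimitive_of_is_two_pretransitive h.two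
  have hco : IsCoatom (stabilizer G a) := IsPreprimitive.isCoatom_stabilizer_of_isPreprimitive (G := G) a
  refine ⟨⟨fun e => hco.1 ?_, fun K hK => ?_⟩, ?_⟩
  · rw [← map_comap_eq_self_of_surjective hπ (stabilizer G a), e, map_top_of_surjective π hπ]
  · have hker : π.ker ≤ K := (MonoidHom.comap_bot π ▸ comap_mono bot_le : π.ker ≤ _).trans hK.le
    have h1 : stabilizer G a < K.map π := by
      refine lt_of_le_of_ne ?_ fun e => hK.ne (by rw [e, comap_map_eq_self hker])
      rw [← map_comap_eq_self_of_surjective hπ (stabilizer G a)]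
      exact map_mono hK.le
    rw [← comap_map_eq_self hker, hco.2 _ h1, comap_top]
  · rw [index_comap_of_surjective _ hπ, index_stabilizer_of_transitive, Nat.card_eq_fintype_card]

/-- The preimage of a point stabiliser contains no centraliser of an involution. -/
theorem Deg.centralizer_not_le (h : Deg G Ω) {X : Type*} [Group X] [Finite X] (π : X →* G)
    (hπ : Function.Surjective π) (hker : π.ker ≤ center X) (hoddker : Odd (Nat.card ↥π.ker))
    (hall : ∀ t : G, orderOf t = 2 → Odd (centralizer ({t} : Set G)).index) (a : Ω) {t : X} (ht : t * t = 1)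
    (ht1 : t ≠ 1) (hle : ∀ g : X, g * t = t * g → π g • a = a) : False := by
  have hone : ∀ z ∈ π.ker, z * z = 1 → z = 1 := fun z hz hzz => by
    have h1 : orderOf z ∣ 2 := orderOf_dvd_of_pow_eq_one (by rw [pow_two, hzz])
    have h2 : orderOf z ∣ Nat.card ↥π.ker := Subgroup.orderOf_dvd_natCard _ hz
    exact orderOf_eq_one_iff.1 (Nat.eq_one_of_dvd_coprimes (Nat.coprime_two_left.2 hoddker) h1 h2)
  have hto : orderOf (π t) = 2 :=
    orderOf_eq_prime (by rw [← map_pow, pow_two, ht, map_one]) fun e => ht1 (hone t e ht)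
  have hC : centralizer ({π t} : Set G) ≤ stabilizer G a := by
    intro g hg
    obtain ⟨x, rfl⟩ := hπ g
    refine hle x ?_
    have hx : π (x * t * x⁻¹ * t⁻¹) = 1 := by
      rw [map_mul, map_mul, map_mul, map_inv, map_inv, mem_centralizer_singleton_iff.1 hg]; group
    set z := x * t * x⁻¹ * t⁻¹ with hz
    have hzc : ∀ y, y * z = z * y := Subgroup.mem_center_iff.1 (hker hx)
    have hzz : z * z = 1 := by
      have e : x * t * x⁻¹ = z * t := by rw [hz]; group
      have e2 : (z * t) * (z * t) = 1 := by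
        rw [← e, show x * t * x⁻¹ * (x * t * x⁻¹) = x * (t * t) * x⁻¹ by group, ht, mul_one, mul_inv_cancel]
      rwa [show (z * t) * (z * t) = z * (t * z) * t by group, hzc t, show z * (z * t) * t = z * z * (t * t) by group,
        ht, mul_one] at e2
    have hz1 := hone z hx hzz
    rw [hz, mul_inv_eq_one, mul_inv_eq_iff_eq_mul] at hz1
    exact hz1
  have hd := index_dvd_of_le hC
  haveI : IsMultiplyPretransitive G Ω 2 := h.two
  haveI : IsPretransitive G Ω := isPretransitive_of_is_two_pretransitive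
  rw [index_stabilizer_of_transitive, Nat.card_eq_fintype_card] at hd
  have he : Even (centralizer ({π t} : Set G)).index :=
    even_iff_two_dvd.2 ((show 2 ∣ Fintype.card Ω by have := h.mod; omega).trans hd)
  exact Nat.not_odd_iff_even.2 he (hall _ hto)

section Geometry

variable {F : Type} [Field F]

local notation "V" => (Fin 3 → F)

/-- A proper nonzero subspace is a line or the kernel of a functional. -/
theorem line_or_plane {W : Submodule F V} (hb : W ≠ ⊥) (ht : W ≠ ⊤) :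
    (∃ v : V, v ≠ 0 ∧ ∀ x, x ∈ W ↔ ∃ c : F, x = c • v) ∨
      ∃ φ : V, φ ≠ 0 ∧ ∀ x, x ∈ W ↔ φ ⬝ᵥ x = 0 := by
  obtain ⟨v, hv, hv0⟩ := Submodule.exists_mem_ne_zero_of_ne_bot hb
  by_cases hline : ∀ x ∈ W, ∃ c : F, x = c • v
  · exact Or.inl ⟨v, hv0, fun x => ⟨hline x, fun ⟨c, hc⟩ => hc ▸ W.smul_mem c hv⟩⟩
  push Not at hline
  obtain ⟨b, hb', hbv⟩ := hline
  have hi : Indep v b := indep_of_not_mem hv0 hbv
  set φ := crossProduct v b with hφ
  have hφ0 : φ ≠ 0 := hi
  have hker : ∀ x, φ ⬝ᵥ x = 0 → x ∈ W := fun x hx => by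
    obtain ⟨s, t, rfl⟩ := hi.exists_comb hφ0 (cross_dot_left v b) (cross_dot_right v b) hx
    exact add_mem (W.smul_mem s hv) (W.smul_mem t hb')
  refine Or.inr ⟨φ, hφ0, fun x => ⟨fun hx => ?_, hker x⟩⟩
  by_contra hne
  refine ht (Submodule.eq_top_iff'.2 fun y => ?_)
  have h1 : φ ⬝ᵥ (y - ((φ ⬝ᵥ y) / (φ ⬝ᵥ x)) • x) = 0 := by
    rw [dotProduct_sub, dotProduct_smul, smul_eq_mul, div_mul_cancel₀ _ hne, sub_self]
  have h2 := add_mem (hker _ h1) (W.smul_mem ((φ ⬝ᵥ y) / (φ ⬝ᵥ x)) hx)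
  rwa [sub_add_cancel] at h2

/-- The involution with eigenspaces `⟨v⟩` and the kernel of `ψ`. -/
def refl2 (v ψ : V) : Matrix (Fin 3) (Fin 3) F := -(1 + vecMulVec ((-2 / (ψ ⬝ᵥ v)) • v) ψ)

theorem refl2_mulVec (v ψ x : V) : refl2 v ψ *ᵥ x = -x + (2 * (ψ ⬝ᵥ x) / (ψ ⬝ᵥ v)) • v := by
  rw [refl2, Matrix.neg_mulVec, Matrix.add_mulVec, Matrix.one_mulVec, Matrix.vecMulVec_mulVec, op_smul_eq_smul,
    smul_smul, neg_add, ← neg_smul]
  congr 2
  field_simp
  try ring

theorem refl2_det {v ψ : V} (h : ψ ⬝ᵥ v ≠ 0) : (refl2 v ψ).det = 1 := by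
  rw [refl2, Matrix.det_neg, Fintype.card_fin, Matrix.vecMulVec_eq Unit, Matrix.det_one_add_replicateCol_mul_replicateRow,
    dotProduct_smul, smul_eq_mul, div_mul_cancel₀ _ h]
  ring

theorem refl2_apply_self {v ψ : V} (h : ψ ⬝ᵥ v ≠ 0) : refl2 v ψ *ᵥ v = v := by
  rw [refl2_mulVec, mul_div_assoc, div_self h, mul_one, two_smul]; abel

theorem refl2_sq {v ψ : V} (h : ψ ⬝ᵥ v ≠ 0) : refl2 v ψ * refl2 v ψ = 1 := by
  refine Matrix.ext_iff_mulVec.2 fun x => ?_
  rw [← Matrix.mulVec_mulVec, refl2_mulVec v ψ x, Matrix.mulVec_add, Matrix.mulVec_neg, Matrix.mulVec_smul,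
    refl2_apply_self h, refl2_mulVec, Matrix.one_mulVec]
  abel

theorem refl2_ne_one (h2 : (2 : F) ≠ 0) {v ψ : V} (h : ψ ⬝ᵥ v ≠ 0) : refl2 v ψ ≠ 1 := by
  intro e
  obtain ⟨x, hx0, hx⟩ : ∃ x : V, x ≠ 0 ∧ ψ ⬝ᵥ x = 0 := by
    by_contra hno
    push Not at hno
    have h1 : ∀ y : V, y = ((ψ ⬝ᵥ y) / (ψ ⬝ᵥ v)) • v := fun y => sub_eq_zero.1 (by
      by_contra hne
      exact hno _ hne (by rw [dotProduct_sub, dotProduct_smul, smul_eq_mul, div_mul_cancel₀ _ h, sub_self]))
    have e0 := h1 (Pi.single 0 1)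
    have e1 := h1 (Pi.single 1 1)
    set c := (ψ ⬝ᵥ Pi.single 0 1) / (ψ ⬝ᵥ v)
    set d := (ψ ⬝ᵥ Pi.single 1 1) / (ψ ⬝ᵥ v)
    have a0 := congrFun e0 0
    have a1 := congrFun e0 1
    have b1 := congrFun e1 1
    simp at a0 a1 b1
    rcases a1 with hc | hv1
    · rw [hc, zero_mul] at a0; exact one_ne_zero a0
    · rw [hv1, mul_zero] at b1; exact one_ne_zero b1
  have h1 := refl2_mulVec v ψ x
  rw [e, Matrix.one_mulVec, hx, mul_zero, zero_div, zero_smul, add_zero, eq_neg_iff_add_eq_zero, ← two_smul F] at h1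
  exact hx0 ((smul_eq_zero.1 h1).resolve_left h2)

/-- What commutes with the involution preserves both eigenspaces. -/
theorem comm_refl2 (h2 : (2 : F) ≠ 0) {v ψ : V} (h : ψ ⬝ᵥ v ≠ 0) {A : Matrix (Fin 3) (Fin 3) F}
    (hA : A * refl2 v ψ = refl2 v ψ * A) :
    (∃ c : F, A *ᵥ v = c • v) ∧ ∀ x, ψ ⬝ᵥ x = 0 → ψ ⬝ᵥ (A *ᵥ x) = 0 := by
  have hfix : ∀ x, A *ᵥ (refl2 v ψ *ᵥ x) = refl2 v ψ *ᵥ (A *ᵥ x) := fun x => by
    rw [Matrix.mulVec_mulVec, Matrix.mulVec_mulVec, hA]
  refine ⟨?_, fun x hx => ?_⟩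
  · have h1 := hfix v
    rw [refl2_apply_self h, refl2_mulVec] at h1
    refine ⟨(ψ ⬝ᵥ (A *ᵥ v)) / (ψ ⬝ᵥ v), smul_right_injective V h2 ?_⟩
    show (2 : F) • A *ᵥ v = (2 : F) • _
    rw [smul_smul, ← mul_div_assoc, two_smul]
    nth_rewrite 2 [h1]
    abel
  · have h1 := hfix x
    rw [refl2_mulVec, hx, mul_zero, zero_div, zero_smul, add_zero, Matrix.mulVec_neg, refl2_mulVec] at h1
    have h3 := congrArg (ψ ⬝ᵥ ·) h1
    simp only [dotProduct_add, dotProduct_neg, dotProduct_smul, smul_eq_mul, div_mul_cancel₀ _ h] at h3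
    exact (mul_eq_zero.1 (show 2 * (ψ ⬝ᵥ (A *ᵥ x)) = 0 by linear_combination -h3)).resolve_left h2

end Geometry

variable {F : Type} [Field F] [Fintype F]

theorem two_ne (hodd : Odd (Fintype.card F)) : (2 : F) ≠ 0 := Cfsg.Agent.Dickson.two_ne_zero_of_odd_card hodd

theorem exists_pairing {v : Fin 3 → F} (hv : v ≠ 0) : ∃ ψ : Fin 3 → F, ψ ⬝ᵥ v ≠ 0 := by
  by_contra hno
  push Not at hno
  exact hv (funext fun i => by simpa using hno (Pi.single i 1))

/-- In `L₃(q)` a point stabiliser contains no root group. -/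
theorem Deg.lin_end [IsSimpleGroup G] (h : Deg G Ω) (hodd : Odd (Fintype.card F))
    (π : Matrix.SpecialLinearGroup (Fin 3) F →* G) (hπ : Function.Surjective π)
    (hker : π.ker ≤ Subgroup.center _) (hoddker : Odd (Nat.card π.ker))
    (hall : ∀ t : G, orderOf t = 2 → Odd (Subgroup.centralizer ({t} : Set G)).index) (a : Ω)
    (hroot : ∀ x : F, π (Invol.Psl3C.blkHom (Matrix.SpecialLinearGroup.toGL (Grp.SL2.up x))) • a = a) : False := by
  classical
  have h2 := two_ne hodd
  obtain ⟨hco, hidx⟩ := h.comap_stab π hπ a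
  set M := (stabilizer G a).comap π with hM
  set X : Subgroup (GL (Fin 3) F) := M.map Matrix.SpecialLinearGroup.toGL with hX
  by_cases hirr : Irr X
  · have hroot' : SLThree.InR X (Pi.single 0 1) (Pi.single 1 1) := fun c => by
      refine ⟨_, ⟨Invol.Psl3C.blkHom (Matrix.SpecialLinearGroup.toGL (Grp.SL2.up c)), hroot c, rfl⟩, fun x => ?_⟩
      have hdet : ((Matrix.SpecialLinearGroup.toGL (Grp.SL2.up c) : GL (Fin 2) F) : Matrix (Fin 2) (Fin 2) F).det = 1 :=
        (Grp.SL2.up c).2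
      show ((Invol.Psl3C.blkHom _ : Matrix.SpecialLinearGroup (Fin 3) F) : Matrix (Fin 3) (Fin 3) F) *ᵥ x = _
      rw [Invol.Psl3C.coe_blkHom, hdet]
      ext i
      fin_cases i <;>
        simp [Matrix.mulVec, dotProduct, Fin.sum_univ_three, Grp.SL2.up, Matrix.SpecialLinearGroup.toGL] <;> ring
    have hle := SLThree.specialLinear_le_of_root hirr (by simp) (by simp) (by simp) hroot'
    refine hco.1 (eq_top_iff.2 fun g _ => ?_)
    have hg : Matrix.SpecialLinearGroup.toGL g ∈ Geo.specialLinear (Fin 3) F := by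
      rw [Geo.specialLinear, MonoidHom.mem_ker]
      exact Units.ext g.2
    obtain ⟨m, hm, e⟩ := hle hg
    have : m = g := Subtype.ext (congrArg (fun u : GL (Fin 3) F => (u : Matrix (Fin 3) (Fin 3) F)) e)
    exact this ▸ hm
  rw [irr_iff] at hirr
  push Not at hirr
  obtain ⟨W, hW, hWb, hWt⟩ := hirr
  have hinv : ∀ g : Matrix.SpecialLinearGroup (Fin 3) F, g ∈ M → ∀ x ∈ W,
      (g : Matrix (Fin 3) (Fin 3) F) *ᵥ x ∈ W := fun g hg x hx => hW _ ⟨g, hg, rfl⟩ x hx
  -- the stabiliser of the subspace is the point stabiliser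
  let K : Subgroup (Matrix.SpecialLinearGroup (Fin 3) F) :=
    { carrier := {g | ∀ x ∈ W, (g : Matrix (Fin 3) (Fin 3) F) *ᵥ x ∈ W}
      one_mem' := fun x hx => by simpa using hx
      mul_mem' := fun {g k} hg hk x hx => by
        rw [Matrix.SpecialLinearGroup.coe_mul, ← Matrix.mulVec_mulVec]; exact hg _ (hk _ hx)
      inv_mem' := fun {g} hg x hx => by
        let f : W →ₗ[F] W := LinearMap.codRestrict W ((Matrix.toLin' (g : Matrix (Fin 3) (Fin 3) F)).comp W.subtype)
          fun y => by simpa using hg y y.2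
        have hinj : Function.Injective f := fun y z hyz => Subtype.ext (by
          have := congrArg (fun w : W => ((g⁻¹ : Matrix.SpecialLinearGroup (Fin 3) F) : Matrix (Fin 3) (Fin 3) F) *ᵥ (w : Fin 3 → F)) hyz
          simp only [f, LinearMap.codRestrict_apply, LinearMap.comp_apply, Submodule.subtype_apply,
            Matrix.toLin'_apply, Matrix.mulVec_mulVec] at this
          rwa [← Matrix.SpecialLinearGroup.coe_mul, inv_mul_cancel, Matrix.SpecialLinearGroup.coe_one,
            Matrix.one_mulVec, Matrix.one_mulVec] at this)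
        obtain ⟨y, hy⟩ := (LinearMap.injective_iff_surjective.1 hinj) ⟨x, hx⟩
        have hy' : (g : Matrix (Fin 3) (Fin 3) F) *ᵥ (y : Fin 3 → F) = x := congrArg Subtype.val hy
        rw [← hy', Matrix.mulVec_mulVec, ← Matrix.SpecialLinearGroup.coe_mul, inv_mul_cancel,
          Matrix.SpecialLinearGroup.coe_one, Matrix.one_mulVec]
        exact y.2 }
  have hKtop : K ≠ ⊤ := by
    intro e
    obtain ⟨v, hv, hv0⟩ := Submodule.exists_mem_ne_zero_of_ne_bot hWb
    refine hWt (Submodule.eq_top_iff'.2 fun y => ?_)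
    have hall' : ∀ g : Matrix.SpecialLinearGroup (Fin 3) F, (g : Matrix (Fin 3) (Fin 3) F) *ᵥ v ∈ W := fun g =>
      (e.ge (Subgroup.mem_top g) : g ∈ K) v hv
    by_cases hy : ∃ t : F, y = t • v
    · obtain ⟨t, rfl⟩ := hy; exact W.smul_mem t hv
    · push Not at hy
      -- a transvection moving `v` by `y`
      have hi : Indep v y := indep_of_not_mem hv0 hy
      obtain ⟨φ₀, hφ₀⟩ : ∃ χ : Fin 3 → F, χ ⬝ᵥ crossProduct v y ≠ 0 := exists_pairing hi
      set φ := crossProduct φ₀ y with hφ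
      have hφy : φ ⬝ᵥ y = 0 := cross_dot_right _ _
      have hφv : φ ⬝ᵥ v ≠ 0 := by
        rw [hφ, dotProduct_comm, triple_product_permutation, ← cross_anticomm, dotProduct_neg, neg_ne_zero]
        exact hφ₀
      let g : Matrix.SpecialLinearGroup (Fin 3) F := ⟨1 + vecMulVec y ((φ ⬝ᵥ v)⁻¹ • φ), by
        rw [Matrix.vecMulVec_eq Unit, Matrix.det_one_add_replicateCol_mul_replicateRow, smul_dotProduct, hφy,
          smul_zero, add_zero]⟩
      have h1 := hall' g
      have h1' : (g : Matrix (Fin 3) (Fin 3) F) *ᵥ v = v + y := by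
        show (1 + vecMulVec y ((φ ⬝ᵥ v)⁻¹ • φ)) *ᵥ v = _
        rw [Matrix.add_mulVec, Matrix.one_mulVec, Matrix.vecMulVec_mulVec, op_smul_eq_smul, smul_dotProduct,
          smul_eq_mul, inv_mul_cancel₀ hφv, one_smul]
      rw [h1'] at h1
      simpa using sub_mem h1 hv
  have hKM : K ≤ M := by
    have hle : M ≤ K := fun g hg x hx => hinv g hg x hx
    rcases hle.eq_or_lt with e | e
    · exact e.ge
    · exact absurd (hco.2 K e) hKtop
  rcases line_or_plane hWb hWt with ⟨v, hv, hWv⟩ | ⟨φ, hφ, hWφ⟩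
  · obtain ⟨ψ, hψ⟩ := exists_pairing hv
    let t : Matrix.SpecialLinearGroup (Fin 3) F := ⟨refl2 v ψ, refl2_det hψ⟩
    refine h.centralizer_not_le π hπ hker hoddker hall a (t := t) (Subtype.ext (refl2_sq hψ))
      (fun e => refl2_ne_one h2 hψ (congrArg Subtype.val e)) fun g hg => hKM fun x hx => ?_
    obtain ⟨c, hc⟩ := (comm_refl2 h2 hψ (congrArg Subtype.val hg)).1
    obtain ⟨d, rfl⟩ := (hWv x).1 hx
    exact (hWv _).2 ⟨d * c, by rw [Matrix.mulVec_smul, hc, smul_smul]⟩
  · obtain ⟨v, hv⟩ : ∃ v : Fin 3 → F, φ ⬝ᵥ v ≠ 0 := by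
      obtain ⟨v, hv⟩ := exists_pairing hφ
      exact ⟨v, by rwa [dotProduct_comm]⟩
    let t : Matrix.SpecialLinearGroup (Fin 3) F := ⟨refl2 v φ, refl2_det hv⟩
    refine h.centralizer_not_le π hπ hker hoddker hall a (t := t) (Subtype.ext (refl2_sq hv))
      (fun e => refl2_ne_one h2 hv (congrArg Subtype.val e)) fun g hg => hKM fun x hx => ?_
    exact (hWφ _).2 ((comm_refl2 h2 hv (congrArg Subtype.val hg)).2 x ((hWφ x).1 hx))

section Unit

open Cfsg Cfsg.Agent.Classical.PSUAut Cfsg.Agent.Lie.SUGen Cfsg.Agent.Lie.SU3Pres Cfsg.Agent.Transfer.U3Min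
open Cfsg.Agent.Fus.UnitN Cfsg.Agent.Classical.MaxTv

variable {q : ℕ}

local notation "h₃" => hermForm 3 F q

/-- An element of `SU` as an element of `GL`. -/
def suGL : SU 3 F q →* GL (Fin 3) F := Matrix.SpecialLinearGroup.toGL.comp (SU 3 F q).subtype

omit [Fintype F] in
theorem suGL_val (g : SU 3 F q) : ((suGL g : GL (Fin 3) F) : Matrix (Fin 3) (Fin 3) F) = suVal g := rfl

/-- In `U₃(q)` a point stabiliser containing a root group is a Borel subgroup. -/
theorem Deg.unit_end [IsSimpleGroup G] (h : Deg G Ω) (hF : Fintype.card F = q ^ 2) (hq : 3 ≤ q) (hodd : Odd q)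
    (π : SU 3 F q →* G) (hπ : Function.Surjective π)
    (hker : π.ker ≤ Subgroup.center _) (hoddker : Odd (Nat.card π.ker))
    (hall : ∀ t : G, orderOf t = 2 → Odd (Subgroup.centralizer ({t} : Set G)).index)
    {e n f : Fin 3 → F} (B : Frame3 q e n f) (a : Ω)
    (hroot : ∀ c : F, c + qFrob hF c = 0 → π (Um hF B 0 c) • a = a) : Fintype.card Ω = q ^ 3 + 1 := by
  classical
  have h2 := two_ne (F := F) (hF ▸ hodd.pow)
  obtain ⟨hco, hidx⟩ := h.comap_stab π hπ a
  set M := (stabilizer G a).comap π with hM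
  set X : Subgroup (GL (Fin 3) F) := M.map suGL with hX
  have hiso : ∀ g ∈ X, ∀ x y, h₃ ((g : Matrix (Fin 3) (Fin 3) F) *ᵥ x) ((g : Matrix (Fin 3) (Fin 3) F) *ᵥ y) =
      h₃ x y := by
    rintro _ ⟨g, -, rfl⟩ x y
    exact su_form g x y
  have he : suVal (1 : SU 3 F q) *ᵥ e = e := Matrix.one_mulVec e
  by_cases hirr : Irr X
  · have hU : MaxTv.UPt (qEquiv hF) h₃ X e := fun c hc => by
      refine ⟨_, ⟨Um hF B 0 c, hroot c hc, rfl⟩, fun x => ?_⟩
      obtain ⟨p, r, s, rfl⟩ := exists_co hF B x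
      rw [suGL_val, U_act hF B (OK.skew hF hc)]
      have h1 : h₃ (co e n f p r s) e = s := by
        have := B.h_co hF p r s 1 0 0
        rw [co_e] at this
        rw [this]; simp
      rw [h1]
      simp only [co, map_zero, zero_mul, sub_zero, add_zero, add_smul, smul_smul]
      abel
    have hle := SUThree.guSL_le_of_irr hF hq hiso hirr B.P.ne_zero B.P.ee hU
    exfalso
    refine hco.1 (eq_top_iff.2 fun g _ => ?_)
    obtain ⟨m, hm, e'⟩ := hle (show suGL g ∈ _ from ⟨fun x y => su_form g x y, Units.ext g.1.2⟩)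
    have hmg : m = g := suVal_ext (congrArg (fun u : GL (Fin 3) F => (u : Matrix (Fin 3) (Fin 3) F)) e')
    exact hmg ▸ hm
  rw [irr_iff] at hirr
  push Not at hirr
  obtain ⟨W, hW, hWb, hWt⟩ := hirr
  -- an invariant line
  obtain ⟨v, hv, hline⟩ : ∃ v : Fin 3 → F, v ≠ 0 ∧ ∀ g ∈ M, ∃ c : F, suVal g *ᵥ v = c • v := by
    rcases line_or_plane hWb hWt with ⟨v, hv, hWv⟩ | ⟨φ, hφ, hWφ⟩
    · exact ⟨v, hv, fun g hg => (hWv _).1 (hW _ ⟨g, hg, rfl⟩ v ((hWv v).2 ⟨1, (one_smul F v).symm⟩))⟩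
    · let u : Fin 3 → F := fun i => qFrob hF (φ i)
      have hu : ∀ x, h₃ x u = φ ⬝ᵥ x := fun x => by
        simp only [hermForm, u, cj_pow hF, qFrob_qFrob, dotProduct]
        exact Finset.sum_congr rfl fun i _ => mul_comm _ _
      have hu0 : u ≠ 0 := fun e => hφ (funext fun i => by
        have h1 := congrArg (qFrob hF) (congrFun e i)
        simpa [u, qFrob_qFrob] using h1)
      refine ⟨u, hu0, fun g hg => ?_⟩
      set y := suVal g *ᵥ u with hy
      let ψ : Fin 3 → F := fun i => qFrob hF (y i)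
      have hψ : ∀ x, h₃ x y = ψ ⬝ᵥ x := fun x => by
        simp only [hermForm, ψ, cj_pow hF, dotProduct]
        exact Finset.sum_congr rfl fun i _ => mul_comm _ _
      have hzero : ∀ x, φ ⬝ᵥ x = 0 → ψ ⬝ᵥ x = 0 := fun x hx => by
        have hx' : suVal g⁻¹ *ᵥ x ∈ W := hW _ ⟨g⁻¹, inv_mem hg, rfl⟩ x ((hWφ x).2 hx)
        rw [← hψ, hy, show x = suVal g *ᵥ (suVal g⁻¹ *ᵥ x) by
          rw [Matrix.mulVec_mulVec, suVal_mul_inv, Matrix.one_mulVec], su_form, hu]
        exact (hWφ _).1 hx'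
      obtain ⟨i, hi⟩ : ∃ i, φ i ≠ 0 := Function.ne_iff.1 hφ
      refine ⟨qFrob hF (ψ i / φ i), funext fun j => ?_⟩
      have h1 := hzero (Pi.single j (φ i) - Pi.single i (φ j)) (by simp [dotProduct_sub]; ring)
      simp only [dotProduct_sub, dotProduct_single] at h1
      have h3 : ψ j = ψ i / φ i * φ j := by field_simp; linear_combination h1
      have h4 := congrArg (qFrob hF) h3
      simp only [ψ, map_mul, qFrob_qFrob] at h4
      simpa [u, ψ] using h4
  by_cases hvv : h₃ v v = 0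
  · -- an isotropic point
    obtain ⟨w, P⟩ := exists_pair hF hv hvv
    obtain ⟨u, hue, huf, huu⟩ := exists_aniso_orth hF (n := 3) le_rfl P
    obtain ⟨s, hs⟩ := PSUAut.exists_norm hF (a := (h₃ u u)⁻¹) (by rw [map_inv₀, cj_h_self hF])
    have B' : Frame3 q v (s • u) w := ⟨P, by rw [h_smul_left, hue, mul_zero], by rw [h_smul_left, huf, mul_zero], by
      rw [h_smul_left, h_smul_right hF, ← mul_assoc, hs, inv_mul_cancel₀ huu]⟩
    have hB : M = Bor B' := by
      have hle : M ≤ Bor B' := fun g hg => hline g hg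
      rcases hle.eq_or_lt with e' | e'
      · exact e'
      · have h1 := index_Bor hF B'
        rw [hco.2 _ e', index_top] at h1
        have : 0 < q ^ 3 := pow_pos (by omega) 3
        omega
    rw [← hidx, hB, index_Bor hF B']
  -- otherwise a centraliser of an involution fixes the point
  exfalso
  set ψ : Fin 3 → F := fun i => qFrob hF (v i) with hψ'
  have hψ : ∀ x, h₃ x v = ψ ⬝ᵥ x := fun x => by
    simp only [hermForm, ψ, cj_pow hF, dotProduct]
    exact Finset.sum_congr rfl fun i _ => mul_comm _ _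
  have hψv : ψ ⬝ᵥ v ≠ 0 := by rwa [← hψ]
  have hmem : (⟨refl2 v ψ, refl2_det hψv⟩ : Matrix.SpecialLinearGroup (Fin 3) F) ∈ SU 3 F q := fun x y => by
    show h₃ (refl2 v ψ *ᵥ x) (refl2 v ψ *ᵥ y) = h₃ x y
    rw [refl2_mulVec, refl2_mulVec, h_add_left, h_add_right hF, h_add_right hF, h_neg_left, h_neg_left, h_neg_right hF,
      h_neg_right hF, h_smul_left, h_smul_left, h_smul_right hF, h_smul_right hF, map_div₀, map_mul, map_ofNat,
      ← hψ, ← hψ, ← hψ, cj_h_self hF, cj_h hF, ← cj_h hF y v]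
    have hvv' : h₃ v v ≠ 0 := hvv
    field_simp
    ring
  refine h.centralizer_not_le π hπ hker hoddker hall a (t := ⟨_, hmem⟩) (Subtype.ext (Subtype.ext (refl2_sq hψv)))
    (fun e' => refl2_ne_one h2 hψv (congrArg suVal e')) fun g hg => ?_
  -- the stabiliser of the anisotropic line
  let K : Subgroup (SU 3 F q) :=
    { carrier := {g | ∃ c : F, suVal g *ᵥ v = c • v}
      one_mem' := ⟨1, by rw [suVal_one', Matrix.one_mulVec, one_smul]⟩
      mul_mem' := by
        rintro s t ⟨c, hc⟩ ⟨d, hd⟩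
        exact ⟨d * c, by rw [mulVec_mul, hd, Matrix.mulVec_smul, hc, smul_smul]⟩
      inv_mem' := by
        rintro s ⟨c, hc⟩
        have hc0 : c ≠ 0 := fun h0 => hv (su_injective s (by rw [hc, h0, zero_smul]))
        refine ⟨c⁻¹, ?_⟩
        have h1 : suVal s⁻¹ *ᵥ (c • v) = v := by
          rw [← hc, Matrix.mulVec_mulVec, suVal_inv_mul, Matrix.one_mulVec]
        rw [Matrix.mulVec_smul] at h1
        rw [eq_comm, inv_smul_eq_iff₀ hc0, h1] }
  have hle : M ≤ K := fun g hg => hline g hg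
  rcases hle.eq_or_lt with e' | e'
  · exact (e'.ge (comm_refl2 h2 hψv (congrArg suVal hg)).1 : g ∈ M)
  -- a unitary group fixes no line
  exfalso
  have hK := hco.2 K e'
  obtain ⟨w₀, hw₀, hww⟩ := exists_isotropic hF (n := 3) (by omega)
  have hU := fun g : SU 3 F q => (hK.ge (Subgroup.mem_top g) : g ∈ K)
  obtain ⟨p, r, s, hco'⟩ := exists_co hF B v
  obtain ⟨c₀, hc0, hct⟩ := exists_trace_zero hF
  obtain ⟨c, hc⟩ := hU (Um hF B 0 c₀)
  rw [hco', U_act hF B (OK.skew hF hct)] at hc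
  have hc' : co e n f (p + c₀ * s) r s = co e n f (c * p) (c * r) (c * s) := by
    simpa [co, smul_smul, smul_add] using hc
  obtain ⟨e1, e2, e3⟩ := co_inj hF B hc'
  obtain ⟨d, hd⟩ := hU (Wm hF B)
  rw [hco', W_act hF B] at hd
  have hd' : co e n f s (-r) p = co e n f (d * p) (d * r) (d * s) := by
    simpa [co, smul_smul, smul_add] using hd
  obtain ⟨f1, f2, f3⟩ := co_inj hF B hd'
  by_cases hs0 : s = 0
  · have hp : p = 0 := by rw [f3, hs0, mul_zero]
    subst hs0 hp
    -- then `v` is the unit vector, moved by `U`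
    obtain ⟨b, hb⟩ := exists_trace_eq hF (a := -((1 : F) * qFrob hF 1)) (by simp)
    have hOK : OK hF (1 : F) b := by simp only [OK]; linear_combination hb
    obtain ⟨k, hk⟩ := hU (Um hF B 1 b)
    rw [hco', U_act hF B hOK] at hk
    have hk' : co e n f (-r) r 0 = co e n f 0 (k * r) 0 := by
      simpa [co, smul_smul, smul_add] using hk
    obtain ⟨g1, -, -⟩ := co_inj hF B hk'
    refine hv ?_
    rw [hco', neg_eq_zero.1 g1]
    simp [co]
  · have : c = 1 := by
      have h1 : (c - 1) * s = 0 := by linear_combination -e3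
      exact sub_eq_zero.1 ((mul_eq_zero.1 h1).resolve_right hs0)
    subst this
    exact hc0 ((mul_eq_zero.1 (show c₀ * s = 0 by linear_combination e1)).resolve_right hs0)

end Unit

end Cfsg.Agent.Fus.TwoModFour
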