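import Cfsg.Agent.Lib.Fus.TwoModFour.Simple
import Cfsg.Agent.Lib.Invol.AbgConsumers.WeakEmbedded
import Cfsg.Agent.Lib.Invol.QuasiDihedral
import Cfsg.Agent.Lib.Invol.Wreathed

/-!
# Fusion of the involutions of a two-point Sylow subgroup

For quasi-dihedral `S`, or wreathed `S` with `T` abelian, the involutions of `T` are conjugate in the two-point
stabiliser, so the centraliser of an involution is transitive on the pairs of its fixed points.
-/

set_option autoImplicit false
set_option linter.unusedSectionVars false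
set_option linter.style.haveILetI false

namespace Cfsg.Agent.Fus.TwoModFour

open MulAction Subgroup
open scoped Pointwise
open Cfsg.Agent.Perm.TwoStab (pairStab mem_pairStab card_eq_pairs offPairs card_offPairs)
open Cfsg.Agent.Grp (IsSylowIn)

universe u v

variable {G : Type u} [Group G] [Finite G] {Ω : Type v} [Fintype Ω] [MulAction G Ω] [FaithfulSMul G Ω]
  [IsSimpleGroup G]

/-- The points fixed by all elements of a subgroup. -/
def fixSet (Ω : Type v) [MulAction G Ω] (T : Subgroup G) : Set Ω := {c | ∀ t ∈ T, t • c = c}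

/-- A Sylow subgroup of the group has no subgroup twice its order. -/
theorem not_two_mul_dvd (S : Sylow 2 G) : ¬ 2 * Nat.card ↥(S : Subgroup G) ∣ Nat.card G := by
  haveI : Fact (Nat.Prime 2) := ⟨Nat.prime_two⟩
  intro hd
  rw [S.card_eq_multiplicity, ← pow_succ'] at hd
  exact absurd ((Nat.prime_two.pow_dvd_iff_le_factorization Nat.card_pos.ne').1 hd) (by omega)

namespace Frame

variable {a b : Ω} {T : Subgroup G} {S : Sylow 2 G}

theorem fst_mem (F : Frame a b T S) : a ∈ fixSet Ω T := fun _ ht => (mem_pairStab.1 (F.syl.1 ht)).1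

theorem snd_mem (F : Frame a b T S) : b ∈ fixSet Ω T := fun _ ht => (mem_pairStab.1 (F.syl.1 ht)).2

theorem smul_mem {g : G} (hg : g ∈ normalizer (T : Set G)) {c : Ω} (hc : c ∈ fixSet Ω T) : g • c ∈ fixSet Ω T :=
  fun t ht => by
    have h1 := hc (g⁻¹ * t * g) (by simpa using (mem_normalizer_iff.1 (inv_mem hg) t).1 ht)
    rw [mul_smul, mul_smul, inv_smul_eq_iff] at h1
    exact h1

/-- `T` is a Sylow 2-subgroup of the stabiliser of any two of its fixed points. -/
theorem sylowIn (F : Frame a b T S) (h : Deg G Ω) {c d : Ω} (hcd : c ≠ d) (hc : c ∈ fixSet Ω T)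
    (hd : d ∈ fixSet Ω T) : IsSylowIn 2 T (pairStab G c d) := by
  obtain ⟨T', hT', hle⟩ := exists_sylowIn_ge c d F.syl.2.1 fun t ht => mem_pairStab.2 ⟨hc t ht, hd t ht⟩
  have h1 := h.card_sylow F.ne F.syl S
  have h2 := h.card_sylow hcd hT' S
  rwa [eq_of_le_of_card_ge hle (by omega)]

/-- The normaliser of `T` is transitive on the pairs of its fixed points. -/
theorem exists_normalizer (F : Frame a b T S) (h : Deg G Ω) {c d c' d' : Ω} (hcd : c ≠ d) (hcd' : c' ≠ d')
    (hc : c ∈ fixSet Ω T) (hd : d ∈ fixSet Ω T) (hc' : c' ∈ fixSet Ω T) (hd' : d' ∈ fixSet Ω T) :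
    ∃ g ∈ normalizer (T : Set G), g • c = c' ∧ g • d = d' := by
  obtain ⟨g, h1, h2, h3⟩ := h.exists_conj hcd hcd' (F.sylowIn h hcd hc hd) (F.sylowIn h hcd' hc' hd')
  exact ⟨g, Grp.mem_normalizer_iff_smul.2 h3, h1, h2⟩

theorem even_fix (F : Frame a b T S) (h : Deg G Ω) : 2 ∣ Nat.card ↥(fixSet Ω T) := by
  haveI : Fact (Nat.Prime 2) := ⟨Nat.prime_two⟩
  have h1 := F.syl.2.1.card_modEq_card_fixedPoints Ω
  have h2 : Nat.card ↥(fixedPoints ↥T Ω) = Nat.card ↥(fixSet Ω T) := Nat.card_congr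
    { toFun := fun c => ⟨c.1, fun t ht => c.2 ⟨t, ht⟩⟩
      invFun := fun c => ⟨c.1, fun t => c.2 t t.2⟩
      left_inv := fun c => rfl
      right_inv := fun c => rfl }
  rw [h2, Nat.card_eq_fintype_card (α := Ω)] at h1
  have := h.mod
  unfold Nat.ModEq at h1
  omega

theorem exists_outside (F : Frame a b T S) (h : Deg G Ω) : ∃ e ∈ (S : Subgroup G), e ∉ T := by
  by_contra hno
  push Not at hno
  have h1 := F.relIndex h
  rw [relIndex_eq_one.2 hno] at h1
  omega

/-- An element of the normaliser maps `a` into `{a, b}`. -/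
theorem normalizer_two (F : Frame a b T S) (h : Deg G Ω) {g : G} (hg : g ∈ normalizer (T : Set G)) :
    g • a = a ∨ g • a = b := by
  classical
  haveI : Fact (Nat.Prime 2) := ⟨Nat.prime_two⟩
  set N := normalizer (T : Set G) with hN
  set X := fixSet Ω T with hX
  have hno : ∀ k : ℕ, 4 * Nat.card ↥T ∣ k → ¬ k ∣ Nat.card G := fun k hk hk' => not_two_mul_dvd S (by
    rw [h.card_sylow F.ne F.syl S, ← mul_assoc]
    exact hk.trans hk')
  have hm2 : 2 ∣ Nat.card ↥X := F.even_fix h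
  have hm1 : 2 ≤ Nat.card ↥X := by
    rw [Nat.card_coe_set_eq]
    exact (Set.one_lt_ncard (hs := Set.toFinite _)).2 ⟨a, F.fst_mem, b, F.snd_mem, F.ne⟩
  -- two mod four
  have hm4 : Nat.card ↥X % 4 = 2 := by
    by_contra hcon
    have h4 : 4 ∣ Nat.card ↥X := by omega
    have hpairs := card_eq_pairs N (offPairs X) (a := a) (b := b) ⟨F.ne, F.fst_mem, F.snd_mem⟩
      (fun k hk => ⟨fun e => F.ne (MulAction.injective k e), smul_mem hk F.fst_mem, smul_mem hk F.snd_mem⟩)
      (fun p hp => by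
        obtain ⟨k, hk, e1, e2⟩ := F.exists_normalizer h F.ne hp.1 F.fst_mem F.snd_mem hp.2.1 hp.2.2
        exact ⟨k, hk, Prod.ext e1 e2⟩)
    rw [card_offPairs] at hpairs
    refine hno (Nat.card ↥N) ?_ (card_subgroup_dvd_card N)
    rw [hpairs]
    exact Nat.mul_dvd_mul (h4.mul_right _) (card_dvd_of_le (le_inf Subgroup.le_normalizer F.syl.1))
  obtain ⟨e, heS, heT⟩ := F.exists_outside h
  have heN : e ∈ N := F.le_normalizer h heS
  have hee : e * e ∈ T := mul_self_mem_of_index_two (F.relIndex h) (⟨e, heS⟩ : ↥(S : Subgroup G))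
  -- the sign on the fixed points
  letI : MulAction ↥N ↥X :=
    { smul := fun k c => ⟨(k : G) • (c : Ω), smul_mem k.2 c.2⟩
      one_smul := fun c => Subtype.ext (one_smul G (c : Ω))
      mul_smul := fun k l c => Subtype.ext (mul_smul (k : G) (l : G) (c : Ω)) }
  let φ : ↥N →* ℤˣ := Equiv.Perm.sign.comp (MulAction.toPermHom ↥N ↥X)
  have hfree : ∀ c : ↥X, (⟨e, heN⟩ : ↥N) • c ≠ c := by
    have hfix : ∀ c d : Ω, c ∈ X → d ∈ X → e • c = c → e • d = d → c = d := by
      intro c d hc hd h1 h2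
      by_contra hcd
      have hsyl := F.sylowIn h hcd hc hd
      have hle : T ≤ pairStab G c d ⊓ (S : Subgroup G) := le_inf hsyl.1 F.le
      obtain ⟨T', hT', hle'⟩ := exists_sylowIn_ge c d
        (S.isPGroup'.to_le (inf_le_right : pairStab G c d ⊓ (S : Subgroup G) ≤ S)) inf_le_left
      have h5 := h.card_sylow hcd hT' S
      have h6 := h.card_sylow F.ne F.syl S
      refine heT ?_
      rw [eq_of_le_of_card_ge (hle.trans hle') (by omega)]
      exact hle' ⟨mem_pairStab.2 ⟨h1, h2⟩, heS⟩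
    intro c hc
    have hee' : ∀ d ∈ X, e • e • d = d := fun d hd => by rw [← mul_smul]; exact hd _ hee
    let Fp : Set Ω := {d | d ∈ X ∧ e • d = d}
    have hone : Fp = {(c : Ω)} := Set.eq_singleton_iff_unique_mem.2
      ⟨⟨c.2, congrArg Subtype.val hc⟩, fun d hd => hfix d c hd.1 c.2 hd.2 (congrArg Subtype.val hc)⟩
    let σ : Equiv.Perm ↥X := MulAction.toPerm (⟨e, heN⟩ : ↥N)
    have hσ : σ ^ 2 = 1 := Equiv.ext fun d => by
      rw [pow_two]
      exact Subtype.ext (hee' d d.2)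
    have h2 := Equiv.Perm.two_dvd_card_support hσ
    have hsupp : σ.support = (Finset.univ : Finset ↥X).erase c := by
      ext d
      simp only [Equiv.Perm.mem_support, Finset.mem_erase, Finset.mem_univ, and_true]
      refine ⟨fun hd ed => hd (ed ▸ hc), fun hd ed => hd (Subtype.ext ?_)⟩
      exact hone.subset ⟨d.2, congrArg Subtype.val ed⟩
    rw [hsupp, Finset.card_erase_of_mem (Finset.mem_univ _), Finset.card_univ, ← Nat.card_eq_fintype_card] at h2
    omega
  have hφe : φ ⟨e, heN⟩ = -1 := by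
    have hsq : MulAction.toPermHom ↥N ↥X ⟨e, heN⟩ ^ 2 = 1 := Equiv.ext fun d => by
      rw [pow_two]
      exact Subtype.ext ((mul_smul e e (d : Ω)).symm.trans (d.2 _ hee))
    show Equiv.Perm.sign (MulAction.toPermHom ↥N ↥X ⟨e, heN⟩) = -1
    rw [Equiv.Perm.sign_of_pow_two_eq_one hsq]
    have h0 : Fintype.card (Function.fixedPoints ⇑(MulAction.toPermHom ↥N ↥X ⟨e, heN⟩)) = 0 :=
      Fintype.card_eq_zero_iff.2 ⟨fun c => hfree c.1 c.2⟩
    rw [h0, Nat.sub_zero, ← Nat.card_eq_fintype_card]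
    exact Odd.neg_one_pow ⟨Nat.card ↥X / 4, by omega⟩
  have hidx : φ.ker.index = 2 := by
    rw [index_ker, MonoidHom.range_eq_top.2 (fun s => ?_), card_top, Nat.card_eq_fintype_card, Fintype.card_units_int]
    rcases Int.units_eq_one_or s with rfl | rfl
    exacts [⟨1, map_one _⟩, ⟨_, hφe⟩]
  set N₀ : Subgroup G := φ.ker.map N.subtype with hN₀
  have hN₀mem : ∀ {k : G}, k ∈ N₀ ↔ ∃ hk : k ∈ N, φ ⟨k, hk⟩ = 1 := fun {k} =>
    ⟨fun ⟨⟨l, hl⟩, hl', e⟩ => e ▸ ⟨hl, hl'⟩, fun ⟨hk, hk'⟩ => ⟨⟨k, hk⟩, hk', rfl⟩⟩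
  have hT₀ : ∀ t ∈ T, t ∈ N₀ := fun t ht => hN₀mem.2 ⟨Subgroup.le_normalizer ht, by
    show Equiv.Perm.sign _ = 1
    rw [show MulAction.toPermHom ↥N ↥X ⟨t, Subgroup.le_normalizer ht⟩ = 1 from
      Equiv.ext fun d => Subtype.ext (d.2 t ht), map_one]⟩
  have hnorm : ∀ k ∈ N, ∀ l ∈ N₀, k * l * k⁻¹ ∈ N₀ := fun k hk l hl => by
    obtain ⟨hlN, hl'⟩ := hN₀mem.1 hl
    refine hN₀mem.2 ⟨mul_mem (mul_mem hk hlN) (inv_mem hk), ?_⟩
    show φ (⟨k, hk⟩ * ⟨l, hlN⟩ * ⟨k, hk⟩⁻¹) = 1
    rw [map_mul, map_mul, hl', mul_one, map_inv, mul_inv_cancel]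
  -- the orbit of `a` has odd size
  let O : Set Ω := MulAction.orbit ↥N₀ a
  have hOX : O ⊆ X := fun c ⟨k, hk⟩ => hk ▸ smul_mem (hN₀mem.1 k.2).1 F.fst_mem
  have hodd : ¬ 2 ∣ Nat.card ↥O := fun h2 => by
    refine hno (2 * Nat.card ↥N₀) ?_ ?_
    · have h1 : 2 * Nat.card ↥T ∣ Nat.card ↥N₀ := by
        rw [← card_mul_index (stabilizer ↥N₀ a), MulAction.index_stabilizer, ← Nat.card_coe_set_eq, mul_comm 2]
        refine Nat.mul_dvd_mul ?_ h2
        exact card_dvd_of_injective
          ((Subgroup.inclusion (fun t ht => hT₀ t ht : T ≤ N₀)).codRestrict (stabilizer ↥N₀ a)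
            fun t => (mem_pairStab.1 (F.syl.1 t.2)).1)
          ((MonoidHom.injective_codRestrict _ _ _).2 (Subgroup.inclusion_injective _))
      have := Nat.mul_dvd_mul_left 2 h1
      rwa [← mul_assoc] at this
    · rw [hN₀, card_map_of_injective (subtype_injective N), mul_comm, ← hidx, card_mul_index]
      exact card_subgroup_dvd_card N
  have hinv : ∀ k ∈ N, k • a = a → ∀ c ∈ O, k • c ∈ O := by
    rintro k hk hka c ⟨l, rfl⟩
    refine ⟨⟨k * (l : G) * k⁻¹, hnorm k hk l l.2⟩, ?_⟩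
    show (k * (l : G) * k⁻¹) • a = k • ((l : G) • a)
    rw [mul_smul, mul_smul, inv_smul_eq_iff.2 hka.symm]
  have hOa : ∀ c ∈ O, c = a := by
    intro c hc
    by_contra hca
    refine hodd ?_
    have heq : O = X := by
      refine Set.Subset.antisymm hOX fun d hd => ?_
      by_cases hda : d = a
      · exact hda ▸ MulAction.mem_orbit_self a
      obtain ⟨k, hk, hka, hkd⟩ := F.exists_normalizer h (Ne.symm hca) (Ne.symm hda) F.fst_mem (hOX hc)
        F.fst_mem hd
      exact hkd ▸ hinv k hk hka c hc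
    rw [heq]
    exact hm2
  have hfix₀ : ∀ k ∈ N₀, k • a = a := fun k hk => hOa _ ⟨⟨k, hk⟩, rfl⟩
  have hall : ∀ k ∈ N, k • a = a ∨ k • a = e • a := fun k hk => by
    by_cases hk₀ : k ∈ N₀
    · exact Or.inl (hfix₀ k hk₀)
    refine Or.inr ?_
    have h1 : (⟨e, heN⟩ : ↥N)⁻¹ * ⟨k, hk⟩ ∈ φ.ker := by
      refine (Subgroup.mul_mem_iff_of_index_two hidx).2 (iff_of_false ?_ ?_)
      · rw [inv_mem_iff, MonoidHom.mem_ker, hφe]; decide
      · exact fun hm => hk₀ (hN₀mem.2 ⟨hk, hm⟩)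
    have h2 := hfix₀ _ ⟨_, h1, rfl⟩
    change (e⁻¹ * k) • a = a at h2
    rwa [mul_smul, inv_smul_eq_iff] at h2
  obtain ⟨k, hk, hka, -⟩ := F.exists_normalizer h F.ne F.ne.symm F.fst_mem F.snd_mem F.snd_mem F.fst_mem
  have heb : e • a = b := by
    rcases hall k hk with h1 | h1
    · exact absurd (h1.symm.trans hka) F.ne
    · exact h1.symm.trans hka
  exact heb ▸ hall g hg

/-- Squares of the normaliser fix `a` and `b`. -/
theorem sq_mem (F : Frame a b T S) (h : Deg G Ω) {g : G} (hg : g ∈ normalizer (T : Set G)) :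
    g * g ∈ pairStab G a b := by
  have F' : Frame b a T S := ⟨F.ne.symm, by rw [pairStab, inf_comm]; exact F.syl, F.le⟩
  have hne : g • a ≠ g • b := fun e => F.ne (MulAction.injective g e)
  rw [mem_pairStab, mul_smul, mul_smul]
  rcases F.normalizer_two h hg with h1 | h1 <;> rcases F'.normalizer_two h hg with h2 | h2
  · simp [h1, h2]
  · exact absurd (h1.trans h2.symm) hne
  · exact absurd (h1.trans h2.symm) hne
  · simp [h1, h2]

/-- Fusion in the two-point stabiliser gives transitivity of the centraliser on fixed pairs. -/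
theorem fixed_of_fused (F : Frame a b T S) (h : Deg G Ω)
    (hfuse : ∀ x ∈ T, ∀ y ∈ T, orderOf x = 2 → orderOf y = 2 → ∃ k ∈ pairStab G a b, k * x * k⁻¹ = y)
    {z : G} (hz : orderOf z = 2) {c d c' d' : Ω} (hc : z • c = c) (hd : z • d = d) (hc' : z • c' = c')
    (hd' : z • d' = d') (hcd : c ≠ d) (hcd' : c' ≠ d') : ∃ g : G, g * z = z * g ∧ g • c = c' ∧ g • d = d' := by
  have move : ∀ c d : Ω, c ≠ d → z • c = c → z • d = d →
      ∃ g : G, g • c = a ∧ g • d = b ∧ g * z * g⁻¹ ∈ T := fun c d hcd hc hd => by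
    obtain ⟨T', hT', hle⟩ := exists_sylowIn_ge c d (isPGroup_zpowers_of_orderOf hz) (zpowers_le.2 ⟨hc, hd⟩)
    obtain ⟨g, h1, h2, h3⟩ := h.exists_conj hcd F.ne hT' F.syl
    exact ⟨g, h1, h2, h3 ▸ Subgroup.smul_mem_pointwise_smul z (MulAut.conj g) T' (hle (mem_zpowers z))⟩
  obtain ⟨g, g1, g2, g3⟩ := move c d hcd hc hd
  obtain ⟨g', g1', g2', g3'⟩ := move c' d' hcd' hc' hd'
  obtain ⟨k, hk, hkz⟩ := hfuse _ g3 _ g3' ((MulEquiv.orderOf_eq (MulAut.conj g) z).trans hz)
    ((MulEquiv.orderOf_eq (MulAut.conj g') z).trans hz)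
  refine ⟨g'⁻¹ * k * g, ?_, ?_, ?_⟩
  · calc g'⁻¹ * k * g * z = g'⁻¹ * (k * (g * z * g⁻¹) * k⁻¹) * k * g := by group
      _ = z * (g'⁻¹ * k * g) := by rw [hkz]; group
  · rw [mul_smul, mul_smul, g1, (mem_pairStab.1 hk).1, inv_smul_eq_iff, g1']
  · rw [mul_smul, mul_smul, g2, (mem_pairStab.1 hk).2, inv_smul_eq_iff, g2']

/-- Quasi-dihedral: one involution in `T`. -/
theorem qd_unique (F : Frame a b T S) (h : Deg G Ω) (hS : Cfsg.IsQuasiDihedral (S : Subgroup G)) {x y : G}
    (hx : x ∈ T) (hy : y ∈ T) (hx2 : orderOf x = 2) (hy2 : orderOf y = 2) : x = y := by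
  obtain ⟨n, p, r, hq⟩ := Invol.exists_qd hS
  set B := T.subgroupOf (S : Subgroup G) with hB
  have hidx : B.index = 2 := F.relIndex h
  obtain ⟨g, hgS, hgT⟩ := F.exists_conj_outside h hx2
  have hg2 : orderOf (⟨g * x * g⁻¹, hgS⟩ : ↥(S : Subgroup G)) = 2 := by
    rw [← Subgroup.orderOf_coe]; exact (MulEquiv.orderOf_eq (MulAut.conj g) x).trans hx2
  have hev : ∀ i : ℤ, 2 ∣ i → p ^ i ∈ B := fun i ⟨j, hj⟩ => by
    rw [hj, two_mul, zpow_add]
    exact mul_self_mem_of_index_two hidx _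
  have hrB : r ∉ B := fun hr => hgT (mem_subgroupOf.1 (show (⟨g * x * g⁻¹, hgS⟩ : ↥(S : Subgroup G)) ∈ B by
    rcases hq.involution_cases hg2 with e | ⟨i, hi, e⟩ <;> rw [e]
    exacts [hev _ (dvd_mul_right _ _), mul_mem (hev i hi) hr]))
  have key : ∀ t : G, ∀ ht : t ∈ T, orderOf t = 2 →
      (⟨t, F.le ht⟩ : ↥(S : Subgroup G)) = p ^ (2 * Invol.qq n) := fun t ht ht2 => by
    rcases hq.involution_cases (t := (⟨t, F.le ht⟩ : ↥(S : Subgroup G))) (by rw [← Subgroup.orderOf_coe]; exact ht2)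
      with e | ⟨i, hi, e⟩
    · exact e
    · exact absurd (((B).mul_mem_cancel_left (hev i hi)).1 (e ▸ mem_subgroupOf.2 ht)) hrB
  exact congrArg Subtype.val ((key x hx hx2).trans (key y hy hy2).symm)

omit [FaithfulSMul G Ω] [IsSimpleGroup G] in
/-- A wreathed Sylow subgroup has one central involution. -/
theorem central_involution_unique {S R : Sylow 2 G} (hW : Cfsg.IsWreathed (S : Subgroup G)) {x y : G}
    (hx : x ∈ (R : Subgroup G)) (hy : y ∈ (R : Subgroup G)) (hx2 : orderOf x = 2) (hy2 : orderOf y = 2)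
    (hxc : ∀ s ∈ (R : Subgroup G), s * x = x * s) (hyc : ∀ s ∈ (R : Subgroup G), s * y = y * s) : x = y := by
  classical
  haveI : Fact (Nat.Prime 2) := ⟨Nat.prime_two⟩
  obtain ⟨g, hg⟩ := MulAction.exists_smul_eq G R S
  have hmem : ∀ s : G, s ∈ (S : Subgroup G) → g⁻¹ * s * g ∈ (R : Subgroup G) := fun s hs => by
    rw [← hg, Sylow.coe_subgroup_smul, Subgroup.mem_pointwise_smul_iff_inv_smul_mem, ← map_inv, MulAut.smul_def,
      MulAut.conj_apply, inv_inv] at hs
    exact hs
  have hmem' : ∀ s : G, s ∈ (R : Subgroup G) → g * s * g⁻¹ ∈ (S : Subgroup G) := fun s hs => by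
    rw [← hg, Sylow.coe_subgroup_smul]
    exact Subgroup.smul_mem_pointwise_smul s (MulAut.conj g) _ hs
  have hcen : ∀ t : G, ∀ ht : t ∈ (R : Subgroup G), (∀ s ∈ (R : Subgroup G), s * t = t * s) →
      (⟨g * t * g⁻¹, hmem' t ht⟩ : ↥(S : Subgroup G)) ∈ center ↥(S : Subgroup G) := fun t ht htc =>
    Subgroup.mem_center_iff.2 fun s => Subtype.ext (by
      show (s : G) * (g * t * g⁻¹) = g * t * g⁻¹ * s
      calc (s : G) * (g * t * g⁻¹) = g * ((g⁻¹ * s * g) * t) * g⁻¹ := by group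
        _ = g * t * g⁻¹ * s := by rw [htc _ (hmem s s.2)]; group)
  obtain ⟨n, p, r, w, hw⟩ := Invol.exists_wr hW
  haveI : IsCyclic (center ↥(S : Subgroup G)) := by rw [hw.center_eq]; infer_instance
  let u : center ↥(S : Subgroup G) := ⟨_, hcen x hx hxc⟩
  let v : center ↥(S : Subgroup G) := ⟨_, hcen y hy hyc⟩
  haveI : Fintype (center ↥(S : Subgroup G)) := Fintype.ofFinite _
  have hord : ∀ t : G, orderOf t = 2 → ∀ ht : g * t * g⁻¹ ∈ (S : Subgroup G),
      ∀ hc : (⟨g * t * g⁻¹, ht⟩ : ↥(S : Subgroup G)) ∈ center ↥(S : Subgroup G),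
      orderOf (⟨_, hc⟩ : center ↥(S : Subgroup G)) = 2 := fun t ht _ _ => by
    rw [← Subgroup.orderOf_coe, ← Subgroup.orderOf_coe]
    exact (MulEquiv.orderOf_eq (MulAut.conj g) t).trans ht
  have hu2 : orderOf u = 2 := hord x hx2 _ (hcen x hx hxc)
  have hv2 : orderOf v = 2 := hord y hy2 _ (hcen y hy hyc)
  by_contra hne
  have huv : u ≠ v := fun e => hne (by
    have := congrArg (fun s : center ↥(S : Subgroup G) => ((s : ↥(S : Subgroup G)) : G)) e
    simpa [u, v] using this)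
  have h3 : ({1, u, v} : Finset (center ↥(S : Subgroup G))).card ≤ 2 := by
    refine le_trans (Finset.card_le_card fun s hs => ?_) (IsCyclic.card_pow_eq_one_le two_pos)
    simp only [Finset.mem_insert, Finset.mem_singleton] at hs
    refine Finset.mem_filter.2 ⟨Finset.mem_univ _, ?_⟩
    rcases hs with rfl | rfl | rfl
    · exact one_pow 2
    · exact orderOf_dvd_iff_pow_eq_one.1 (dvd_of_eq hu2)
    · exact orderOf_dvd_iff_pow_eq_one.1 (dvd_of_eq hv2)
  rw [Finset.card_insert_of_notMem, Finset.card_pair huv] at h3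
  · omega
  · simp only [Finset.mem_insert, Finset.mem_singleton, not_or]
    exact ⟨fun e => by rw [← e, orderOf_one] at hu2; omega, fun e => by rw [← e, orderOf_one] at hv2; omega⟩

/-- Wreathed with abelian `T`: the involutions of `T` are conjugate to the central one in the stabiliser. -/
theorem wreathed_fused (F : Frame a b T S) (h : Deg G Ω) (hW : Cfsg.IsWreathed (S : Subgroup G))
    (hab : ∀ x ∈ T, ∀ y ∈ T, x * y = y * x) {x y : G} (hx : x ∈ T) (hy : y ∈ T) (hx2 : orderOf x = 2)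
    (hy2 : orderOf y = 2) : ∃ k ∈ pairStab G a b, k * x * k⁻¹ = y := by
  classical
  haveI : Fact (Nat.Prime 2) := ⟨Nat.prime_two⟩
  have hone : ∀ p q : G, orderOf p = 2 → orderOf q = 2 → _root_.IsConj p q := by
    refine Invol.AbgConsumers.all_conj_of_no_index_two S (Or.inr hW) fun K hK => ?_
    haveI := Subgroup.normal_of_index_eq_two hK
    rcases (inferInstance : K.Normal).eq_bot_or_eq_top with e | e <;> rw [e] at hK
    · rw [index_bot] at hK
      haveI : IsCyclic G := isCyclic_of_prime_card hK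
      exact h.not_comm IsCyclic.isMulCommutative
    · rw [index_top] at hK
      omega
  -- the central involution of `S`
  haveI : Nontrivial ↥(S : Subgroup G) := ⟨⟨x, F.le hx⟩, 1, fun e => by
    rw [show x = 1 from congrArg Subtype.val e, orderOf_one] at hx2; omega⟩
  obtain ⟨⟨⟨c, hcS⟩, hcz⟩, hc2'⟩ := exists_prime_orderOf_dvd_card' (G := center ↥(S : Subgroup G)) 2 (by
    haveI := S.isPGroup'.center_nontrivial
    obtain ⟨j, hj⟩ := IsPGroup.iff_card.1 (S.isPGroup'.to_subgroup (center ↥(S : Subgroup G)))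
    rw [hj]
    refine dvd_pow_self 2 fun e => ?_
    rw [e, pow_zero] at hj
    exact absurd hj (Finite.one_lt_card (α := center ↥(S : Subgroup G))).ne')
  rw [← Subgroup.orderOf_coe, ← Subgroup.orderOf_coe] at hc2'
  have hc2 : orderOf c = 2 := hc2'
  have hcc : ∀ s ∈ (S : Subgroup G), s * c = c * s := fun s hs =>
    congrArg Subtype.val (Subgroup.mem_center_iff.1 hcz ⟨s, hs⟩)
  -- a conjugate of `S` above `T` centring a given involution of `T`
  have hR : ∀ t ∈ T, orderOf t = 2 → ∃ R : Sylow 2 G, T ≤ (R : Subgroup G) ∧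
      ∀ s ∈ (R : Subgroup G), s * t = t * s := by
    intro t ht ht2
    obtain ⟨g, hg⟩ := _root_.isConj_iff.1 (hone c t hc2 ht2)
    set C := centralizer ({t} : Set G)
    have hgS : MulAut.conj g • (S : Subgroup G) ≤ C := by
      intro k hk
      obtain ⟨s, hs, rfl⟩ := (Subgroup.mem_smul_pointwise_iff_exists _ _ _).1 hk
      refine mem_centralizer_singleton_iff.2 ?_
      show g * s * g⁻¹ * t = t * (g * s * g⁻¹)
      rw [← hg]
      calc g * s * g⁻¹ * (g * c * g⁻¹) = g * (s * c) * g⁻¹ := by group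
        _ = g * c * g⁻¹ * (g * s * g⁻¹) := by rw [hcc s hs]; group
    have hTC : T ≤ C := fun k hk => mem_centralizer_singleton_iff.2 (hab k hk t ht)
    obtain ⟨Q, hQ⟩ := (F.syl.2.1.comap_subtype (K := C)).exists_le_sylow
    obtain ⟨R, hQR⟩ := (Q.isPGroup'.map C.subtype).exists_le_sylow
    have h1 : Grp.IsSylowIn 2 ((Q : Subgroup C).map C.subtype) C := Grp.isSylowIn_iff.2 ⟨Q, rfl⟩
    have h2 : Grp.IsSylowIn 2 (MulAut.conj g • (S : Subgroup G)) C := Grp.isSylowIn_iff.2
      ⟨(g • S).subtype hgS, by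
        rw [Sylow.coe_subtype, subgroupOf_map_subtype, Sylow.coe_subgroup_smul]
        exact inf_eq_left.2 hgS⟩
    have hcard : Nat.card ↥((Q : Subgroup C).map C.subtype) = Nat.card ↥(R : Subgroup G) := by
      rw [h1.card, ← h2.card, ← Sylow.coe_subgroup_smul, (g • S).card_eq_multiplicity, R.card_eq_multiplicity]
    have heq := eq_of_le_of_card_ge hQR hcard.ge
    refine ⟨R, fun k hk => ?_, fun s hs => ?_⟩
    · rw [← heq]
      exact ⟨⟨k, hTC hk⟩, hQ hk, rfl⟩
    · rw [← heq] at hs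
      obtain ⟨q, -, rfl⟩ := hs
      exact mem_centralizer_singleton_iff.1 q.2
  -- an element of `R` outside `T` multiplies the other involutions by the central one
  have hmove : ∀ (R : Sylow 2 G) (t : G), T ≤ (R : Subgroup G) → orderOf t = 2 →
      (∀ s ∈ (R : Subgroup G), s * t = t * s) → t ∈ T →
      ∃ u ∈ normalizer (T : Set G), u * t * u⁻¹ = t ∧ ∀ s ∈ T, orderOf s = 2 → s ≠ t → u * s * u⁻¹ = s * t := by
    intro R t hTR ht2 htc htT
    have hRT : T.relIndex (R : Subgroup G) = 2 := Frame.relIndex ⟨F.ne, F.syl, hTR⟩ h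
    have F' : Frame a b T R := ⟨F.ne, F.syl, hTR⟩
    obtain ⟨u, huR, huT⟩ := F'.exists_outside h
    refine ⟨u, F'.le_normalizer h huR, by rw [htc u huR, mul_inv_cancel_right], fun s hs hs2 hst => ?_⟩
    have huu : u * u ∈ T := mul_self_mem_of_index_two hRT (⟨u, huR⟩ : ↥(R : Subgroup G))
    have central : ∀ p ∈ T, orderOf p = 2 → u * p = p * u → p = t := fun p hp hp2 hup => by
      refine central_involution_unique hW (hTR hp) (hTR htT) hp2 ht2 (fun k hk => ?_) htc
      by_cases hkT : k ∈ T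
      · exact hab k hkT p hp
      · have hku : k * u⁻¹ ∈ T := by
          simpa [mem_subgroupOf] using (Subgroup.mul_mem_iff_of_index_two (H := T.subgroupOf (R : Subgroup G)) hRT
            (a := ⟨k, hk⟩) (b := ⟨u, huR⟩⁻¹)).2 (iff_of_false (by simpa [mem_subgroupOf] using hkT)
              (by simpa [mem_subgroupOf] using huT))
        calc k * p = k * u⁻¹ * (u * p) := by group
          _ = k * u⁻¹ * p * u := by rw [hup]; group
          _ = p * k := by rw [hab _ hku p hp]; group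
    set s' := u * s * u⁻¹ with hs'
    have hs'T : s' ∈ T := F'.normal_mem h huR hs
    have hs'2 : orderOf s' = 2 := (MulEquiv.orderOf_eq (MulAut.conj u) s).trans hs2
    have hne : s' ≠ s := fun e => hst (central s hs hs2 (mul_inv_eq_iff_eq_mul.1 e))
    have hss : s * s' = t := by
      refine central _ (mul_mem hs hs'T) (orderOf_eq_prime ?_ ?_) ?_
      · rw [pow_two]
        calc s * s' * (s * s') = s * (s' * s) * s' := by group
          _ = s * s * (s' * s') := by rw [hab s' hs'T s hs]; group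
          _ = 1 := by rw [mul_self_of_orderOf hs2, mul_self_of_orderOf hs'2, one_mul]
      · intro e
        exact hne (mul_left_cancel (e.trans (mul_self_of_orderOf hs2).symm))
      · calc u * (s * s') = s' * (u * u * s * (u * u)⁻¹) * u := by rw [hs']; group
          _ = s' * s * u := by rw [hab _ huu s hs, mul_inv_cancel_right]
          _ = s * s' * u := by rw [hab s' hs'T s hs]
    calc u * s * u⁻¹ = s * s * s' := by rw [mul_self_of_orderOf hs2, one_mul]
      _ = s * t := by rw [mul_assoc, hss]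
  have hcT : c ∈ T := by
    by_contra hcT
    obtain ⟨R, hTR, hRc⟩ := hR x hx hx2
    -- `S` would be abelian
    have hcomm : ∀ k ∈ (S : Subgroup G), k * x = x * k := fun k hk => by
      by_cases hkT : k ∈ T
      · exact hab k hkT x hx
      · have hkc : k * c⁻¹ ∈ T := by
          simpa [mem_subgroupOf] using (Subgroup.mul_mem_iff_of_index_two (H := T.subgroupOf (S : Subgroup G))
            (F.relIndex h) (a := ⟨k, hk⟩) (b := ⟨c, hcS⟩⁻¹)).2 (iff_of_false (by simpa [mem_subgroupOf] using hkT)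
              (by simpa [mem_subgroupOf] using hcT))
        calc k * x = k * c⁻¹ * (c * x) := by group
          _ = k * c⁻¹ * x * c := by rw [← hcc x (F.le hx)]; group
          _ = x * k := by rw [hab _ hkc x hx]; group
    exact hcT (central_involution_unique hW (F.le hx) hcS hx2 hc2 hcomm hcc ▸ hx)
  have toc : ∀ t ∈ T, orderOf t = 2 → ∃ k ∈ pairStab G a b, k * c * k⁻¹ = t := by
    intro t ht ht2
    by_cases htc : t = c
    · exact ⟨1, one_mem _, by rw [htc]; group⟩
    obtain ⟨R, hTR, hRc⟩ := hR t ht ht2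
    obtain ⟨u, huN, hut, hu⟩ := hmove R t hTR ht2 hRc ht
    obtain ⟨w, hwN, hwc, hw⟩ := hmove S c F.le hc2 hcc hcT
    have hct2 : orderOf (c * t) = 2 := orderOf_eq_prime (by
        rw [pow_two]
        calc c * t * (c * t) = c * (t * c) * t := by group
          _ = c * c * (t * t) := by rw [hab t ht c hcT]; group
          _ = 1 := by rw [mul_self_of_orderOf hc2, mul_self_of_orderOf ht2, one_mul])
      fun e => htc (mul_left_cancel (e.trans (mul_self_of_orderOf hc2).symm))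
    set r := w * u
    have hr : ∀ p : G, r * p * r⁻¹ = w * (u * p * u⁻¹) * w⁻¹ := fun p => by simp only [r]; group
    have r1 : r * c * r⁻¹ = t := by
      rw [hr, hu c hcT hc2 (Ne.symm htc), show w * (c * t) * w⁻¹ = (w * c * w⁻¹) * (w * t * w⁻¹) by group,
        hwc, hw t ht ht2 htc, hab t ht c hcT, ← mul_assoc, mul_self_of_orderOf hc2, one_mul]
    have r2 : r * t * r⁻¹ = c * t := by rw [hr, hut, hw t ht ht2 htc, hab t ht c hcT]
    have r3 : r * (c * t) * r⁻¹ = c := by
      calc r * (c * t) * r⁻¹ = (r * c * r⁻¹) * (r * t * r⁻¹) := by group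
        _ = t * (c * t) := by rw [r1, r2]
        _ = c * (t * t) := by rw [← mul_assoc, hab t ht c hcT, mul_assoc]
        _ = c := by rw [mul_self_of_orderOf ht2, mul_one]
    have hrN : r * r ∈ normalizer (T : Set G) := mul_mem (mul_mem hwN huN) (mul_mem hwN huN)
    refine ⟨(r * r) * (r * r), F.sq_mem h hrN, ?_⟩
    calc r * r * (r * r) * c * (r * r * (r * r))⁻¹ = r * (r * (r * (r * c * r⁻¹) * r⁻¹) * r⁻¹) * r⁻¹ := by group
      _ = t := by rw [r1, r2, r3, r1]
  obtain ⟨k, hk, e⟩ := toc x hx hx2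
  obtain ⟨l, hl, e'⟩ := toc y hy hy2
  refine ⟨l * k⁻¹, mul_mem hl (inv_mem hk), ?_⟩
  rw [← e, ← e']
  group

/-- The centraliser of an involution is transitive on the pairs of its fixed points. -/
theorem fixed_two (F : Frame a b T S) (h : Deg G Ω)
    (hS : Cfsg.IsQuasiDihedral (S : Subgroup G) ∨
      (Cfsg.IsWreathed (S : Subgroup G) ∧ ∀ x ∈ T, ∀ y ∈ T, x * y = y * x))
    {z : G} (hz : orderOf z = 2) {c d c' d' : Ω} (hc : z • c = c) (hd : z • d = d) (hc' : z • c' = c')
    (hd' : z • d' = d') (hcd : c ≠ d) (hcd' : c' ≠ d') : ∃ g : G, g * z = z * g ∧ g • c = c' ∧ g • d = d' := by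
  refine F.fixed_of_fused h (fun x hx y hy hx2 hy2 => ?_) hz hc hd hc' hd' hcd hcd'
  rcases hS with hS | ⟨hW, hab⟩
  · exact ⟨1, one_mem _, by rw [F.qd_unique h hS hx hy hx2 hy2]; group⟩
  · exact F.wreathed_fused h hW hab hx hy hx2 hy2

end Frame

end Cfsg.Agent.Fus.TwoModFour
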