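import Cfsg.Agent.Lib.Fus.TwoModFour.IdentModels
import Cfsg.Agent.Lib.Fus.TwoModFour.IdentPairs
import Cfsg.Agent.Lib.Fus.TwoModFour.IdentEnd
import Cfsg.Agent.Lib.Fus.TwoModFour.IdentDihedral
import Cfsg.Agent.Lib.Fus.TwoModFour.AbelCases
import Cfsg.Agent.Lib.Invol.AbgOrder.FinalFrame
import Cfsg.Agent.Lib.Invol.IsolatedSmall.LinearTorus
import Cfsg.Agent.Lib.Classical.UnitCenter
import Cfsg.Agent.Lib.Classical.UnitMultThreeGen
import Cfsg.Agent.S0507
import Cfsg.Agent.S0523

/-!
# The identification of simple doubly transitive groups of degree 2 mod 4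

The semidihedral and wreathed classifications give `L₃(q)`, `U₃(q)` or `M₁₁`.  A root group fixes a point, which
excludes `L₃(q)` and gives degree `q³ + 1` in `U₃(q)`; `q = 3` is excluded by arithmetic.
-/

set_option autoImplicit false
set_option linter.unusedSectionVars false
set_option linter.style.haveILetI false

namespace Cfsg.Agent.Fus.TwoModFour

open MulAction Subgroup
open scoped Pointwise
open Cfsg.Agent.Perm.TwoStab (pairStab)

universe u v

theorem lin_three_degree : ∀ m ∈ Nat.divisors 5616, m % 4 = 2 → 2 < m → ¬ m * (m - 1) ∣ 5616 := by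
  decide +kernel

theorem unit_three_degree : ∀ m ∈ Nat.divisors 6048, m % 4 = 2 → 2 < m → ¬ m * (m - 1) ∣ 6048 := by
  decide +kernel

variable {G : Type u} [Group G] [Finite G] {Ω : Type v} [Fintype Ω] [MulAction G Ω] [FaithfulSMul G Ω]

theorem Deg.degree_dvd (h : Deg G Ω) :
    Fintype.card Ω * (Fintype.card Ω - 1) ∣ Nat.card G := by
  obtain ⟨a, b, hab⟩ := Fintype.exists_pair_of_one_lt_card (show 1 < Fintype.card Ω by have := h.gt; omega)
  exact Dvd.intro _ (h.card_eq hab).symm

/-- All involution centralisers have odd index. -/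
theorem Deg.centralizer_odd [IsSimpleGroup G] (h : Deg G Ω) {a b : Ω} {T : Subgroup G} {S : Sylow 2 G}
    (F : Frame a b T S) (hS : Cfsg.IsQuasiDihedral (S : Subgroup G) ∨ Cfsg.IsWreathed (S : Subgroup G))
    {t : G} (ht : orderOf t = 2) : Odd (centralizer ({t} : Set G)).index := by
  haveI : Fact (Nat.Prime 2) := ⟨Nat.prime_two⟩
  obtain ⟨⟨w, hwS, -, hw⟩, -⟩ := exists_involutions h F
  haveI : Nontrivial ↥(S : Subgroup G) := ⟨⟨⟨w, hwS⟩, 1, fun e => by
    rw [show w = 1 from congrArg Subtype.val e, orderOf_one] at hw; omega⟩⟩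
  haveI := S.isPGroup'.center_nontrivial
  obtain ⟨z, hz⟩ := exists_prime_orderOf_dvd_card' (G := center ↥(S : Subgroup G)) 2 (by
    obtain ⟨k, hk⟩ := IsPGroup.iff_card.1 (S.isPGroup'.to_subgroup (center ↥(S : Subgroup G)))
    rw [hk]
    refine dvd_pow_self 2 fun e => ?_
    rw [e, pow_zero] at hk
    exact absurd hk (Finite.one_lt_card).ne')
  rw [← Subgroup.orderOf_coe, ← Subgroup.orderOf_coe] at hz
  obtain ⟨g, hg⟩ := _root_.isConj_iff.1 (Invol.AbgOrder.one_class S hS _ _ hz ht)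
  have hle : ((g • S : Sylow 2 G) : Subgroup G) ≤ centralizer ({t} : Set G) := by
    intro s hs
    rw [Sylow.coe_subgroup_smul, Subgroup.mem_pointwise_smul_iff_inv_smul_mem, ← map_inv, MulAut.smul_def,
      MulAut.conj_apply, inv_inv] at hs
    have hc : (⟨g⁻¹ * s * g, hs⟩ : ↥(S : Subgroup G)) * z = z * ⟨g⁻¹ * s * g, hs⟩ := mem_center_iff.1 z.2 _
    have hc' : g⁻¹ * s * g * ((z : ↥(S : Subgroup G)) : G) = ((z : ↥(S : Subgroup G)) : G) * (g⁻¹ * s * g) :=
      congrArg Subtype.val hc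
    rw [mem_centralizer_singleton_iff, ← hg]
    calc s * (g * ((z : ↥(S : Subgroup G)) : G) * g⁻¹) = g * (g⁻¹ * s * g * ((z : ↥(S : Subgroup G)) : G)) * g⁻¹ := by group
      _ = g * ((z : ↥(S : Subgroup G)) : G) * g⁻¹ * s := by rw [hc']; group
  have hodd : Odd ((g • S : Sylow 2 G) : Subgroup G).index :=
    Nat.odd_iff.2 (Nat.two_dvd_ne_zero.1 fun e => (g • S).not_dvd_index e)
  exact hodd.of_dvd_nat (index_dvd_of_le hle)

/-- No `L₃(q)`. -/
theorem Deg.not_lin_three [IsSimpleGroup G] (h : Deg G Ω) (h2 : ∀ z : G, orderOf z = 2 → Two Ω z)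
    (hall : ∀ t : G, orderOf t = 2 → Odd (centralizer ({t} : Set G)).index)
    {K : Type} [Field K] [Fintype K] (hodd : Odd (Fintype.card K))
    (e : G ≃* Matrix.ProjectiveSpecialLinearGroup (Fin 3) K) : False := by
  classical
  let π : Matrix.SpecialLinearGroup (Fin 3) K →* G :=
    e.symm.toMonoidHom.comp (QuotientGroup.mk' (center _))
  have hπ : Function.Surjective π := e.symm.surjective.comp (QuotientGroup.mk'_surjective _)
  have hker : π.ker = center _ :=
    Subgroup.ext fun x => (MulEquiv.map_eq_one_iff e.symm).trans (QuotientGroup.eq_one_iff x)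
  have hK := Fintype.one_lt_card (α := K)
  have hc : Nat.card π.ker ∣ 3 := by
    rw [hker, Classical.natCard_center_SL]
    exact Nat.gcd_dvd_left _ _
  have hoddker : Odd (Nat.card π.ker) := (by decide : Odd 3).of_dvd_nat hc
  by_cases h5 : 5 ≤ Fintype.card K
  · obtain ⟨a, ha⟩ := h.lin_root h2 hodd h5 π hπ hker.le hoddker
    exact h.lin_end hodd π hπ hker.le hoddker hall a ha
  have h3 : Fintype.card K = 3 := by
    obtain ⟨r, hr⟩ := hodd
    omega
  have hcard : Nat.card G = 5616 := by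
    rw [Nat.card_congr e.toEquiv]
    have h1 := Classical.natCard_PSL_mul (F := K) 3 (by norm_num)
    rw [Invol.IsolatedSmall.natCard_SL_three, Classical.natCard_units_field, h3] at h1
    simpa using h1
  have hd := h.degree_dvd
  rw [hcard] at hd
  exact lin_three_degree _ (Nat.mem_divisors.2 ⟨(Dvd.intro _ rfl).trans hd, by norm_num⟩) h.mod h.gt hd

/-- The degree in `U₃(q)`. -/
theorem Deg.unit_three [IsSimpleGroup G] (h : Deg G Ω) (h2 : ∀ z : G, orderOf z = 2 → Two Ω z)
    (hall : ∀ t : G, orderOf t = 2 → Odd (centralizer ({t} : Set G)).index)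
    {K : Type} [Field K] [Fintype K] {q : ℕ} (hF : Fintype.card K = q ^ 2) (hodd : Odd q)
    (e : G ≃* Cfsg.PSU 3 K q) : Concl G Ω := by
  classical
  have hq := Classical.two_le_q hF
  let π : Cfsg.SU 3 K q →* G := e.symm.toMonoidHom.comp (QuotientGroup.mk' (center _))
  have hπ : Function.Surjective π := e.symm.surjective.comp (QuotientGroup.mk'_surjective _)
  have hker : π.ker = center _ :=
    Subgroup.ext fun x => (MulEquiv.map_eq_one_iff e.symm).trans (QuotientGroup.eq_one_iff x)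
  have hc : Nat.card π.ker = Nat.gcd 3 (q + 1) := by
    rw [hker, Classical.natCard_center_SU hF (by norm_num)]
  have hoddker : Odd (Nat.card π.ker) := (by decide : Odd 3).of_dvd_nat (hc ▸ Nat.gcd_dvd_left _ _)
  by_cases h5 : 5 ≤ q
  · obtain ⟨x, n, y, B⟩ := Lie.SUGen.exists_frame hF
    obtain ⟨a, ha⟩ := h.unit_root h2 hF hodd h5 B π hπ hker.le hoddker
    exact Or.inr (Or.inr ⟨K, _, _, q, hF, by omega,
      h.unit_end hF (by omega) hodd π hπ hker.le hoddker hall B a ha, ⟨e⟩⟩)
  exfalso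
  have h3 : q = 3 := by
    obtain ⟨r, hr⟩ := hodd
    omega
  have hcard : Nat.card G = 6048 := by
    have h1 := card_eq_card_quotient_mul_card_subgroup π.ker
    rw [hc, Nat.card_congr (QuotientGroup.quotientKerEquivOfSurjective π hπ).toEquiv,
      Classical.UnitMult.natCard_SU3 hF, h3] at h1
    simpa using h1.symm
  have hd := h.degree_dvd
  rw [hcard] at hd
  exact unit_three_degree _ (Nat.mem_divisors.2 ⟨(Dvd.intro _ rfl).trans hd, by norm_num⟩) h.mod h.gt hd

/-- The identification. -/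
theorem identStmt : IdentStmt.{u, v} := by
  intro G _ _ _ Ω _ _ _ h a b T S F hS
  rcases hS with ⟨k, hk, hD⟩ | hS
  · exact h.dihedral S hk hD
  have hS' : Cfsg.IsQuasiDihedral (S : Subgroup G) ∨ Cfsg.IsWreathed (S : Subgroup G) := hS.imp id And.left
  have h2 : ∀ z : G, orderOf z = 2 → Two Ω z := fun z hz c d c' d' hc hd hc' hd' hcd hcd' =>
    F.fixed_two h hS hz hc hd hc' hd' hcd hcd'
  have hall := fun t ht => h.centralizer_odd F hS' (t := t) ht
  rcases hS' with hQ | hW
  · rcases Cfsg.Agent.S0507.result S hQ with ⟨K, _, _, hK, ⟨e⟩⟩ | ⟨K, _, _, q, hF, hq, ⟨e⟩⟩ | hM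
    · exact (h.not_lin_three h2 hall (Nat.odd_iff.2 (by omega)) e).elim
    · exact h.unit_three h2 hall hF (Nat.odd_iff.2 (by omega)) e
    · exact (h.not_isM11 hM).elim
  · rcases Cfsg.Agent.S0523.result S hW with ⟨K, _, _, hK, ⟨e⟩⟩ | ⟨K, _, _, q, hF, hq, ⟨e⟩⟩ | hM
    · exact (h.not_lin_three h2 hall hK e).elim
    · exact h.unit_three h2 hall hF hq e
    · exact (h.not_isM11 hM).elim

end Cfsg.Agent.Fus.TwoModFour
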