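import Cfsg.Agent.Lib.Fus.TwoModFour.IdentCover
import Cfsg.Agent.Lib.Classical.UnitMultThreeTwo

/-!
# The root groups of `L₃(q)` and `U₃(q)` fix points
-/

set_option autoImplicit false
set_option linter.unusedSectionVars false
set_option linter.style.haveILetI false

namespace Cfsg.Agent.Fus.TwoModFour

open Matrix MulAction Subgroup
open Cfsg.Agent.Grp.SL2 (up)
open Cfsg.Agent.Classical Cfsg.Agent.Classical.PSUAut Cfsg.Agent.Fus.UnitN Cfsg.Agent.Lie.SUGen
  Cfsg.Agent.Lie.SU3Pres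

universe u v

theorem two_ne_of_odd {F : Type} [Field F] [Fintype F] (hodd : Odd (Fintype.card F)) : (2 : F) ≠ 0 :=
  Ring.two_ne_zero fun e => by
    have := FiniteField.even_card_iff_char_two.1 e
    rw [Nat.odd_iff] at hodd
    omega

theorem exists_units_order {F : Type} [Field F] [Fintype F] {n : ℕ} (hn : n ∣ Fintype.card F - 1) :
    ∃ u : Fˣ, orderOf u = n := by
  obtain ⟨g, hg⟩ := IsCyclic.exists_generator (α := Fˣ)
  have ho : orderOf g = Fintype.card F - 1 := by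
    rw [orderOf_eq_card_of_forall_mem_zpowers hg, Nat.card_units, Nat.card_eq_fintype_card]
  obtain ⟨k, hk⟩ := hn
  have hk0 : k ≠ 0 := fun e => by
    have := orderOf_pos g
    rw [ho, hk, e, mul_zero] at this
    omega
  refine ⟨g ^ k, ?_⟩
  rw [orderOf_pow_of_dvd hk0 (by rw [ho, hk]; exact Dvd.intro_left n rfl), ho, hk,
    Nat.mul_div_cancel _ (Nat.pos_of_ne_zero hk0)]

theorem pow_half_eq_neg_one {F : Type} [Field F] {u : Fˣ} {m : ℕ} (h0 : 0 < m) (h : orderOf u = 2 * m) :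
    (u : F) ^ m = -1 := by
  have h1 : ((u : F) ^ m) ^ 2 = 1 := by
    rw [← pow_mul, mul_comm, ← h, ← Units.val_pow_eq_pow_val, pow_orderOf_eq_one, Units.val_one]
  refine (sq_eq_one_iff.1 h1).resolve_left fun e => ?_
  have h2 := Nat.le_of_dvd h0 (h ▸ orderOf_dvd_of_pow_eq_one (x := u) (n := m) (Units.ext (by
    rw [Units.val_pow_eq_pow_val, e, Units.val_one])))
  omega

section

variable {G : Type u} [Group G] [Finite G] {Ω : Type v} [Fintype Ω] [MulAction G Ω] [FaithfulSMul G Ω]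
  [IsSimpleGroup G]

/-- In a central quotient of `SL₃(q)` the upper root group fixes a point. -/
theorem Deg.lin_root (h : Deg G Ω) (h2 : ∀ z : G, orderOf z = 2 → Two Ω z)
    {F : Type} [Field F] [Fintype F] (hodd : Odd (Fintype.card F)) (h5 : 5 ≤ Fintype.card F)
    (π : Matrix.SpecialLinearGroup (Fin 3) F →* G) (hπ : Function.Surjective π)
    (hker : π.ker ≤ Subgroup.center _) (hoddker : Odd (Nat.card π.ker)) :
    ∃ a : Ω, ∀ x : F, π (Invol.Psl3C.blkHom (Matrix.SpecialLinearGroup.toGL (up x))) • a = a := by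
  let θ : Matrix.SpecialLinearGroup (Fin 2) F →* Matrix.SpecialLinearGroup (Fin 3) F :=
    Invol.Psl3C.blkHom.comp Matrix.SpecialLinearGroup.toGL
  have hid : ∀ A : GL (Fin 2) F, Matrix.GeneralLinearGroup.map (RingHom.id F) A = A := fun A =>
    Units.ext (Matrix.ext fun i j => rfl)
  refine h.cover_root h2 hodd h5 (RingHom.id F) (two_ne_of_odd hodd) π hπ hker hoddker
    (MonoidHom.id _) Function.injective_id 1 θ (fun A => ?_) ?_ ?_
  · rw [hid, one_mul, inv_one, mul_one]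
    rfl
  · intro c A _ _
    exact ⟨1, A, one_ne_zero, Matrix.ext fun i j => by simp⟩
  · intro h9
    obtain ⟨u, hu⟩ := exists_units_order (F := F) (n := 8) (by rw [h9])
    let A : GL (Fin 2) F := Matrix.GeneralLinearGroup.mkOfDetNeZero (!![(u : F), 0; 0, 1]) (by simp)
    have hpow : ∀ k : ℕ, ((A ^ k : GL (Fin 2) F) : Matrix (Fin 2) (Fin 2) F) = !![(u : F) ^ k, 0; 0, 1] := by
      intro k
      induction k with
      | zero =>
        rw [pow_zero, Units.val_one]
        ext i j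
        fin_cases i <;> fin_cases j <;> simp
      | succ k ih =>
        rw [pow_succ, Units.val_mul, ih]
        show !![(u : F) ^ k, 0; 0, 1] * !![(u : F), 0; 0, 1] = _
        ext i j
        fin_cases i <;> fin_cases j <;> simp [Matrix.mul_apply, Fin.sum_univ_two, pow_succ]
    have h4 : (u : F) ^ 4 = -1 := pow_half_eq_neg_one (by norm_num) (by rw [hu])
    refine ⟨Invol.Psl3C.blkHom A, ?_, ?_, ?_⟩
    · show _ * Invol.Psl3C.blkHom (Matrix.SpecialLinearGroup.toGL (-1)) =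
        Invol.Psl3C.blkHom (Matrix.SpecialLinearGroup.toGL (-1)) * _
      rw [← map_mul, ← map_mul]
      refine congrArg _ (Units.ext (Matrix.ext fun i j => ?_))
      simp
    · rw [← map_pow, show A ^ 16 = 1 from Units.ext ?_, map_one]
      rw [hpow, Units.val_one, show 16 = 4 * 4 from rfl, pow_mul, h4]
      ext i j
      fin_cases i <;> fin_cases j <;> simp
      norm_num
    · show _ * Invol.Psl3C.blkHom (Matrix.SpecialLinearGroup.toGL (up 1)) =
        Invol.Psl3C.blkHom (Matrix.SpecialLinearGroup.toGL (up (-1))) * _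
      rw [← map_pow, ← map_mul, ← map_mul]
      refine congrArg _ (Units.ext ?_)
      rw [Units.val_mul, Units.val_mul, hpow, h4]
      show !![(-1 : F), 0; 0, 1] * !![1, 1; 0, 1] = !![1, -1; 0, 1] * !![(-1 : F), 0; 0, 1]
      ext i j
      fin_cases i <;> fin_cases j <;> simp [Matrix.mul_apply, Fin.sum_univ_two]

/-- In a central quotient of `SU₃(q)` the root group fixes a point. -/
theorem Deg.unit_root (h : Deg G Ω) (h2 : ∀ z : G, orderOf z = 2 → Two Ω z)
    {F : Type} [Field F] [Fintype F] {q : ℕ} (hF : Fintype.card F = q ^ 2) (hodd : Odd q) (h5 : 5 ≤ q)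
    {e n f : Fin 3 → F} (B : Frame3 q e n f) (π : Cfsg.SU 3 F q →* G) (hπ : Function.Surjective π)
    (hker : π.ker ≤ Subgroup.center _) (hoddker : Odd (Nat.card π.ker)) :
    ∃ a : Ω, ∀ c : F, c + qFrob hF c = 0 → π (Um hF B 0 c) • a = a := by
  classical
  obtain ⟨μ, hμ0, hμ⟩ := exists_trace_zero hF
  obtain ⟨φ, -, hφ⟩ := UnitMult.exists_sl2_emb hF B hμ0 hμ
  haveI : Fintype (UnitMult.fixK hF) := Fintype.ofFinite _
  have hK : Fintype.card (UnitMult.fixK hF) = q := by
    rw [← Nat.card_eq_fintype_card]; exact UnitMult.natCard_fixK hF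
  have hcμ : qFrob hF μ = -μ := eq_neg_of_add_eq_zero_right hμ
  have hskew : ∀ s : UnitMult.fixK hF, μ * (s : F) + qFrob hF (μ * (s : F)) = 0 := fun s => by
    rw [map_mul, hcμ, show qFrob hF (s : F) = (s : F) from s.2]; ring
  have hup : ∀ s : UnitMult.fixK hF, φ (up s) = Um hF B 0 (μ * (s : F)) := fun s =>
    ext_co hF B fun x y z => by
      rw [hφ, U_act hF B (OK.skew hF (hskew s))]
      simp [up]
  -- the change of basis
  let P₀ : Matrix (Fin 3) (Fin 3) F := Matrix.of fun i j => ![e, μ⁻¹ • f, n] j i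
  have hP₀v : ∀ v, P₀ *ᵥ v = co e n f (v 0) (v 2) (μ⁻¹ * v 1) := fun v => by
    funext i
    simp [P₀, Matrix.mulVec, dotProduct, Fin.sum_univ_three, co]
    ring
  have hd : P₀.det ≠ 0 := by
    refine IsUnit.ne_zero ?_
    rw [← Matrix.isUnit_iff_isUnit_det, ← Matrix.mulVec_injective_iff_isUnit]
    intro v w hvw
    rw [hP₀v, hP₀v] at hvw
    obtain ⟨e0, e2, e1⟩ := co_inj hF B hvw
    funext i
    fin_cases i
    · exact e0
    · exact mul_left_cancel₀ (inv_ne_zero hμ0) e1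
    · exact e2
  let d : F := (P₀.det)⁻¹
  obtain ⟨P, hPv⟩ : ∃ P : Matrix.SpecialLinearGroup (Fin 3) F,
      ∀ v, (P : Matrix (Fin 3) (Fin 3) F) *ᵥ v = co e n f (v 0) (d * v 2) (μ⁻¹ * v 1) :=
    ⟨⟨P₀ * Matrix.diagonal ![1, 1, d], by
      rw [Matrix.det_mul, Matrix.det_diagonal, Fin.prod_univ_three]
      simp [d, hd]⟩, fun v => by
      show (P₀ * Matrix.diagonal ![1, 1, d]) *ᵥ v = _
      rw [← Matrix.mulVec_mulVec, hP₀v]
      simp [Matrix.mulVec_diagonal]⟩
  have hblkv : ∀ (A : GL (Fin 2) F) (v : Fin 3 → F),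
      (Invol.Psl3C.blkHom A : Matrix.SpecialLinearGroup (Fin 3) F).1 *ᵥ v =
        ![(A : Matrix (Fin 2) (Fin 2) F) 0 0 * v 0 + (A : Matrix (Fin 2) (Fin 2) F) 0 1 * v 1,
          (A : Matrix (Fin 2) (Fin 2) F) 1 0 * v 0 + (A : Matrix (Fin 2) (Fin 2) F) 1 1 * v 1,
          (A : Matrix (Fin 2) (Fin 2) F).det⁻¹ * v 2] := fun A v => by
    rw [Invol.Psl3C.coe_blkHom]
    funext i
    fin_cases i <;> simp [Matrix.mulVec, dotProduct, Fin.sum_univ_three]
  suffices hsuff : ∃ a : Ω, ∀ x : UnitMult.fixK hF, π (φ (up x)) • a = a by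
    obtain ⟨a, ha⟩ := hsuff
    refine ⟨a, fun c hc => ?_⟩
    have hmem : c / μ ∈ UnitMult.fixK hF := by
      show qFrob hF (c / μ) = c / μ
      rw [map_div₀, hcμ, eq_neg_of_add_eq_zero_right hc, neg_div_neg_eq]
    have := ha ⟨c / μ, hmem⟩
    rwa [hup, show μ * (c / μ) = c from mul_div_cancel₀ c hμ0] at this
  refine h.cover_root h2 (hK.symm ▸ hodd) (hK.symm ▸ h5) (UnitMult.fixK hF).subtype
    (two_ne_of_odd (hF ▸ hodd.pow)) π hπ hker hoddker (Cfsg.SU 3 F q).subtype Subtype.val_injective P φ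
    (fun A => ?_) ?_ ?_
  · rw [eq_mul_inv_iff_mul_eq]
    refine Subtype.ext (Matrix.ext_iff_mulVec.2 fun v => ?_)
    rw [Matrix.SpecialLinearGroup.coe_mul, Matrix.SpecialLinearGroup.coe_mul, ← Matrix.mulVec_mulVec,
      ← Matrix.mulVec_mulVec, hPv, hPv, hblkv]
    show suVal (φ A) *ᵥ _ = _
    rw [hφ]
    have hA : (Matrix.GeneralLinearGroup.map (UnitMult.fixK hF).subtype (Matrix.SpecialLinearGroup.toGL A) :
        Matrix (Fin 2) (Fin 2) F).det = 1 := by
      show (A.1.map (UnitMult.fixK hF).subtype).det = 1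
      rw [← RingHom.mapMatrix_apply, ← RingHom.map_det, A.2, map_one]
    rw [hA]
    simp
    congr 1 <;> field_simp
  · intro c A _ hA
    have hcv : ∀ v, suVal c *ᵥ ((P : Matrix (Fin 3) (Fin 3) F) *ᵥ v) =
        (P : Matrix (Fin 3) (Fin 3) F) *ᵥ ((Invol.Psl3C.blkHom A : Matrix.SpecialLinearGroup (Fin 3) F).1 *ᵥ v) := by
      intro v
      have e : (c : Matrix.SpecialLinearGroup (Fin 3) F) * P = P * Invol.Psl3C.blkHom A := by
        rw [hA]; show _ = P * (P⁻¹ * (c : Matrix.SpecialLinearGroup (Fin 3) F) * P); group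
      rw [Matrix.mulVec_mulVec, Matrix.mulVec_mulVec, ← Matrix.SpecialLinearGroup.coe_mul]
      exact congrArg (fun M : Matrix.SpecialLinearGroup (Fin 3) F => M.1 *ᵥ v) e
    have hform : ∀ x y : Fin 3 → F, Cfsg.hermForm 3 F q (suVal c *ᵥ x) (suVal c *ᵥ y) = Cfsg.hermForm 3 F q x y :=
      c.2
    obtain ⟨a₀, b₀, c₀, d₀, ea, eb, ec, ed⟩ : ∃ a₀ b₀ c₀ d₀, a₀ = (A : Matrix (Fin 2) (Fin 2) F) 0 0 ∧
        b₀ = (A : Matrix (Fin 2) (Fin 2) F) 0 1 ∧ c₀ = (A : Matrix (Fin 2) (Fin 2) F) 1 0 ∧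
        d₀ = (A : Matrix (Fin 2) (Fin 2) F) 1 1 := ⟨_, _, _, _, rfl, rfl, rfl, rfl⟩
    have key : ∀ x y x' y' : F,
        -((a₀ * x + b₀ * y) * qFrob hF (c₀ * x' + d₀ * y')) + (c₀ * x + d₀ * y) * qFrob hF (a₀ * x' + b₀ * y') =
          -(x * qFrob hF y') + y * qFrob hF x' := by
      intro x y x' y'
      have e := hform ((P : Matrix (Fin 3) (Fin 3) F) *ᵥ ![x, y, 0]) ((P : Matrix (Fin 3) (Fin 3) F) *ᵥ ![x', y', 0])
      rw [hcv, hcv, hblkv, hblkv, hPv, hPv, hPv, hPv, B.h_co hF, B.h_co hF] at e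
      simp [← ea, ← eb, ← ec, ← ed, hcμ] at e
      refine mul_left_cancel₀ (inv_ne_zero hμ0) ?_
      simp only [map_add, map_mul]
      linear_combination e
    have k1 := key 1 0 1 0
    have k2 := key 1 0 0 1
    have k3 := key 0 1 1 0
    have k4 := key 0 1 0 1
    simp at k1 k2 k3 k4
    have hΔ : a₀ * d₀ - b₀ * c₀ ≠ 0 := by
      rw [ea, eb, ec, ed, ← Matrix.det_fin_two]
      exact ((Matrix.isUnit_iff_isUnit_det _).1 A.isUnit).ne_zero
    have hfix : ∀ i j, (a₀ * d₀ - b₀ * c₀) * qFrob hF ((A : Matrix (Fin 2) (Fin 2) F) i j) =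
        (A : Matrix (Fin 2) (Fin 2) F) i j := by
      intro i j
      fin_cases i <;> fin_cases j <;> simp [← ea, ← eb, ← ec, ← ed]
      · linear_combination a₀ * k3 - b₀ * k1
      · linear_combination a₀ * k4 - b₀ * k2
      · linear_combination c₀ * k3 - d₀ * k1
      · linear_combination c₀ * k4 - d₀ * k2
    obtain ⟨r, hr, i₀, j₀, hr'⟩ : ∃ r, r ≠ 0 ∧ ∃ i j, r = (A : Matrix (Fin 2) (Fin 2) F) i j := by
      by_contra hcon
      push Not at hcon
      have e0 : ∀ i j, (A : Matrix (Fin 2) (Fin 2) F) i j = 0 := fun i j => by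
        by_contra hne
        exact hcon _ hne i j rfl
      exact hΔ (by rw [ea, eb, ec, ed, e0 0 0, e0 0 1]; ring)
    have hB : ∀ i j, (A : Matrix (Fin 2) (Fin 2) F) i j / r ∈ UnitMult.fixK hF := fun i j => by
      show qFrob hF ((A : Matrix (Fin 2) (Fin 2) F) i j / r) = (A : Matrix (Fin 2) (Fin 2) F) i j / r
      have e1 := hfix i j
      have e2 := hfix i₀ j₀
      rw [← hr'] at e2
      rw [map_div₀, div_eq_div_iff ((map_ne_zero _).2 hr) hr]
      refine mul_left_cancel₀ hΔ ?_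
      linear_combination r * e1 - (A : Matrix (Fin 2) (Fin 2) F) i j * e2
    let M : Matrix (Fin 2) (Fin 2) (UnitMult.fixK hF) := Matrix.of fun i j => ⟨_, hB i j⟩
    have hM : (A : Matrix (Fin 2) (Fin 2) F) = r • M.map (UnitMult.fixK hF).subtype :=
      Matrix.ext fun i j => (mul_div_cancel₀ _ hr).symm
    have hMd : M.det ≠ 0 := fun e => by
      have := ((Matrix.isUnit_iff_isUnit_det _).1 A.isUnit).ne_zero
      rw [hM, Matrix.det_smul, ← RingHom.mapMatrix_apply, ← RingHom.map_det, e, map_zero, mul_zero] at this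
      exact this rfl
    exact ⟨r, Matrix.GeneralLinearGroup.mkOfDetNeZero M hMd, hr, hM⟩
  · intro h9
    rw [hK] at h9
    subst h9
    obtain ⟨u, hu⟩ := exists_units_order (F := F) (n := 16) (by rw [hF]; norm_num)
    have h8 : (u : F) ^ 8 = -1 := pow_half_eq_neg_one (by norm_num) (by rw [hu])
    have hu0 : (u : F) ≠ 0 := u.ne_zero
    have hT : ∀ k : ℕ, Tm hF B (u : F) ^ k = Tm hF B ((u : F) ^ k) := fun k => by
      rw [← Units.val_pow_eq_pow_val]
      exact ((UnitMult.t1Hom hF B).map_pow u k).symm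
    have hneg : ∀ x y z, suVal (φ (-1)) *ᵥ co e n f x y z = co e n f (-x) y (-z) := fun x y z => by
      rw [hφ]; simp
    refine ⟨Tm hF B (u : F), ext_co hF B fun x y z => ?_, ?_, ext_co hF B fun x y z => ?_⟩
    · rw [mulVec_mul, mulVec_mul, hneg, T_act hF B hu0, T_act hF B hu0, hneg]
      simp
    · rw [hT, show 16 = 8 * 2 from rfl, pow_mul, h8]
      norm_num
      exact T_one hF B
    · have hL : qFrob hF ((u : F) ^ 4) * (u : F) ^ 4 = -1 := by
        rw [qFrob_apply hF, ← pow_mul, ← pow_add, show 4 * 9 + 4 = 8 * 5 from rfl, pow_mul, h8]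
        norm_num
      have hL0 : (u : F) ^ 4 ≠ 0 := pow_ne_zero _ hu0
      have hL1 : (qFrob hF ((u : F) ^ 4))⁻¹ = -((u : F) ^ 4) := inv_eq_of_mul_eq_one_right (by
        rw [mul_neg, hL, neg_neg])
      rw [hT, hup, hup, mulVec_mul, mulVec_mul, U_act hF B (OK.skew hF (hskew _)), T_act hF B hL0, T_act hF B hL0,
        U_act hF B (OK.skew hF (hskew _)), hL1]
      simp
      congr 1
      ring

end

end Cfsg.Agent.Fus.TwoModFour
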