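import Cfsg.Agent.Lib.Fus.TwoModFour.IdentDefs
import Cfsg.Agent.Lib.Invol.GW.Consumers.Dihedral
import Cfsg.Agent.Lib.Classical.SLNormal
import Cfsg.Agent.Lib.Classical.DicksonSL
import Cfsg.Agent.Lib.Classical.DicksonClasses

/-!
# An involution centraliser with a normal `SL₂(q)` acting on the fixed points of the involution

The centraliser is doubly transitive on the `f = 2 mod 4` fixed points. Either `SL₂(q)` fixes them all, or it is
transitive, `f - 1` divides the order of the image of its point stabiliser in `PSL₂(q)`, and that stabiliser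
contains a root group: in both cases a root group fixes a point.
-/

set_option autoImplicit false
set_option linter.unusedSectionVars false
set_option linter.style.haveILetI false

namespace Cfsg.Agent.Fus.TwoModFour

open Matrix MulAction Subgroup
open scoped Pointwise
open Cfsg.Agent.Perm.TwoStab (pairStab Fx mem_Fx mem_pairStab offPairs card_offPairs card_eq_pairs)
open Cfsg.Agent.Grp.SL2 (up IsScalar)
open Cfsg.Agent.PSL2Spec (proj)

universe u v

/-- The arithmetic of the point stabiliser in `PSL₂(q)`. -/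
def DegreeStmt : Prop :=
  ∀ (F : Type) [Field F] [Fintype F], Odd (Fintype.card F) → 5 ≤ Fintype.card F →
    ∀ H : Subgroup (Matrix.ProjectiveSpecialLinearGroup (Fin 2) F), H.index % 4 = 2 → 2 < H.index →
      H.index - 1 ∣ Nat.card H → Fintype.card F ∣ Nat.card H ∨ (Fintype.card F = 9 ∧ H.index = 6)

/-- The centraliser of `z` is doubly transitive on the points fixed by `z`. -/
def Two {G : Type u} [Group G] (Ω : Type v) [MulAction G Ω] (z : G) : Prop :=
  ∀ c d c' d' : Ω, z • c = c → z • d = d → z • c' = c' → z • d' = d' → c ≠ d → c' ≠ d' →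
    ∃ g : G, g * z = z * g ∧ g • c = c' ∧ g • d = d'

section Small

variable {F : Type} [Field F]

local notation "SL₂" => Matrix.SpecialLinearGroup (Fin 2) F

theorem up_val' (x : F) : ((up x : SL₂) : Matrix (Fin 2) (Fin 2) F) = !![1, x; 0, 1] := rfl

variable [Fintype F]

theorem center_cases {x : SL₂} (hx : x ∈ center SL₂) : x = 1 ∨ x = -1 :=
  Dickson.proj_one_iff.1 (by rw [proj, QuotientGroup.mk'_apply, QuotientGroup.eq_one_iff]; exact hx)

/-- A subgroup of `PSL₂` whose order is a multiple of `q` contains a conjugate of the upper root group. -/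
theorem exists_conj_up (hodd : Odd (Fintype.card F))
    (H : Subgroup (Matrix.ProjectiveSpecialLinearGroup (Fin 2) F)) (h : Fintype.card F ∣ Nat.card H) :
    ∃ A : SL₂, ∀ x : F, proj (A * up x * A⁻¹) ∈ H := by
  obtain ⟨p, hp⟩ := CharP.exists F
  haveI : Fact p.Prime := ⟨CharP.char_is_prime F p⟩
  obtain ⟨n, -, hn⟩ := FiniteField.card F p
  let ψ : Multiplicative F →* SL₂ :=
    MonoidHom.mk' (fun x => up (Multiplicative.toAdd x)) fun a b => (Grp.SL2.up_mul _ _).symm
  let U : Subgroup (Matrix.ProjectiveSpecialLinearGroup (Fin 2) F) := (proj.comp ψ).range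
  have hinj : Function.Injective (proj.comp ψ) := by
    refine (injective_iff_map_eq_one _).2 fun x hx => ?_
    have h1 : IsScalar (up (Multiplicative.toAdd x) : SL₂) := Dickson.proj_one_iff.1 hx
    rcases h1 with h1 | h1
    · have := congrFun (congrFun (congrArg Subtype.val h1) 0) 1
      simpa [up_val'] using this
    · have := congrFun (congrFun (congrArg Subtype.val h1) 0) 1
      simpa [up_val'] using this
  have hU : Nat.card U = p ^ (n : ℕ) := by
    rw [← Nat.card_congr (MonoidHom.ofInjective hinj).toEquiv, ← hn, ← Nat.card_eq_fintype_card]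
    exact Nat.card_congr Multiplicative.toAdd
  have hnd : ∀ P : Subgroup (Matrix.ProjectiveSpecialLinearGroup (Fin 2) F), IsPGroup p P → p ^ (n : ℕ) ≤ Nat.card P →
      (Nat.card (Matrix.ProjectiveSpecialLinearGroup (Fin 2) F)).factorization p = (n : ℕ) ∧
        Nat.card P = p ^ (n : ℕ) := by
    intro P hP hle
    have hG := Invol.GW.card_PSLTwo (F := F) hodd
    have hq1 : 1 < Fintype.card F := Fintype.one_lt_card
    have hp2 : p ≠ 2 := fun e => by
      subst e
      rw [hn] at hodd
      exact absurd hodd (Nat.not_odd_iff_even.2 (Nat.even_pow.2 ⟨even_two, n.pos.ne'⟩))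
    have hpq : p ∣ Fintype.card F := hn ▸ dvd_pow_self p n.pos.ne'
    have hnp : ∀ m, (m = Fintype.card F - 1 ∨ m = Fintype.card F + 1) → ¬ p ∣ m := by
      intro m hm hdvd
      have h1 : p ∣ 1 := by
        rcases hm with rfl | rfl
        · have := Nat.dvd_sub hpq hdvd
          rwa [show Fintype.card F - (Fintype.card F - 1) = 1 by omega] at this
        · have := Nat.dvd_sub hdvd hpq
          rwa [show Fintype.card F + 1 - Fintype.card F = 1 by omega] at this
      exact (Fact.out : p.Prime).one_lt.ne' (Nat.dvd_one.1 h1)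
    have hne : Nat.card (Matrix.ProjectiveSpecialLinearGroup (Fin 2) F) ≠ 0 := Nat.card_pos.ne'
    have e1 : (Nat.card (Matrix.ProjectiveSpecialLinearGroup (Fin 2) F)).factorization p = (n : ℕ) := by
      have h2 := congrArg (fun m => m.factorization p) hG
      rw [Nat.factorization_mul two_ne_zero hne, Nat.factorization_mul (by omega) (Nat.mul_ne_zero (by omega) (by omega)),
        Nat.factorization_mul (by omega) (by omega)] at h2
      simp only [Finsupp.add_apply] at h2
      rw [Nat.factorization_eq_zero_of_not_dvd (fun hd => hp2 ((Nat.prime_dvd_prime_iff_eq Fact.out Nat.prime_two).1 hd)),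
        Nat.factorization_eq_zero_of_not_dvd (hnp _ (Or.inl rfl)),
        Nat.factorization_eq_zero_of_not_dvd (hnp _ (Or.inr rfl)), zero_add, add_zero, add_zero, hn,
        Nat.Prime.factorization_pow Fact.out, Finsupp.single_eq_same] at h2
      exact h2
    obtain ⟨k, hk⟩ := IsPGroup.iff_card.1 hP
    have hkn : k ≤ (n : ℕ) := e1 ▸ (Nat.Prime.pow_dvd_iff_le_factorization Fact.out hne).1 (hk ▸ P.card_subgroup_dvd_card)
    refine ⟨e1, le_antisymm ?_ hle⟩
    rw [hk]
    exact Nat.pow_le_pow_right (Fact.out : p.Prime).pos hkn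
  have hUp : IsPGroup p U := IsPGroup.of_card hU
  obtain ⟨P, hP⟩ := Sylow.exists_subgroup_card_pow_prime (G := H) p (hn ▸ h : p ^ (n : ℕ) ∣ Nat.card H)
  set P' := P.map H.subtype with hP'
  have hP'c : Nat.card P' = p ^ (n : ℕ) := by rw [hP', card_subtype, hP]
  obtain ⟨S, hS⟩ := hUp.exists_le_sylow
  obtain ⟨S', hS'⟩ := (IsPGroup.of_card hP'c).exists_le_sylow
  have eS : (S : Subgroup _) = U :=
    (Subgroup.eq_of_le_of_card_ge hS (by rw [hU, (hnd _ S.isPGroup' (hU ▸ card_le_of_le hS)).2])).symm
  have eS' : (S' : Subgroup _) = P' :=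
    (Subgroup.eq_of_le_of_card_ge hS' (by rw [hP'c, (hnd _ S'.isPGroup' (hP'c ▸ card_le_of_le hS')).2])).symm
  obtain ⟨g, hg⟩ := MulAction.exists_smul_eq (Matrix.ProjectiveSpecialLinearGroup (Fin 2) F) S S'
  obtain ⟨A, rfl⟩ := Dickson.proj_surjective g
  refine ⟨A, fun x => map_subtype_le P ?_⟩
  have h1 : proj A * proj (up x) * (proj A)⁻¹ ∈ MulAut.conj (proj A) • (S : Subgroup _) :=
    smul_mem_pointwise_smul _ _ _ (eS.symm ▸ ⟨Multiplicative.ofAdd x, rfl⟩ : proj (up x) ∈ (S : Subgroup _))
  rw [map_mul, map_mul, map_inv, ← hP', ← eS', ← hg]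
  exact h1

theorem perfect' (h5 : 5 ≤ Fintype.card F) : commutator SL₂ = ⊤ :=
  Classical.SL_commutator_eq_top fun _ => Classical.exists_sq_ne_one_field (by omega)

/-- A subgroup with two points of an orbit of the special linear group is everything. -/
theorem index_ne_two (h5 : 5 ≤ Fintype.card F) (H : Subgroup SL₂) : H.index ≠ 2 := fun e => by
  haveI := normal_of_index_eq_two e
  haveI : Fact (Nat.Prime 2) := ⟨Nat.prime_two⟩
  haveI : IsCyclic (SL₂ ⧸ H) := isCyclic_of_prime_card (p := 2) e
  have h1 : commutator SL₂ ≤ H := by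
    rw [_root_.commutator_def, commutator_le]
    intro x _ y _
    rw [← QuotientGroup.eq_one_iff, ← QuotientGroup.mk'_apply, map_commutatorElement,
      commutatorElement_eq_one_iff_mul_comm]
    exact IsCyclic.isMulCommutative.is_comm.comm _ _
  rw [perfect' h5, top_le_iff] at h1
  rw [h1, index_top] at e
  omega

end Small

variable {G : Type u} [Group G] [Finite G] {Ω : Type v} [Fintype Ω] [MulAction G Ω] [FaithfulSMul G Ω]
  [IsSimpleGroup G]

/-- A root group of the normal `SL₂(q)` of an involution centraliser fixes a point. -/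
theorem Deg.root_fixed (h : Deg G Ω) (hdeg : DegreeStmt) {F : Type} [Field F] [Fintype F]
    (hodd : Odd (Fintype.card F)) (h5 : 5 ≤ Fintype.card F) {z : G} (hz : orderOf z = 2) (h2 : Two Ω z)
    (θ : Matrix.SpecialLinearGroup (Fin 2) F →* G) (hneg : θ (-1) = z)
    (hnorm : ∀ c : G, c * z = z * c → ∀ A, ∃ B, θ B = c * θ A * c⁻¹)
    (hcard : (centralizer (θ.range : Set G)).relIndex (centralizer ({z} : Set G)) ∣
      Fintype.card F * ((Fintype.card F - 1) * (Fintype.card F + 1)))
    (hnine : Fintype.card F = 9 → ∃ c : G, c * z = z * c ∧ c ^ 16 = 1 ∧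
      c ^ 4 * θ (up 1) * (c ^ 4)⁻¹ = θ (up (-1))) :
    ∃ a : Ω, ∀ x : F, θ (up x) • a = a := by
  classical
  haveI := Fintype.ofFinite G
  set C := centralizer ({z} : Set G) with hC
  set K := centralizer (θ.range : Set G) ⊓ C with hK
  have hθC : ∀ A, θ A * z = z * θ A := fun A => by
    rw [← hneg, ← map_mul, ← map_mul, mul_neg_one, neg_one_mul]
  have hinv : ∀ g : G, g * z = z * g → ∀ c : Ω, z • c = c → z • g • c = g • c := fun g hg c hc => by
    rw [← mul_smul, ← hg, mul_smul, hc]
  obtain ⟨a, b, hab, hza, hzb⟩ := h.exists_fixed_pair hz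
  have htr : ∀ d : Ω, z • d = d → d ≠ a → ∃ g, g * z = z * g ∧ g • a = a ∧ g • b = d := fun d hd hda =>
    h2 a b a d hza hzb hza hd hab hda.symm
  have hanypair : ∀ c : Ω, z • c = c → ∃ g, g * z = z * g ∧ g • a = c := fun c hc => by
    obtain ⟨d, hd, hdc⟩ : ∃ d, z • d = d ∧ c ≠ d := by
      by_cases e : c = a
      · exact ⟨b, hzb, e ▸ hab⟩
      · exact ⟨a, hza, e⟩
    obtain ⟨g, h1, h2', -⟩ := h2 a b c d hza hzb hc hd hab hdc
    exact ⟨g, h1, h2'⟩
  by_cases hfix : ∀ A, θ A • a = a
  · exact ⟨a, fun x => hfix _⟩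
  push Not at hfix
  obtain ⟨A₀, hA₀⟩ := hfix
  -- transitive on the fixed points
  have horb : ∀ c : Ω, z • c = c → ∃ A, θ A • a = c := by
    intro c hc
    by_cases hca : c = a
    · exact ⟨1, by rw [map_one, one_smul, hca]⟩
    obtain ⟨g₁, e₁, e₁a, e₁b⟩ := htr _ (hinv _ (hθC A₀) a hza) hA₀
    obtain ⟨g₂, e₂, e₂a, e₂b⟩ := htr c hc hca
    have hg : (g₂ * g₁⁻¹) * z = z * (g₂ * g₁⁻¹) :=
      ((Commute.mul_left (show Commute g₂ z from e₂) ((show Commute g₁ z from e₁).inv_left)) :)
    obtain ⟨B, hB⟩ := hnorm _ hg A₀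
    refine ⟨B, ?_⟩
    have ei : g₁⁻¹ • a = a := by rw [inv_smul_eq_iff, e₁a]
    rw [hB, _root_.mul_inv_rev, inv_inv, mul_smul, mul_smul g₁, show g₂⁻¹ • a = a by rw [inv_smul_eq_iff, e₂a], e₁a,
      mul_smul, mul_smul, ← e₁b, inv_smul_smul, e₂b]
  -- the centraliser of the special linear group fixes all
  let H₀ : Subgroup (Matrix.SpecialLinearGroup (Fin 2) F) := (stabilizer G a).comap θ
  have hH₀ : ∀ {A}, A ∈ H₀ ↔ θ A • a = a := Iff.rfl
  set f := Nat.card ↥(Fx Ω z) with hf
  have hf4 : f % 4 = 2 := h.fixed_mod hz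
  have hidx : H₀.index = f := by
    letI : MulAction (Matrix.SpecialLinearGroup (Fin 2) F) Ω := MulAction.compHom Ω θ
    have e : H₀ = stabilizer (Matrix.SpecialLinearGroup (Fin 2) F) a := rfl
    rw [e, index_stabilizer, hf, Nat.card_coe_set_eq]
    refine congrArg Set.ncard (Set.ext fun c => ⟨?_, fun hc => ?_⟩)
    · rintro ⟨A, rfl⟩
      exact hinv _ (hθC A) a hza
    · obtain ⟨A, hA⟩ := horb c hc
      exact ⟨A, hA⟩
  have hm1 : (-1 : Matrix.SpecialLinearGroup (Fin 2) F) ∈ H₀ := hH₀.2 (by rw [hneg, hza])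
  set H := H₀.map proj with hH
  have hker : (proj : Matrix.SpecialLinearGroup (Fin 2) F →* _).ker ≤ H₀ := fun A hA => by
    rcases Dickson.proj_one_iff.1 (MonoidHom.mem_ker.1 hA) with rfl | rfl
    exacts [one_mem _, hm1]
  have hHidx : H.index = f := by
    rw [← hidx, hH, index_map_eq _ Dickson.proj_surjective hker]
  have hf2 : 2 < f := by
    by_contra hle
    exact index_ne_two h5 H₀ (by omega)
  have hKfix : ∀ k ∈ K, ∀ c : Ω, z • c = c → k • c = c := by
    intro k hk
    have hkA : ∀ A, k * θ A = θ A * k := fun A => (mem_centralizer_iff.1 hk.1 _ ⟨A, rfl⟩).symm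
    have hkz : k * z = z * k := hneg ▸ hkA (-1)
    intro c hc
    obtain ⟨A, rfl⟩ := horb c hc
    rw [← mul_smul, hkA, mul_smul]
    by_contra hne
    -- the point stabiliser fixes every point
    obtain ⟨d, hd⟩ : ∃ d, k • a = d := ⟨_, rfl⟩
    have hda : d ≠ a := fun e => hne (by rw [hd, e])
    have hsub : ∀ B ∈ H₀, B = 1 ∨ B = -1 := by
      intro B hB
      have hall : ∀ e : Ω, z • e = e → θ B • e = e := by
        intro e he
        by_cases hea : e = a
        · rw [hea]; exact hB
        obtain ⟨g, hg, hga, hgb⟩ := htr e he hea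
        obtain ⟨g', hg', hga', hgb'⟩ := htr d (hd ▸ hinv k hkz a hza) hda
        have hgg : (g' * g⁻¹) * z = z * (g' * g⁻¹) :=
          ((Commute.mul_left (show Commute g' z from hg') ((show Commute g z from hg).inv_left)) :)
        obtain ⟨B', hB'⟩ := hnorm _ hgg B
        have hca : (g' * g⁻¹)⁻¹ • a = a := by
          rw [inv_smul_eq_iff, mul_smul, show g⁻¹ • a = a by rw [inv_smul_eq_iff, hga], hga']
        have hce : (g' * g⁻¹)⁻¹ • d = e := by
          rw [inv_smul_eq_iff, mul_smul, show g⁻¹ • e = b by rw [inv_smul_eq_iff, hgb], hgb']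
        have hB'a : θ B' • a = a := by
          rw [hB', mul_smul, mul_smul, hca, hB, ← eq_inv_smul_iff, hca]
        have hB'd : θ B' • d = d := by
          rw [← hd, ← mul_smul, ← hkA, mul_smul, hB'a]
        rw [hB', mul_smul, mul_smul, hce, ← eq_inv_smul_iff, hce] at hB'd
        exact hB'd
      let N : Subgroup (Matrix.SpecialLinearGroup (Fin 2) F) :=
        { carrier := {B | ∀ e : Ω, z • e = e → θ B • e = e}
          one_mem' := fun e _ => by rw [map_one, one_smul]
          mul_mem' := fun {x y} hx hy e he => by rw [map_mul, mul_smul, hy e he, hx e he]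
          inv_mem' := fun {x} hx e he => by rw [map_inv, inv_smul_eq_iff, hx e he] }
      haveI : N.Normal := ⟨fun x hx g e he => by
        rw [map_mul, map_mul, map_inv, mul_smul, mul_smul, hx _ (by rw [← map_inv]; exact hinv _ (hθC _) e he),
          smul_inv_smul]⟩
      haveI : IsSimpleGroup (Matrix.ProjectiveSpecialLinearGroup (Fin 2) F) :=
        Classical.PSL_isSimple le_rfl fun _ => by omega
      by_cases hN : N ≤ center (Matrix.SpecialLinearGroup (Fin 2) F)
      · exact center_cases (hN hall)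
      · exfalso
        have := Classical.SL_normal_eq_top (perfect' h5) N hN
        exact hA₀ ((this ▸ mem_top A₀ : A₀ ∈ N) a hza)
    have hH1 : H = ⊥ := by
      rw [hH, Subgroup.map_eq_bot_iff]
      intro B hB
      exact MonoidHom.mem_ker.2 (Dickson.proj_one_iff.2 (hsub B hB))
    rw [hH1, index_bot] at hHidx
    have hG := Invol.GW.card_PSLTwo (F := F) hodd
    obtain ⟨s, hs⟩ := hodd
    obtain ⟨w, hw⟩ := Nat.even_mul_succ_self s
    rw [hHidx, hs, Nat.add_sub_cancel, show (2 * s + 1) * (2 * s * (2 * s + 1 + 1)) =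
      4 * ((2 * s + 1) * (s * (s + 1))) by ring, hw] at hG
    have : f = 4 * ((2 * s + 1) * w) := by linarith
    omega
  -- counting the pairs
  have hdvd : f * (f - 1) ∣ Fintype.card F * ((Fintype.card F - 1) * (Fintype.card F + 1)) := by
    refine dvd_trans ?_ hcard
    have h1 := card_eq_pairs C (offPairs (Fx Ω z)) (a := a) (b := b) ⟨hab, hza, hzb⟩
      (fun g hg => ⟨fun e => hab (smul_left_cancel g e), hinv g (mem_centralizer_singleton_iff.1 hg) a hza,
        hinv g (mem_centralizer_singleton_iff.1 hg) b hzb⟩)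
      (fun p hp => by
        obtain ⟨g, hg, hga, hgb⟩ := h2 a b p.1 p.2 hza hzb hp.2.1 hp.2.2 hab hp.1
        exact ⟨g, mem_centralizer_singleton_iff.2 hg, Prod.ext hga hgb⟩)
    rw [card_offPairs, ← hf] at h1
    have h3 : Nat.card ↥K * K.relIndex C = Nat.card ↥C := Grp.card_mul_relIndex inf_le_right
    have h4 : Nat.card ↥K ∣ Nat.card ↥(C ⊓ pairStab G a b : Subgroup G) :=
      card_dvd_of_le fun k hk => ⟨hk.2, hKfix k hk a hza, hKfix k hk b hzb⟩
    obtain ⟨j, hj⟩ := h4
    rw [hj] at h1
    have h5' : Nat.card ↥K * K.relIndex C = Nat.card ↥K * (f * (f - 1) * j) := by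
      rw [h3, h1]; ring
    have h6 := Nat.eq_of_mul_eq_mul_left Nat.card_pos h5'
    rw [hK, inf_relIndex_right] at h6
    exact ⟨j, h6⟩
  have hd : H.index - 1 ∣ Nat.card H := by
    rw [hHidx]
    rw [← Invol.GW.card_PSLTwo hodd, ← card_mul_index H, hHidx,
      show 2 * (Nat.card H * f) = f * (2 * Nat.card H) by ring] at hdvd
    have h7 := Nat.dvd_of_mul_dvd_mul_left (by omega) hdvd
    refine Nat.Coprime.dvd_of_dvd_mul_left ?_ h7
    rw [Nat.coprime_two_right, Nat.odd_iff]
    omega
  rcases hdeg F hodd h5 H (by rw [hHidx]; exact hf4) (by rw [hHidx]; exact hf2) hd with hq | ⟨h9, h6⟩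
  · obtain ⟨A, hA⟩ := exists_conj_up hodd H hq
    refine ⟨θ A⁻¹ • a, fun x => ?_⟩
    obtain ⟨B, hB, e⟩ := hA x
    have hmem : A * up x * A⁻¹ ∈ H₀ := by
      rcases Dickson.proj_eq_iff.1 e with e' | e'
      · exact e' ▸ hB
      · have := mul_mem hm1 hB
        rwa [neg_one_mul, ← e'] at this
    have h1 := hH₀.1 hmem
    rw [map_mul, map_mul, mul_smul, mul_smul, map_inv] at h1
    rw [map_inv, eq_inv_smul_iff, h1]
  · exfalso
    obtain ⟨c, hcz, hc16, hc4⟩ := hnine h9
    have hf6 : f = 6 := hHidx ▸ h6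
    have hc4fix : ∀ e : Ω, z • e = e → c ^ 4 • e = e := by
      intro e he
      let P : Set Ω := Fx Ω z
      have hstab : ∀ k : ℕ, c ^ k • e ∈ P := fun k =>
        hinv _ ((show Commute c z from hcz).pow_left k) e he
      -- the orbit has 2-power size at most six
      haveI : Fact (Nat.Prime 2) := ⟨Nat.prime_two⟩
      have hper : Function.minimalPeriod (c • ·) e ∣ 16 := by
        rw [← pow_smul_eq_iff_minimalPeriod_dvd, hc16, one_smul]
      obtain ⟨i, hi, hm⟩ := (Nat.dvd_prime_pow Nat.prime_two).1 (show Function.minimalPeriod (c • ·) e ∣ 2 ^ 4 from hper)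
      rw [pow_smul_eq_iff_minimalPeriod_dvd, hm]
      refine pow_dvd_pow 2 ?_ (n := 2) |>.trans (by norm_num)
      by_contra hi2
      have h8 : 8 ≤ 2 ^ i := le_trans (by norm_num : 8 ≤ 2 ^ 3) (Nat.pow_le_pow_right (by norm_num) (by omega))
      have hle : Function.minimalPeriod (c • ·) e ≤ Nat.card ↥P := by
        have hinj : Function.Injective fun k : Fin (Function.minimalPeriod (c • ·) e) =>
            (⟨c ^ (k : ℕ) • e, hstab _⟩ : P) := fun j k hjk => Fin.ext (by
          have h1 := congrArg Subtype.val hjk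
          simp only [← smul_iterate_apply c] at h1
          exact Function.iterate_injOn_Iio_minimalPeriod j.2 k.2 h1)
        simpa using Nat.card_le_card_of_injective _ hinj
      rw [hm, show Nat.card ↥P = 6 from hf6] at hle
      omega
    let N : Subgroup (Matrix.SpecialLinearGroup (Fin 2) F) :=
      { carrier := {B | ∀ e : Ω, z • e = e → θ B • e = e}
        one_mem' := fun e _ => by rw [map_one, one_smul]
        mul_mem' := fun {x y} hx hy e he => by rw [map_mul, mul_smul, hy e he, hx e he]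
        inv_mem' := fun {x} hx e he => by rw [map_inv, inv_smul_eq_iff, hx e he] }
    haveI : N.Normal := ⟨fun x hx g e he => by
      rw [map_mul, map_mul, map_inv, mul_smul, mul_smul, hx _ (by rw [← map_inv]; exact hinv _ (hθC _) e he),
        smul_inv_smul]⟩
    haveI : IsSimpleGroup (Matrix.ProjectiveSpecialLinearGroup (Fin 2) F) :=
      Classical.PSL_isSimple le_rfl fun _ => by omega
    have hN : ¬ N ≤ center (Matrix.SpecialLinearGroup (Fin 2) F) := by
      intro hN
      have hx : (up (-1) : Matrix.SpecialLinearGroup (Fin 2) F) * (up 1)⁻¹ ∈ N := by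
        intro e he
        have hc4z : c ^ 4 * z = z * c ^ 4 := ((show Commute c z from hcz).pow_left 4 :)
        have hi4 : ∀ d : Ω, z • d = d → (c ^ 4)⁻¹ • d = d := fun d hd => by
          rw [inv_smul_eq_iff, hc4fix d hd]
        rw [map_mul, ← hc4, map_inv, mul_smul, mul_smul, mul_smul,
          hi4 _ (by rw [← map_inv]; exact hinv _ (hθC _) e he), smul_inv_smul, hc4fix e he]
      rcases center_cases (hN hx) with e | e
      · rw [mul_inv_eq_one] at e
        have h1 := congrArg (fun X : Matrix.SpecialLinearGroup (Fin 2) F => (X : Matrix (Fin 2) (Fin 2) F) 0 1) e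
        simp [up_val'] at h1
        exact (Dickson.two_ne_zero_of_odd_card hodd) (by linear_combination -h1)
      · rw [mul_inv_eq_iff_eq_mul] at e
        have h1 := congrArg (fun X : Matrix.SpecialLinearGroup (Fin 2) F => (X : Matrix (Fin 2) (Fin 2) F) 0 0) e
        simp [up_val'] at h1
        exact (Dickson.two_ne_zero_of_odd_card hodd) (by linear_combination h1)
    exact hA₀ ((Classical.SL_normal_eq_top (perfect' h5) N hN ▸ mem_top A₀ : A₀ ∈ N) a hza)

end Cfsg.Agent.Fus.TwoModFour
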